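import Cfsg.Agent.Degree11.Check

/-!
The affine normaliser of an 11-cycle and the normaliser of its multiplier of order five.
-/

set_option autoImplicit false

namespace Cfsg.Lib.Deg11

open Equiv

/-- The standard 11-cycle. -/
def cP : Perm (Fin 11) := finRotate 11

/-- Multiplication by a unit. -/
def mulP (a : ℕ) (b : ℕ) (h : (a * b) % 11 = 1) : Perm (Fin 11) where
  toFun x := ⟨a * x.val % 11, Nat.mod_lt _ (by norm_num)⟩
  invFun x := ⟨b * x.val % 11, Nat.mod_lt _ (by norm_num)⟩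
  left_inv x := Fin.ext (by
    simp only
    rw [Nat.mul_mod, Nat.mod_mod, ← Nat.mul_mod, ← mul_assoc, Nat.mul_mod, mul_comm b a, h, one_mul, Nat.mod_mod,
      Nat.mod_eq_of_lt x.isLt])
  right_inv x := Fin.ext (by
    simp only
    rw [Nat.mul_mod, Nat.mod_mod, ← Nat.mul_mod, ← mul_assoc, Nat.mul_mod, h, one_mul, Nat.mod_mod,
      Nat.mod_eq_of_lt x.isLt])

/-- The element of order five. -/
def sP : Perm (Fin 11) := mulP 3 4 rfl

/-- The reflection. -/
def xP : Perm (Fin 11) := mulP 10 10 rfl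

theorem pl_cP : pl cP = cL := by decide +kernel

theorem pl_sP : pl sP = sL := by decide +kernel

theorem pl_xP : pl xP = xL := by decide +kernel

theorem sign_xP : Perm.sign xP = -1 := by decide +kernel

theorem sign_cP : Perm.sign cP = 1 := by decide +kernel

theorem cP_pow11 : cP ^ 11 = 1 := pl_injective (by rw [pl_pow, pl_cP, pl_one]; decide +kernel)

theorem sP_pow5 : sP ^ 5 = 1 := pl_injective (by rw [pl_pow, pl_sP, pl_one]; decide +kernel)

theorem orderOf_cP : orderOf cP = 11 := by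
  haveI : Fact (Nat.Prime 11) := ⟨by norm_num⟩
  exact orderOf_eq_prime cP_pow11 (fun h => absurd (congrArg pl h) (by rw [pl_cP, pl_one]; decide))

theorem orderOf_sP : orderOf sP = 5 := by
  haveI : Fact (Nat.Prime 5) := ⟨by norm_num⟩
  exact orderOf_eq_prime sP_pow5 (fun h => absurd (congrArg pl h) (by rw [pl_sP, pl_one]; decide))

theorem cP_val (x : Fin 11) : (cP x).val = (x.val + 1) % 11 := by
  revert x
  decide +kernel

theorem cP_pow_val : ∀ (k : ℕ) (x : Fin 11), ((cP ^ k) x).val = (x.val + k) % 11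
  | 0, x => by simp [Nat.mod_eq_of_lt x.isLt]
  | k + 1, x => by
    rw [pow_succ', Perm.mul_apply, cP_val, cP_pow_val k x]
    omega

theorem sP_pow_val : ∀ (k : ℕ) (x : Fin 11), ((sP ^ k) x).val = 3 ^ k * x.val % 11
  | 0, x => by simp [Nat.mod_eq_of_lt x.isLt]
  | k + 1, x => by
    rw [pow_succ' sP, Perm.mul_apply]
    show 3 * ((sP ^ k) x).val % 11 = _
    rw [sP_pow_val k x, Nat.mul_mod, Nat.mod_mod, ← Nat.mul_mod]
    ring_nf

/-- A permutation normalising the group of the 11-cycle is affine. -/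
theorem affine_of_normalizes {g : Perm (Fin 11)} (h : g * cP * g⁻¹ ∈ Subgroup.zpowers cP) :
    ∃ a < 11, ∃ b < 11, a ≠ 0 ∧ pl g = affL a b := by
  obtain ⟨n, hn, he⟩ : ∃ n < 11, g * cP * g⁻¹ = cP ^ n := by
    obtain ⟨n, hn⟩ := (mem_powers_iff_mem_zpowers).2 h
    refine ⟨n % 11, Nat.mod_lt _ (by norm_num), (show cP ^ n = g * cP * g⁻¹ from hn).symm.trans ?_⟩
    rw [← pow_mod_orderOf cP n, orderOf_cP]
  have hk : ∀ k : ℕ, g * cP ^ k = cP ^ (n * k) * g := fun k => by
    rw [pow_mul, ← he, conj_pow]; group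
  have hval : ∀ x : Fin 11, (g x).val = ((g 0).val + n * x.val) % 11 := fun x => by
    have h0 : (cP ^ x.val) 0 = x := Fin.ext (by rw [cP_pow_val]; simp [Nat.mod_eq_of_lt x.isLt])
    have := congrArg (fun f : Perm (Fin 11) => (f 0).val) (hk x.val)
    simp only [Perm.mul_apply, h0, cP_pow_val] at this
    rw [this]
  refine ⟨n, hn, (g 0).val, (g 0).isLt, fun h0 => ?_, ?_⟩
  · subst h0
    have h1 := hval 1
    rw [zero_mul, add_zero, Nat.mod_eq_of_lt (g 0).isLt] at h1
    exact absurd (g.injective (Fin.ext h1)) (by decide)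
  · refine List.ext_getElem (by simp [pl, affL]) fun k h₁ h₂ => ?_
    have hk' : k < 11 := by simpa [pl] using h₁
    simp only [pl, affL, List.getElem_ofFn, List.getElem_map, List.getElem_range]
    exact hval ⟨k, hk'⟩

theorem find_cases : ∀ k < 11, k ≠ 0 →
    (∃ i < 5, (List.range 5).find? (fun i => 3 ^ i % 11 == k) = some i ∧ 3 ^ i % 11 = k) ∨
      ((List.range 5).find? (fun i => 3 ^ i % 11 == k) = none ∧
        ∃ i < 5, (List.range 5).find? (fun i => 2 * 3 ^ i % 11 == k) = some i ∧ 2 * 3 ^ i % 11 = k) := by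
  decide +kernel

/-- A permutation normalising the group of order five is one of the candidates. -/
theorem candidate_of_normalizes {g : Perm (Fin 11)} (h : g * sP * g⁻¹ ∈ Subgroup.zpowers sP) :
    ∃ j < 5, ∃ a < 11, ∃ b < 11, j ≠ 0 ∧ a ≠ 0 ∧ b ≠ 0 ∧ pl g = mkN j a b := by
  obtain ⟨j, hj, he⟩ : ∃ j < 5, g * sP * g⁻¹ = sP ^ j := by
    obtain ⟨n, hn⟩ := (mem_powers_iff_mem_zpowers).2 h
    refine ⟨n % 5, Nat.mod_lt _ (by norm_num), (show sP ^ n = g * sP * g⁻¹ from hn).symm.trans ?_⟩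
    rw [← pow_mod_orderOf sP n, orderOf_sP]
  have hk : ∀ k : ℕ, g * sP ^ k = sP ^ (j * k) * g := fun k => by
    rw [pow_mul, ← he, conj_pow]; group
  have hj0 : j ≠ 0 := by
    rintro rfl
    rw [pow_zero, mul_inv_eq_one, mul_eq_left] at he
    exact absurd (congrArg pl he) (by rw [pl_sP, pl_one]; decide)
  have hval : ∀ (k : ℕ) (x y : Fin 11), y.val = 3 ^ k * x.val % 11 →
      (g y).val = 3 ^ (j * k) * (g x).val % 11 := fun k x y hy => by
    have e : (sP ^ k) x = y := Fin.ext (by rw [sP_pow_val, hy])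
    have := congrArg (fun f : Perm (Fin 11) => (f x).val) (hk k)
    simp only [Perm.mul_apply, e, sP_pow_val] at this
    rw [this]
  have g0 : g 0 = 0 := by
    have h3 := hval 1 0 0 rfl
    rw [mul_one] at h3
    have : j = 1 ∨ j = 2 ∨ j = 3 ∨ j = 4 := by omega
    revert h3
    generalize g 0 = z
    rcases this with rfl | rfl | rfl | rfl <;> revert z <;> decide
  refine ⟨j, hj, (g 1).val, (g 1).isLt, (g 2).val, (g 2).isLt, hj0,
    fun h0 => absurd (g.injective ((Fin.ext h0 : g 1 = 0).trans g0.symm)) (by decide),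
    fun h0 => absurd (g.injective ((Fin.ext h0 : g 2 = 0).trans g0.symm)) (by decide), ?_⟩
  refine List.ext_getElem (by simp [pl, mkN]) fun k h₁ h₂ => ?_
  have hk' : k < 11 := by simpa [pl] using h₁
  simp only [pl, mkN, List.getElem_ofFn, List.getElem_map, List.getElem_range]
  have hne : k = 0 ∨ k ≠ 0 := eq_or_ne k 0
  rcases hne with rfl | hne
  · simpa using congrArg Fin.val g0
  rw [if_neg hne]
  rcases find_cases k hk' hne with ⟨i, -, hf, hi⟩ | ⟨hnone, i, -, hf, hi⟩
  · simp only [hf]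
    show (g ⟨k, _⟩).val = _
    rw [hval i 1 ⟨k, hk'⟩ (by rw [show ((1 : Fin 11) : ℕ) = 1 from rfl, mul_one, hi])]
    simp [Nat.mul_mod]
  · simp only [hnone, hf]
    show (g ⟨k, _⟩).val = _
    rw [hval i 2 ⟨k, hk'⟩ (by rw [show ((2 : Fin 11) : ℕ) = 2 from rfl, mul_comm, hi])]
    simp [Nat.mul_mod]

end Cfsg.Lib.Deg11
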