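import Mathlib.Data.List.Basic

/-!
Certificate data for the transitive groups of degree eleven.
-/

set_option autoImplicit false

namespace Cfsg.Lib.Deg11

/-- Certificate data. -/
def cL : List ℕ := [1,2,3,4,5,6,7,8,9,10,0]

/-- Certificate data. -/
def sL : List ℕ := [0,3,6,9,1,4,7,10,2,5,8]

/-- Certificate data. -/
def xL : List ℕ := [0,10,9,8,7,6,5,4,3,2,1]

/-- Certificate data. -/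
def badD : List ((ℕ × ℕ × ℕ) × List ℕ × ℕ) := [((1,1,6),[2,1,0,0],7),
  ((1,1,7),[2,0,0],7),
  ((1,1,8),[2,2,0],7),
  ((1,1,10),[2,0],7),
  ((1,3,2),[2,1,0],7),
  ((1,3,7),[2,0,0],7),
  ((1,3,8),[2,1,0],7),
  ((1,3,10),[2,0],4),
  ((1,4,2),[2,2,0,0],7),
  ((1,4,6),[2,2,0],4),
  ((1,4,7),[2,0,0],4),
  ((1,4,10),[2,0],7),
  ((1,5,2),[2,0,0],7),
  ((1,5,6),[2,0,0],4),
  ((1,5,7),[2,0],4),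
  ((1,5,8),[2,0,0],7),
  ((1,9,2),[2,0],7),
  ((1,9,6),[2,0],7),
  ((1,9,8),[2,0],4),
  ((1,9,10),[2,0,0],4),
  ((2,1,2),[2,1,0],7),
  ((2,1,7),[2,0,0],7),
  ((2,1,8),[2,0,0],7),
  ((2,3,2),[2,1,0],5),
  ((2,3,6),[1,2,0],7),
  ((2,3,10),[2,0,0],4),
  ((2,4,6),[2,1,0,0],4),
  ((2,4,8),[2,0],7),
  ((2,4,10),[1,2,0,0],7),
  ((2,5,2),[2,0],4),
  ((2,5,7),[2,0],5),
  ((2,5,10),[2,0,0],5),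
  ((2,9,6),[1,2,0],5),
  ((2,9,7),[2,0],7),
  ((2,9,8),[2,0],7),
  ((3,1,2),[2,0],5),
  ((3,1,8),[2,0,0],7),
  ((3,1,10),[2,0],7),
  ((3,3,2),[2,0],4),
  ((3,3,6),[2,1,0,0],7),
  ((3,3,8),[2,1,0],7),
  ((3,4,7),[2,0],7),
  ((3,4,8),[2,0,0],7),
  ((3,4,10),[2,0],7),
  ((3,5,6),[1,2,0],7),
  ((3,5,7),[2,1,0],4),
  ((3,5,10),[2,0,0,0],5),
  ((3,9,2),[2,0,0],5),
  ((3,9,6),[2,0,0],4),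
  ((3,9,7),[2,1,0],5),
  ((4,1,2),[1,2,0,2,0,0],7),
  ((4,1,6),[2,0,0,0],4),
  ((4,1,7),[2,1,0,2,0,0],7),
  ((4,3,6),[2,0,2,1,0,0],7),
  ((4,3,7),[1,2,0,0],4),
  ((4,3,10),[2,0,2,1,0,0],4),
  ((4,4,2),[2,1,0],4),
  ((4,4,6),[2,0,1,2,0,0],7),
  ((4,4,8),[2,1,0,2,0,0],4),
  ((4,5,2),[2,0,2,1,0,0],4),
  ((4,5,8),[2,0],4),
  ((4,5,10),[2,0,1,2,0,0],4),
  ((4,9,7),[2,0,2,1,0,0],7),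
  ((4,9,8),[1,2,0,2,0,0],4),
  ((4,9,10),[2,0,0],4),
  ((1,2,1),[2,1,1,0,0],4),
  ((1,2,3),[2,1,0],10),
  ((1,2,5),[2,2,2,0],4),
  ((1,2,9),[2,0],10),
  ((1,6,3),[2,1,0,0],4),
  ((1,6,4),[2,1,1,0],4),
  ((1,6,5),[2,2,2,0],10),
  ((1,6,9),[2,0],10),
  ((1,7,1),[2,1,0],4),
  ((1,7,4),[2,1,0,0],10),
  ((1,7,5),[2,1,0,0],10),
  ((1,7,9),[2,0,0],4),
  ((1,8,1),[2,1,1,0],10),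
  ((1,8,3),[2,1,0],10),
  ((1,8,4),[2,2,2,0,0],4),
  ((1,8,9),[2,0,0],4),
  ((1,10,1),[2,0,0],10),
  ((1,10,3),[2,0],4),
  ((1,10,4),[2,0,0],10),
  ((1,10,5),[2,0],4),
  ((2,2,1),[2,1,1,0],8),
  ((2,2,3),[1,2,0,0],10),
  ((2,2,4),[2,0,0],10),
  ((2,2,5),[2,0],10),
  ((2,2,9),[1,2,0,0],8),
  ((2,6,1),[1,2,1,0],4),
  ((2,6,3),[1,2,1,0],8),
  ((2,6,4),[2,1,1,0],10),
  ((2,6,5),[2,0,0],8),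
  ((2,6,9),[2,0,0],10),
  ((2,7,1),[2,1,0],8),
  ((2,7,3),[2,1,0],4),
  ((2,7,4),[2,1,1,0,0],8),
  ((2,7,5),[1,2,0],10),
  ((2,7,9),[2,1,0],8),
  ((2,8,1),[2,2,0],4),
  ((2,8,3),[2,1,0,0],8),
  ((2,8,4),[2,0],8),
  ((2,8,5),[2,0],4),
  ((2,8,9),[2,0],8),
  ((2,10,1),[2,2,2,0],8),
  ((2,10,3),[2,1,0],10),
  ((2,10,4),[2,0],10),
  ((2,10,5),[1,2,0],8),
  ((2,10,9),[1,2,0],4),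
  ((3,2,1),[1,2,1,0,0],8),
  ((3,2,3),[2,0],8),
  ((3,2,4),[2,0],4),
  ((3,2,5),[2,1,0],10),
  ((3,2,9),[2,0],8),
  ((3,6,1),[1,2,0,0],10),
  ((3,6,3),[2,1,0,0],8),
  ((3,6,4),[2,0,0,0],10),
  ((3,6,5),[1,2,0],10),
  ((3,6,9),[2,0,1,0],8),
  ((3,7,1),[1,2,0],10),
  ((3,7,3),[2,0,0],10),
  ((3,7,4),[2,0],10),
  ((3,7,5),[2,1,0],8),
  ((3,7,9),[1,1,2,0,0],8),
  ((3,8,1),[1,2,0],8),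
  ((3,8,3),[2,1,0],10),
  ((3,8,4),[2,0,0],8),
  ((3,8,5),[1,2,0],4),
  ((3,8,9),[2,0,0],10),
  ((3,10,1),[2,0,0,0],8),
  ((3,10,3),[2,0],10),
  ((3,10,4),[2,0,0,0],8),
  ((3,10,5),[1,2,0,0],8),
  ((3,10,9),[2,0,0,0],4),
  ((4,2,1),[2,0,2,1,0],2),
  ((4,2,3),[2,2,1,0],7),
  ((4,2,4),[2,1,0],8),
  ((4,2,5),[2,0],4),
  ((4,2,9),[2,2,0,0],4),
  ((4,6,1),[2,0,0,0],8),
  ((4,6,3),[2,0,2,1,0],7),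
  ((4,6,4),[2,1,0],4),
  ((4,6,5),[1,2,0,0],4),
  ((4,6,9),[1,2,0],8),
  ((4,7,1),[2,2,0],4),
  ((4,7,3),[2,0,0],8),
  ((4,7,4),[2,0,0],4),
  ((4,7,5),[2,0],8),
  ((4,7,9),[1,2,0,2,1,0],5),
  ((4,8,1),[2,0,0,0],8),
  ((4,8,3),[2,2,0,0],4),
  ((4,8,4),[1,2,0,2,0],2),
  ((4,8,5),[2,0],8),
  ((4,8,9),[1,2,0],4),
  ((4,10,1),[2,1,0,0],4),
  ((4,10,3),[2,2,0],4),
  ((4,10,4),[2,1,0],8),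
  ((4,10,5),[2,0,2,0,0],2),
  ((4,10,9),[1,2,0],8)]

/-- Certificate data. -/
def oddD : List (ℕ × ℕ × ℕ) := [(1,2,4),
  (1,6,1),
  (1,7,3),
  (1,8,5),
  (1,10,9)]

/-- Certificate data. -/
def fiveD : List (List ℕ × List ℕ × ℕ) := [([1,0,2,3,4,5,6,7,8,9,10],[1,0,0,0,0],8),
  ([1,0,2,3,4,5,6,7,8,10,9],[1,0,1,0,0],4),
  ([1,0,2,3,4,5,6,7,9,8,10],[1,0,1,0,0],4),
  ([1,0,2,3,4,5,6,7,9,10,8],[1],2),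
  ([1,0,2,3,4,5,6,7,10,8,9],[1],2),
  ([1,0,2,3,4,5,6,7,10,9,8],[1,0,0,0],4),
  ([1,0,2,3,4,5,6,8,7,9,10],[1,0,0,0],4),
  ([1,0,2,3,4,5,6,8,7,10,9],[1,0,0,0],8),
  ([1,0,2,3,4,5,6,8,9,7,10],[1],2),
  ([1,0,2,3,4,5,6,8,9,10,7],[1,0,0,0],7),
  ([1,0,2,3,4,5,6,8,10,7,9],[1,0,1,1,1,0,0],4),
  ([1,0,2,3,4,5,6,8,10,9,7],[1],2),
  ([1,0,2,3,4,5,6,9,7,8,10],[1],2),
  ([1,0,2,3,4,5,6,9,7,10,8],[1,1,0,1,0,0],7),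
  ([1,0,2,3,4,5,6,9,8,7,10],[1,0,0,0,1,0,0,0,0,0],4),
  ([1,0,2,3,4,5,6,9,8,10,7],[1],2),
  ([1,0,2,3,4,5,6,9,10,7,8],[1,0,0,0],8),
  ([1,0,2,3,4,5,6,9,10,8,7],[1,0,0,0],7),
  ([1,0,2,3,4,5,6,10,7,8,9],[1,1,1,0,0,0],7),
  ([1,0,2,3,4,5,6,10,7,9,8],[1],2),
  ([1,0,2,3,4,5,6,10,8,7,9],[1],2),
  ([1,0,2,3,4,5,6,10,8,9,7],[1,0],7),
  ([1,0,2,3,4,5,6,10,9,7,8],[1,0],7),
  ([1,0,2,3,4,5,6,10,9,8,7],[1,0,0,0,0,0],4),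
  ([1,0,2,3,4,5,7,6,8,9,10],[1,0,1,0,0],4),
  ([1,0,2,3,4,5,7,6,8,10,9],[1,0,0,0,0],8),
  ([1,0,2,3,4,5,7,6,9,8,10],[1,0,0,0,0],8),
  ([1,0,2,3,4,5,7,6,9,10,8],[1],2),
  ([1,0,2,3,4,5,7,6,10,8,9],[1],2),
  ([1,0,2,3,4,5,7,6,10,9,8],[1,0,0,0],8),
  ([1,0,2,3,4,5,7,8,6,9,10],[1],2),
  ([1,0,2,3,4,5,7,8,6,10,9],[1],2),
  ([1,0,2,3,4,5,7,8,9,6,10],[1,0,0,0],7),
  ([1,0,2,3,4,5,7,8,9,10,6],[1,0,0,0],8),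
  ([1,0,2,3,4,5,7,8,10,6,9],[1,1,1,0,1,0],7),
  ([1,0,2,3,4,5,7,8,10,9,6],[1,0],7),
  ([1,0,2,3,4,5,7,9,6,8,10],[1,0,1,0,0,0,0],4),
  ([1,0,2,3,4,5,7,9,6,10,8],[1,1,0,0],4),
  ([1,0,2,3,4,5,7,9,8,6,10],[1],2),
  ([1,0,2,3,4,5,7,9,8,10,6],[1,1,0,0],4),
  ([1,0,2,3,4,5,7,9,10,6,8],[1],2),
  ([1,0,2,3,4,5,7,9,10,8,6],[1,0,0,0],8),
  ([1,0,2,3,4,5,7,10,6,8,9],[1,1,0],7),
  ([1,0,2,3,4,5,7,10,6,9,8],[1,1,0],7),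
  ([1,0,2,3,4,5,7,10,8,6,9],[1,1,0,1,0],7),
  ([1,0,2,3,4,5,7,10,8,9,6],[1],2),
  ([1,0,2,3,4,5,7,10,9,6,8],[1,1,0],7),
  ([1,0,2,3,4,5,7,10,9,8,6],[1],2),
  ([1,0,2,3,4,5,8,6,7,9,10],[1],2),
  ([1,0,2,3,4,5,8,6,7,10,9],[1],2),
  ([1,0,2,3,4,5,8,6,9,7,10],[1,1,1,0,1,0,0,0],7),
  ([1,0,2,3,4,5,8,6,9,10,7],[1,0,0,0,0,0],4),
  ([1,0,2,3,4,5,8,6,10,7,9],[1,0,0,0],8),
  ([1,0,2,3,4,5,8,6,10,9,7],[1,1,0],7),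
  ([1,0,2,3,4,5,8,7,6,9,10],[1,0,0,1,0,1,0,0,0],4),
  ([1,0,2,3,4,5,8,7,6,10,9],[1,0,1,0,0,0,0],4),
  ([1,0,2,3,4,5,8,7,9,6,10],[1],2),
  ([1,0,2,3,4,5,8,7,9,10,6],[1,0],7),
  ([1,0,2,3,4,5,8,7,10,6,9],[1,1,0],7),
  ([1,0,2,3,4,5,8,7,10,9,6],[1],2),
  ([1,0,2,3,4,5,8,9,6,7,10],[1,0,0,0,0],8),
  ([1,0,2,3,4,5,8,9,6,10,7],[1],2),
  ([1,0,2,3,4,5,8,9,7,6,10],[1,1,1,0],7),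
  ([1,0,2,3,4,5,8,9,7,10,6],[1,1,1,1,0],7),
  ([1,0,2,3,4,5,8,9,10,6,7],[1,0,1,0,0],4),
  ([1,0,2,3,4,5,8,9,10,7,6],[1],2),
  ([1,0,2,3,4,5,8,10,6,7,9],[1],2),
  ([1,0,2,3,4,5,8,10,6,9,7],[1,0,0,0,0,0],8),
  ([1,0,2,3,4,5,8,10,7,6,9],[1,1,0,0,0,0],7),
  ([1,0,2,3,4,5,8,10,7,9,6],[1,1,0,0,0],4),
  ([1,0,2,3,4,5,8,10,9,6,7],[1],2),
  ([1,0,2,3,4,5,8,10,9,7,6],[1,0,0,0,0],10),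
  ([1,0,2,3,4,5,9,6,7,8,10],[1,0,0,0],4),
  ([1,0,2,3,4,5,9,6,7,10,8],[1,1,0],7),
  ([1,0,2,3,4,5,9,6,8,7,10],[1],2),
  ([1,0,2,3,4,5,9,6,8,10,7],[1,0,0,0],7),
  ([1,0,2,3,4,5,9,6,10,7,8],[1],2),
  ([1,0,2,3,4,5,9,6,10,8,7],[1,0,0,0,0,0],8),
  ([1,0,2,3,4,5,9,7,6,8,10],[1],2),
  ([1,0,2,3,4,5,9,7,6,10,8],[1,1,0],7),
  ([1,0,2,3,4,5,9,7,8,6,10],[1,0],7),
  ([1,0,2,3,4,5,9,7,8,10,6],[1],2),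
  ([1,0,2,3,4,5,9,7,10,6,8],[1,0,1,0,0,0,0,0],4),
  ([1,0,2,3,4,5,9,7,10,8,6],[1,1,0,0,0],4),
  ([1,0,2,3,4,5,9,8,6,7,10],[1,0],7),
  ([1,0,2,3,4,5,9,8,6,10,7],[1,1,0],7),
  ([1,0,2,3,4,5,9,8,7,6,10],[1,0,1,0,0,0,0],4),
  ([1,0,2,3,4,5,9,8,7,10,6],[1],2),
  ([1,0,2,3,4,5,9,8,10,6,7],[1],2),
  ([1,0,2,3,4,5,9,8,10,7,6],[1,0,0,0,0],10),
  ([1,0,2,3,4,5,9,10,6,7,8],[1,0,0,0],8),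
  ([1,0,2,3,4,5,9,10,6,8,7],[1],2),
  ([1,0,2,3,4,5,9,10,7,6,8],[1],2),
  ([1,0,2,3,4,5,9,10,7,8,6],[1,0,0],8),
  ([1,0,2,3,4,5,9,10,8,6,7],[1,0,0],8),
  ([1,0,2,3,4,5,9,10,8,7,6],[1,1,1,0,0],4),
  ([1,0,2,3,4,5,10,6,7,8,9],[1,1,1,0,1,0],7),
  ([1,0,2,3,4,5,10,6,7,9,8],[1,1,1,0],7),
  ([1,0,2,3,4,5,10,6,8,7,9],[1,1,0,0],4),
  ([1,0,2,3,4,5,10,6,8,9,7],[1],2),
  ([1,0,2,3,4,5,10,6,9,7,8],[1,0,0,0,0],8),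
  ([1,0,2,3,4,5,10,6,9,8,7],[1],2),
  ([1,0,2,3,4,5,10,7,6,8,9],[1,1,1,0],7),
  ([1,0,2,3,4,5,10,7,6,9,8],[1],2),
  ([1,0,2,3,4,5,10,7,8,6,9],[1],2),
  ([1,0,2,3,4,5,10,7,8,9,6],[1,0,0,0,0],7),
  ([1,0,2,3,4,5,10,7,9,6,8],[1,1,0,0,0],4),
  ([1,0,2,3,4,5,10,7,9,8,6],[1,0,1,0,0,0],7),
  ([1,0,2,3,4,5,10,8,6,7,9],[1,0,0,0],8),
  ([1,0,2,3,4,5,10,8,6,9,7],[1,0,0,0],7),
  ([1,0,2,3,4,5,10,8,7,6,9],[1],2),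
  ([1,0,2,3,4,5,10,8,7,9,6],[1,0,0,0],8),
  ([1,0,2,3,4,5,10,8,9,6,7],[1,1,0,0,0],4),
  ([1,0,2,3,4,5,10,8,9,7,6],[1],2),
  ([1,0,2,3,4,5,10,9,6,7,8],[1],2),
  ([1,0,2,3,4,5,10,9,6,8,7],[1,1,0,0,0],7),
  ([1,0,2,3,4,5,10,9,7,6,8],[1,1,0,0,0],7),
  ([1,0,2,3,4,5,10,9,7,8,6],[1],2),
  ([1,0,2,3,4,5,10,9,8,6,7],[1,0,0],4),
  ([1,0,2,3,4,5,10,9,8,7,6],[1,0,1,0,0,0,0,0,0],7),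
  ([1,0,2,3,4,6,5,7,8,9,10],[1,0,1,0,0],4),
  ([1,0,2,3,4,6,5,7,8,10,9],[1,0,0,0],8),
  ([1,0,2,3,4,6,5,7,9,8,10],[1,0,1,0,1,0,0],4),
  ([1,0,2,3,4,6,5,7,9,10,8],[1],2),
  ([1,0,2,3,4,6,5,7,10,8,9],[1],2),
  ([1,0,2,3,4,6,5,7,10,9,8],[1,0,0,0,0],8),
  ([1,0,2,3,4,6,5,8,7,9,10],[1,0,0,0],8),
  ([1,0,2,3,4,6,5,8,7,10,9],[1,0,1,0,0,0,0,0],4),
  ([1,0,2,3,4,6,5,8,9,7,10],[1],2),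
  ([1,0,2,3,4,6,5,8,9,10,7],[1,0,0,0,0],8),
  ([1,0,2,3,4,6,5,8,10,7,9],[1,0,0,0],8),
  ([1,0,2,3,4,6,5,8,10,9,7],[1],2),
  ([1,0,2,3,4,6,5,9,7,8,10],[1],2),
  ([1,0,2,3,4,6,5,9,7,10,8],[1,0,0,0],8),
  ([1,0,2,3,4,6,5,9,8,7,10],[1,0,0,0,0],8),
  ([1,0,2,3,4,6,5,9,8,10,7],[1],2),
  ([1,0,2,3,4,6,5,9,10,7,8],[1,0,1,0,1,0,0,0],4),
  ([1,0,2,3,4,6,5,9,10,8,7],[1,0,0,0,0],8),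
  ([1,0,2,3,4,6,5,10,7,8,9],[1,1,1,0,1,0],4),
  ([1,0,2,3,4,6,5,10,7,9,8],[1],2),
  ([1,0,2,3,4,6,5,10,8,7,9],[1],2),
  ([1,0,2,3,4,6,5,10,8,9,7],[1,0,0,1,0,0,1,0,0,0,0],8),
  ([1,0,2,3,4,6,5,10,9,7,8],[1,1,1,0,1,0],5),
  ([1,0,2,3,4,6,5,10,9,8,7],[1,0,0,1,0,0,0,0],4),
  ([1,0,2,3,4,6,7,5,8,9,10],[1],2),
  ([1,0,2,3,4,6,7,5,8,10,9],[1],2),
  ([1,0,2,3,4,6,7,5,9,8,10],[1],2),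
  ([1,0,2,3,4,6,7,5,9,10,8],[1,0,0,0],8),
  ([1,0,2,3,4,6,7,5,10,8,9],[1,1,1,0,0,0,0],8),
  ([1,0,2,3,4,6,7,5,10,9,8],[1],2),
  ([1,0,2,3,4,6,7,8,5,9,10],[1,0,0,0],7),
  ([1,0,2,3,4,6,7,8,5,10,9],[1,0,0,0,0,0],4),
  ([1,0,2,3,4,6,7,8,9,5,10],[1,0,0,0],8),
  ([1,0,2,3,4,6,7,8,9,10,5],[1,0],7),
  ([1,0,2,3,4,6,7,8,10,5,9],[1,0,0,0],4),
  ([1,0,2,3,4,6,7,8,10,9,5],[1,0,0,0],8),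
  ([1,0,2,3,4,6,7,9,5,8,10],[1,1,1,0,0],10),
  ([1,0,2,3,4,6,7,9,5,10,8],[1,0,0,0],7),
  ([1,0,2,3,4,6,7,9,8,5,10],[1,0],7),
  ([1,0,2,3,4,6,7,9,8,10,5],[1,0,0,0],8),
  ([1,0,2,3,4,6,7,9,10,5,8],[1,1,0,0,0],7),
  ([1,0,2,3,4,6,7,9,10,8,5],[1,1,0,0],4),
  ([1,0,2,3,4,6,7,10,5,8,9],[1,0,0,0,0,0],4),
  ([1,0,2,3,4,6,7,10,5,9,8],[1,0,1,1,0,0],4),
  ([1,0,2,3,4,6,7,10,8,5,9],[1,1,1,0],10),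
  ([1,0,2,3,4,6,7,10,8,9,5],[1,1,1,0],5),
  ([1,0,2,3,4,6,7,10,9,5,8],[1,0,1,0,0],7),
  ([1,0,2,3,4,6,7,10,9,8,5],[1,0,1,1,0,0],4),
  ([1,0,2,3,4,6,8,5,7,9,10],[1,0,1,1,0,0],7),
  ([1,0,2,3,4,6,8,5,7,10,9],[1,0,0,0],8),
  ([1,0,2,3,4,6,8,5,9,7,10],[1,1,0,0],4),
  ([1,0,2,3,4,6,8,5,9,10,7],[1,0,0,0],7),
  ([1,0,2,3,4,6,8,5,10,7,9],[1,1,0,1,0,0],4),
  ([1,0,2,3,4,6,8,5,10,9,7],[1,1,1,0],10),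
  ([1,0,2,3,4,6,8,7,5,9,10],[1],2),
  ([1,0,2,3,4,6,8,7,5,10,9],[1],2),
  ([1,0,2,3,4,6,8,7,9,5,10],[1,1,0,0],4),
  ([1,0,2,3,4,6,8,7,9,10,5],[1,0,0,0],8),
  ([1,0,2,3,4,6,8,7,10,5,9],[1,1,0,1,0],8),
  ([1,0,2,3,4,6,8,7,10,9,5],[1,0],7),
  ([1,0,2,3,4,6,8,9,5,7,10],[1],2),
  ([1,0,2,3,4,6,8,9,5,10,7],[1,0,0,0,0],8),
  ([1,0,2,3,4,6,8,9,7,5,10],[1,1,1,1,0],7),
  ([1,0,2,3,4,6,8,9,7,10,5],[1,1,0,1,0],4),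
  ([1,0,2,3,4,6,8,9,10,5,7],[1,1,1,0],5),
  ([1,0,2,3,4,6,8,9,10,7,5],[1,0,1,1,0,0,0],8),
  ([1,0,2,3,4,6,8,10,5,7,9],[1,1,0],7),
  ([1,0,2,3,4,6,8,10,5,9,7],[1],2),
  ([1,0,2,3,4,6,8,10,7,5,9],[1,1,0,0,0],7),
  ([1,0,2,3,4,6,8,10,7,9,5],[1,0,1,0,0],7),
  ([1,0,2,3,4,6,8,10,9,5,7],[1,1,0,0],4),
  ([1,0,2,3,4,6,8,10,9,7,5],[1,1,0],7),
  ([1,0,2,3,4,6,9,5,7,8,10],[1,1,0],7),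
  ([1,0,2,3,4,6,9,5,7,10,8],[1,1,1,1,0,1,0],4),
  ([1,0,2,3,4,6,9,5,8,7,10],[1,1,0],7),
  ([1,0,2,3,4,6,9,5,8,10,7],[1,1,0,0],7),
  ([1,0,2,3,4,6,9,5,10,7,8],[1,1,0],7),
  ([1,0,2,3,4,6,9,5,10,8,7],[1,0,0,0],7),
  ([1,0,2,3,4,6,9,7,5,8,10],[1,0,0,0],7),
  ([1,0,2,3,4,6,9,7,5,10,8],[1,1,0,0],7),
  ([1,0,2,3,4,6,9,7,8,5,10],[1],2),
  ([1,0,2,3,4,6,9,7,8,10,5],[1,1,1,0],5),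
  ([1,0,2,3,4,6,9,7,10,5,8],[1],2),
  ([1,0,2,3,4,6,9,7,10,8,5],[1,0,0],8),
  ([1,0,2,3,4,6,9,8,5,7,10],[1,1,0],7),
  ([1,0,2,3,4,6,9,8,5,10,7],[1,0],7),
  ([1,0,2,3,4,6,9,8,7,5,10],[1],2),
  ([1,0,2,3,4,6,9,8,7,10,5],[1,1,1,0,0,0],10),
  ([1,0,2,3,4,6,9,8,10,5,7],[1,0,0],8),
  ([1,0,2,3,4,6,9,8,10,7,5],[1,1,1,0,1,0],7),
  ([1,0,2,3,4,6,9,10,5,7,8],[1,0,0,0],7),
  ([1,0,2,3,4,6,9,10,5,8,7],[1,0,0,0,0],4),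
  ([1,0,2,3,4,6,9,10,7,5,8],[1,0,0,0],8),
  ([1,0,2,3,4,6,9,10,7,8,5],[1,1,0,1,0,0],4),
  ([1,0,2,3,4,6,9,10,8,5,7],[1],2),
  ([1,0,2,3,4,6,9,10,8,7,5],[1,0,0,0],8),
  ([1,0,2,3,4,6,10,5,7,8,9],[1,1,0,0],4),
  ([1,0,2,3,4,6,10,5,7,9,8],[1,1,0,0,0],4),
  ([1,0,2,3,4,6,10,5,8,7,9],[1,1,0,0],4),
  ([1,0,2,3,4,6,10,5,8,9,7],[1,0],7),
  ([1,0,2,3,4,6,10,5,9,7,8],[1,0],7),
  ([1,0,2,3,4,6,10,5,9,8,7],[1,0,0,0,0],8),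
  ([1,0,2,3,4,6,10,7,5,8,9],[1,1,0,0],4),
  ([1,0,2,3,4,6,10,7,5,9,8],[1,1,0,0],7),
  ([1,0,2,3,4,6,10,7,8,5,9],[1,1,0,0],4),
  ([1,0,2,3,4,6,10,7,8,9,5],[1],2),
  ([1,0,2,3,4,6,10,7,9,5,8],[1,1,0,0,0],4),
  ([1,0,2,3,4,6,10,7,9,8,5],[1],2),
  ([1,0,2,3,4,6,10,8,5,7,9],[1,0,0,0],7),
  ([1,0,2,3,4,6,10,8,5,9,7],[1,1,0,0],5),
  ([1,0,2,3,4,6,10,8,7,5,9],[1,0,0,0],8),
  ([1,0,2,3,4,6,10,8,7,9,5],[1],2),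
  ([1,0,2,3,4,6,10,8,9,5,7],[1,0,0],4),
  ([1,0,2,3,4,6,10,8,9,7,5],[1,0,0,0],8),
  ([1,0,2,3,4,6,10,9,5,7,8],[1,1,0,0],7),
  ([1,0,2,3,4,6,10,9,5,8,7],[1,1,0,0],7),
  ([1,0,2,3,4,6,10,9,7,5,8],[1,1,0,0],7),
  ([1,0,2,3,4,6,10,9,7,8,5],[1,1,0,0],7),
  ([1,0,2,3,4,6,10,9,8,5,7],[1,1,0,0],7),
  ([1,0,2,3,4,6,10,9,8,7,5],[1],2),
  ([1,0,2,3,4,7,5,6,8,9,10],[1],2),
  ([1,0,2,3,4,7,5,6,8,10,9],[1],2),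
  ([1,0,2,3,4,7,5,6,9,8,10],[1],2),
  ([1,0,2,3,4,7,5,6,9,10,8],[1,1,0,1,0],8),
  ([1,0,2,3,4,7,5,6,10,8,9],[1,1,0,0,0],4),
  ([1,0,2,3,4,7,5,6,10,9,8],[1],2),
  ([1,0,2,3,4,7,5,8,6,9,10],[1,0,0,1,0,0,0],2),
  ([1,0,2,3,4,7,5,8,6,10,9],[1,0,0,0],8),
  ([1,0,2,3,4,7,5,8,9,6,10],[1,1,1,0,0],10),
  ([1,0,2,3,4,7,5,8,9,10,6],[1,0,0,0],4),
  ([1,0,2,3,4,7,5,8,10,6,9],[1,0,0,0],7),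
  ([1,0,2,3,4,7,5,8,10,9,6],[1,0,0,0],8),
  ([1,0,2,3,4,7,5,9,6,8,10],[1,0,0,0],8),
  ([1,0,2,3,4,7,5,9,6,10,8],[1,0,1,1,0,0],4),
  ([1,0,2,3,4,7,5,9,8,6,10],[1,1,0],7),
  ([1,0,2,3,4,7,5,9,8,10,6],[1,0,0,0,0],10),
  ([1,0,2,3,4,7,5,9,10,6,8],[1,1,0],7),
  ([1,0,2,3,4,7,5,9,10,8,6],[1,1,1,0],7),
  ([1,0,2,3,4,7,5,10,6,8,9],[1,1,0,0],7),
  ([1,0,2,3,4,7,5,10,6,9,8],[1,0,0,0,0],4),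
  ([1,0,2,3,4,7,5,10,8,6,9],[1,0,0,0,0],4),
  ([1,0,2,3,4,7,5,10,8,9,6],[1,1,1,0],7),
  ([1,0,2,3,4,7,5,10,9,6,8],[1,1,0,0],7),
  ([1,0,2,3,4,7,5,10,9,8,6],[1,0,1,0,0],7),
  ([1,0,2,3,4,7,6,5,8,9,10],[1,0,0,0],4),
  ([1,0,2,3,4,7,6,5,8,10,9],[1,0,1,0,1,0,0,0],8),
  ([1,0,2,3,4,7,6,5,9,8,10],[1,0,0,0],8),
  ([1,0,2,3,4,7,6,5,9,10,8],[1],2),
  ([1,0,2,3,4,7,6,5,10,8,9],[1],2),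
  ([1,0,2,3,4,7,6,5,10,9,8],[1,0,1,0,0],4),
  ([1,0,2,3,4,7,6,8,5,9,10],[1],2),
  ([1,0,2,3,4,7,6,8,5,10,9],[1],2),
  ([1,0,2,3,4,7,6,8,9,5,10],[1,0],7),
  ([1,0,2,3,4,7,6,8,9,10,5],[1,0,0,0],8),
  ([1,0,2,3,4,7,6,8,10,5,9],[1,0,0,0],8),
  ([1,0,2,3,4,7,6,8,10,9,5],[1,0,0,0],4),
  ([1,0,2,3,4,7,6,9,5,8,10],[1,1,0],7),
  ([1,0,2,3,4,7,6,9,5,10,8],[1,1,1,0],10),
  ([1,0,2,3,4,7,6,9,8,5,10],[1],2),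
  ([1,0,2,3,4,7,6,9,8,10,5],[1,0],7),
  ([1,0,2,3,4,7,6,9,10,5,8],[1],2),
  ([1,0,2,3,4,7,6,9,10,8,5],[1,0,1,0,0],7),
  ([1,0,2,3,4,7,6,10,5,8,9],[1,1,0,0],7),
  ([1,0,2,3,4,7,6,10,5,9,8],[1,1,0,0,0,0],4),
  ([1,0,2,3,4,7,6,10,8,5,9],[1,1,0,0],7),
  ([1,0,2,3,4,7,6,10,8,9,5],[1],2),
  ([1,0,2,3,4,7,6,10,9,5,8],[1,1,0,0],7),
  ([1,0,2,3,4,7,6,10,9,8,5],[1],2),
  ([1,0,2,3,4,7,8,5,6,9,10],[1,0,0,0],8),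
  ([1,0,2,3,4,7,8,5,6,10,9],[1,0,0,1,0,1,0,0,0],7),
  ([1,0,2,3,4,7,8,5,9,6,10],[1],2),
  ([1,0,2,3,4,7,8,5,9,10,6],[1,0,0,0,0],10),
  ([1,0,2,3,4,7,8,5,10,6,9],[1,1,0],7),
  ([1,0,2,3,4,7,8,5,10,9,6],[1],2),
  ([1,0,2,3,4,7,8,6,5,9,10],[1,0,0,0],7),
  ([1,0,2,3,4,7,8,6,5,10,9],[1,0,0,0,0,0],4),
  ([1,0,2,3,4,7,8,6,9,5,10],[1,0,0,0],8),
  ([1,0,2,3,4,7,8,6,9,10,5],[1,1,0,0],4),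
  ([1,0,2,3,4,7,8,6,10,5,9],[1,1,1,0],7),
  ([1,0,2,3,4,7,8,6,10,9,5],[1,0,1,0,0],7),
  ([1,0,2,3,4,7,8,9,5,6,10],[1,0,1,0,0],4),
  ([1,0,2,3,4,7,8,9,5,10,6],[1,1,1,0],5),
  ([1,0,2,3,4,7,8,9,6,5,10],[1],2),
  ([1,0,2,3,4,7,8,9,6,10,5],[1,1,0,1,0,0,0],4),
  ([1,0,2,3,4,7,8,9,10,5,6],[1,0,1,0,0],4),
  ([1,0,2,3,4,7,8,9,10,6,5],[1,0,0,0,0,0,0],4),
  ([1,0,2,3,4,7,8,10,5,6,9],[1,1,1,0,0],7),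
  ([1,0,2,3,4,7,8,10,5,9,6],[1,1,0,0],7),
  ([1,0,2,3,4,7,8,10,6,5,9],[1,1,0,0],7),
  ([1,0,2,3,4,7,8,10,6,9,5],[1],2),
  ([1,0,2,3,4,7,8,10,9,5,6],[1,1,0,0],4),
  ([1,0,2,3,4,7,8,10,9,6,5],[1,1,0,0],4),
  ([1,0,2,3,4,7,9,5,6,8,10],[1],2),
  ([1,0,2,3,4,7,9,5,6,10,8],[1,1,0],7),
  ([1,0,2,3,4,7,9,5,8,6,10],[1,0,0,0,0],4),
  ([1,0,2,3,4,7,9,5,8,10,6],[1],2),
  ([1,0,2,3,4,7,9,5,10,6,8],[1,0,0,0],7),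
  ([1,0,2,3,4,7,9,5,10,8,6],[1,0,0,0],8),
  ([1,0,2,3,4,7,9,6,5,8,10],[1,0,0,0,0],4),
  ([1,0,2,3,4,7,9,6,5,10,8],[1,0,0,0],7),
  ([1,0,2,3,4,7,9,6,8,5,10],[1,1,0,0,0],4),
  ([1,0,2,3,4,7,9,6,8,10,5],[1,0,0],8),
  ([1,0,2,3,4,7,9,6,10,5,8],[1,0,0,0],8),
  ([1,0,2,3,4,7,9,6,10,8,5],[1,0,0,0],4),
  ([1,0,2,3,4,7,9,8,5,6,10],[1],2),
  ([1,0,2,3,4,7,9,8,5,10,6],[1,0,0],8),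
  ([1,0,2,3,4,7,9,8,6,5,10],[1,0,1,0,0],7),
  ([1,0,2,3,4,7,9,8,6,10,5],[1,1,0,1,0],4),
  ([1,0,2,3,4,7,9,8,10,5,6],[1,1,1,0],5),
  ([1,0,2,3,4,7,9,8,10,6,5],[1,0,1,0,0],4),
  ([1,0,2,3,4,7,9,10,5,6,8],[1,1,0,0,0,0],4),
  ([1,0,2,3,4,7,9,10,5,8,6],[1,0,0,0],7),
  ([1,0,2,3,4,7,9,10,6,5,8],[1,0],7),
  ([1,0,2,3,4,7,9,10,6,8,5],[1,0,0,0],8),
  ([1,0,2,3,4,7,9,10,8,5,6],[1,0,0,0],8),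
  ([1,0,2,3,4,7,9,10,8,6,5],[1],2),
  ([1,0,2,3,4,7,10,5,6,8,9],[1,1,0,0,0],7),
  ([1,0,2,3,4,7,10,5,6,9,8],[1],2),
  ([1,0,2,3,4,7,10,5,8,6,9],[1],2),
  ([1,0,2,3,4,7,10,5,8,9,6],[1,0,0,0,0],10),
  ([1,0,2,3,4,7,10,5,9,6,8],[1,1,0,0,0],4),
  ([1,0,2,3,4,7,10,5,9,8,6],[1,0,1,0,0,1,0,0,0],7),
  ([1,0,2,3,4,7,10,6,5,8,9],[1,1,0],7),
  ([1,0,2,3,4,7,10,6,5,9,8],[1,1,0],7),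
  ([1,0,2,3,4,7,10,6,8,5,9],[1,0,0,0,0],10),
  ([1,0,2,3,4,7,10,6,8,9,5],[1,0,0],4),
  ([1,0,2,3,4,7,10,6,9,5,8],[1,1,0],7),
  ([1,0,2,3,4,7,10,6,9,8,5],[1,1,0],7),
  ([1,0,2,3,4,7,10,8,5,6,9],[1,1,0],7),
  ([1,0,2,3,4,7,10,8,5,9,6],[1],2),
  ([1,0,2,3,4,7,10,8,6,5,9],[1,1,1,1,0,0],7),
  ([1,0,2,3,4,7,10,8,6,9,5],[1,0,0,0],8),
  ([1,0,2,3,4,7,10,8,9,5,6],[1,0,0,0],8),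
  ([1,0,2,3,4,7,10,8,9,6,5],[1,1,0],7),
  ([1,0,2,3,4,7,10,9,5,6,8],[1,0],7),
  ([1,0,2,3,4,7,10,9,5,8,6],[1,1,0],7),
  ([1,0,2,3,4,7,10,9,6,5,8],[1,1,1,0,1,0],5),
  ([1,0,2,3,4,7,10,9,6,8,5],[1,1,1,1,0],7),
  ([1,0,2,3,4,7,10,9,8,5,6],[1],2),
  ([1,0,2,3,4,7,10,9,8,6,5],[1,0,0,0,0],4),
  ([1,0,2,3,4,8,5,6,7,9,10],[1,1,1,0,0,0],7),
  ([1,0,2,3,4,8,5,6,7,10,9],[1,1,1,0,1,0],4),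
  ([1,0,2,3,4,8,5,6,9,7,10],[1,1,0],7),
  ([1,0,2,3,4,8,5,6,9,10,7],[1,1,0,1,0,0],4),
  ([1,0,2,3,4,8,5,6,10,7,9],[1,1,0,0],7),
  ([1,0,2,3,4,8,5,6,10,9,7],[1,1,0,0],7),
  ([1,0,2,3,4,8,5,7,6,9,10],[1],2),
  ([1,0,2,3,4,8,5,7,6,10,9],[1],2),
  ([1,0,2,3,4,8,5,7,9,6,10],[1,1,1,0,0,0],7),
  ([1,0,2,3,4,8,5,7,9,10,6],[1,1,1,0],10),
  ([1,0,2,3,4,8,5,7,10,6,9],[1,0,1,0,0],7),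
  ([1,0,2,3,4,8,5,7,10,9,6],[1,1,0,0],7),
  ([1,0,2,3,4,8,5,9,6,7,10],[1],2),
  ([1,0,2,3,4,8,5,9,6,10,7],[1,1,0],7),
  ([1,0,2,3,4,8,5,9,7,6,10],[1,1,0,0,0,0],7),
  ([1,0,2,3,4,8,5,9,7,10,6],[1,1,0,0,0],7),
  ([1,0,2,3,4,8,5,9,10,6,7],[1,1,0,0,0,0],7),
  ([1,0,2,3,4,8,5,9,10,7,6],[1,1,0,0],7),
  ([1,0,2,3,4,8,5,10,6,7,9],[1,1,0,1,0],4),
  ([1,0,2,3,4,8,5,10,6,9,7],[1],2),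
  ([1,0,2,3,4,8,5,10,7,6,9],[1,1,1,0],5),
  ([1,0,2,3,4,8,5,10,7,9,6],[1,1,0],7),
  ([1,0,2,3,4,8,5,10,9,6,7],[1,1,0,1,0,0],10),
  ([1,0,2,3,4,8,5,10,9,7,6],[1,0,1,0,0],7),
  ([1,0,2,3,4,8,6,5,7,9,10],[1],2),
  ([1,0,2,3,4,8,6,5,7,10,9],[1],2),
  ([1,0,2,3,4,8,6,5,9,7,10],[1,1,0],7),
  ([1,0,2,3,4,8,6,5,9,10,7],[1,0,0,0,0],8),
  ([1,0,2,3,4,8,6,5,10,7,9],[1,0,0,0,0],8),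
  ([1,0,2,3,4,8,6,5,10,9,7],[1,1,0,0,0,0],4),
  ([1,0,2,3,4,8,6,7,5,9,10],[1,0],7),
  ([1,0,2,3,4,8,6,7,5,10,9],[1,0,0,0,0],8),
  ([1,0,2,3,4,8,6,7,9,5,10],[1],2),
  ([1,0,2,3,4,8,6,7,9,10,5],[1,1,1,0],5),
  ([1,0,2,3,4,8,6,7,10,5,9],[1,1,1,0],7),
  ([1,0,2,3,4,8,6,7,10,9,5],[1],2),
  ([1,0,2,3,4,8,6,9,5,7,10],[1,0,1,0,1,0,0],8),
  ([1,0,2,3,4,8,6,9,5,10,7],[1],2),
  ([1,0,2,3,4,8,6,9,7,5,10],[1,1,0,0,0],4),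
  ([1,0,2,3,4,8,6,9,7,10,5],[1,0,1,0,0],7),
  ([1,0,2,3,4,8,6,9,10,5,7],[1,1,0,0],7),
  ([1,0,2,3,4,8,6,9,10,7,5],[1],2),
  ([1,0,2,3,4,8,6,10,5,7,9],[1],2),
  ([1,0,2,3,4,8,6,10,5,9,7],[1,0,1,0,0,0,0,0,0,0],5),
  ([1,0,2,3,4,8,6,10,7,5,9],[1,1,0],7),
  ([1,0,2,3,4,8,6,10,7,9,5],[1,1,1,0,0,0],4),
  ([1,0,2,3,4,8,6,10,9,5,7],[1],2),
  ([1,0,2,3,4,8,6,10,9,7,5],[1,1,0,1,0],10),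
  ([1,0,2,3,4,8,7,5,6,9,10],[1,0],7),
  ([1,0,2,3,4,8,7,5,6,10,9],[1,0,0,0,0],8),
  ([1,0,2,3,4,8,7,5,9,6,10],[1,1,0],7),
  ([1,0,2,3,4,8,7,5,9,10,6],[1,0,0,0,0],7),
  ([1,0,2,3,4,8,7,5,10,6,9],[1,1,0,0],7),
  ([1,0,2,3,4,8,7,5,10,9,6],[1,1,0,0],7),
  ([1,0,2,3,4,8,7,6,5,9,10],[1,0,0,0,0],8),
  ([1,0,2,3,4,8,7,6,5,10,9],[1,0,0,1,0,0,0,0],4),
  ([1,0,2,3,4,8,7,6,9,5,10],[1],2),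
  ([1,0,2,3,4,8,7,6,9,10,5],[1,1,0,1,0,0],4),
  ([1,0,2,3,4,8,7,6,10,5,9],[1,0,1,0,0],7),
  ([1,0,2,3,4,8,7,6,10,9,5],[1],2),
  ([1,0,2,3,4,8,7,9,5,6,10],[1],2),
  ([1,0,2,3,4,8,7,9,5,10,6],[1,1,0,0],4),
  ([1,0,2,3,4,8,7,9,6,5,10],[1,1,1,1,0],7),
  ([1,0,2,3,4,8,7,9,6,10,5],[1,1,0],7),
  ([1,0,2,3,4,8,7,9,10,5,6],[1,1,0,0],4),
  ([1,0,2,3,4,8,7,9,10,6,5],[1,1,0,0],4),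
  ([1,0,2,3,4,8,7,10,5,6,9],[1,0,0,0,0,0],8),
  ([1,0,2,3,4,8,7,10,5,9,6],[1],2),
  ([1,0,2,3,4,8,7,10,6,5,9],[1,0,1,0,0],7),
  ([1,0,2,3,4,8,7,10,6,9,5],[1,1,1,0,0,0],8),
  ([1,0,2,3,4,8,7,10,9,5,6],[1,1,1,0,0,0,0],8),
  ([1,0,2,3,4,8,7,10,9,6,5],[1,0],7),
  ([1,0,2,3,4,8,9,5,6,7,10],[1,0,0,0],8),
  ([1,0,2,3,4,8,9,5,6,10,7],[1,0,0,0],7),
  ([1,0,2,3,4,8,9,5,7,6,10],[1],2),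
  ([1,0,2,3,4,8,9,5,7,10,6],[1,0,0,0],8),
  ([1,0,2,3,4,8,9,5,10,6,7],[1,1,0,0,0,0],4),
  ([1,0,2,3,4,8,9,5,10,7,6],[1,0],7),
  ([1,0,2,3,4,8,9,6,5,7,10],[1],2),
  ([1,0,2,3,4,8,9,6,5,10,7],[1,0,1,1,0,0],4),
  ([1,0,2,3,4,8,9,6,7,5,10],[1,0,0],8),
  ([1,0,2,3,4,8,9,6,7,10,5],[1,0,1,1,0,0],4),
  ([1,0,2,3,4,8,9,6,10,5,7],[1,0,0,0],7),
  ([1,0,2,3,4,8,9,6,10,7,5],[1,0,0,0],8),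
  ([1,0,2,3,4,8,9,7,5,6,10],[1,0,0],8),
  ([1,0,2,3,4,8,9,7,5,10,6],[1],2),
  ([1,0,2,3,4,8,9,7,6,5,10],[1,0,0,0,0,0],4),
  ([1,0,2,3,4,8,9,7,6,10,5],[1,0,0,0],8),
  ([1,0,2,3,4,8,9,7,10,5,6],[1,0,0,0],8),
  ([1,0,2,3,4,8,9,7,10,6,5],[1],2),
  ([1,0,2,3,4,8,9,10,5,6,7],[1,0],7),
  ([1,0,2,3,4,8,9,10,5,7,6],[1,0,0,0],10),
  ([1,0,2,3,4,8,9,10,6,5,7],[1,0,0,0],10),
  ([1,0,2,3,4,8,9,10,6,7,5],[1,1,0,0,0],4),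
  ([1,0,2,3,4,8,9,10,7,5,6],[1,1,1,1,0,0,0],4),
  ([1,0,2,3,4,8,9,10,7,6,5],[1,0,0,0],10),
  ([1,0,2,3,4,8,10,5,6,7,9],[1,1,0,0],4),
  ([1,0,2,3,4,8,10,5,6,9,7],[1,1,1,0,0,0,0],8),
  ([1,0,2,3,4,8,10,5,7,6,9],[1,1,0,0],4),
  ([1,0,2,3,4,8,10,5,7,9,6],[1],2),
  ([1,0,2,3,4,8,10,5,9,6,7],[1,1,0,1,0],7),
  ([1,0,2,3,4,8,10,5,9,7,6],[1,1,0],7),
  ([1,0,2,3,4,8,10,6,5,7,9],[1,1,0,0],4),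
  ([1,0,2,3,4,8,10,6,5,9,7],[1],2),
  ([1,0,2,3,4,8,10,6,7,5,9],[1,0,0],4),
  ([1,0,2,3,4,8,10,6,7,9,5],[1,1,1,0,0,0,0],8),
  ([1,0,2,3,4,8,10,6,9,5,7],[1,1,1,0,1,0],7),
  ([1,0,2,3,4,8,10,6,9,7,5],[1,1,1,1,0,0],4),
  ([1,0,2,3,4,8,10,7,5,6,9],[1],2),
  ([1,0,2,3,4,8,10,7,5,9,6],[1,0,1,0,0,0,0,0],7),
  ([1,0,2,3,4,8,10,7,6,5,9],[1,1,0,0],4),
  ([1,0,2,3,4,8,10,7,6,9,5],[1,0,0,1,0,0,0],7),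
  ([1,0,2,3,4,8,10,7,9,5,6],[1],2),
  ([1,0,2,3,4,8,10,7,9,6,5],[1,1,0,1,0],10),
  ([1,0,2,3,4,8,10,9,5,6,7],[1,1,1,0,0,0],10),
  ([1,0,2,3,4,8,10,9,5,7,6],[1,0,1,0,0,0,1,0,0,0],5),
  ([1,0,2,3,4,8,10,9,6,5,7],[1,0],7),
  ([1,0,2,3,4,8,10,9,6,7,5],[1,0,0,0],8),
  ([1,0,2,3,4,8,10,9,7,5,6],[1,0,0,0],8),
  ([1,0,2,3,4,8,10,9,7,6,5],[1,1,1,0,0],7),
  ([1,0,2,3,4,9,5,6,7,8,10],[1,0,0],8),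
  ([1,0,2,3,4,9,5,6,7,10,8],[1,0,0],7),
  ([1,0,2,3,4,9,5,6,8,7,10],[1,0,0],7),
  ([1,0,2,3,4,9,5,6,8,10,7],[1,0,0],8),
  ([1,0,2,3,4,9,5,6,10,7,8],[1,1,0,0,0],7),
  ([1,0,2,3,4,9,5,6,10,8,7],[1,1,0],7),
  ([1,0,2,3,4,9,5,7,6,8,10],[1,0,0],7),
  ([1,0,2,3,4,9,5,7,6,10,8],[1,1,0,0],4),
  ([1,0,2,3,4,9,5,7,8,6,10],[1],2),
  ([1,0,2,3,4,9,5,7,8,10,6],[1,1,0,0],4),
  ([1,0,2,3,4,9,5,7,10,6,8],[1],2),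
  ([1,0,2,3,4,9,5,7,10,8,6],[1,0,0],8),
  ([1,0,2,3,4,9,5,8,6,7,10],[1,0,0,0],8),
  ([1,0,2,3,4,9,5,8,6,10,7],[1,0,0],7),
  ([1,0,2,3,4,9,5,8,7,6,10],[1],2),
  ([1,0,2,3,4,9,5,8,7,10,6],[1,0,0],8),
  ([1,0,2,3,4,9,5,8,10,6,7],[1,0,0],8),
  ([1,0,2,3,4,9,5,8,10,7,6],[1,0,0],7),
  ([1,0,2,3,4,9,5,10,6,7,8],[1,0,0],5),
  ([1,0,2,3,4,9,5,10,6,8,7],[1,0,0],10),
  ([1,0,2,3,4,9,5,10,7,6,8],[1,0,0],10),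
  ([1,0,2,3,4,9,5,10,7,8,6],[1,0,0,0,0,0],4),
  ([1,0,2,3,4,9,5,10,8,6,7],[1],2),
  ([1,0,2,3,4,9,5,10,8,7,6],[1,0,0],10),
  ([1,0,2,3,4,9,6,5,7,8,10],[1,0,0],7),
  ([1,0,2,3,4,9,6,5,7,10,8],[1,0,0,0,0],8),
  ([1,0,2,3,4,9,6,5,8,7,10],[1],2),
  ([1,0,2,3,4,9,6,5,8,10,7],[1,0,0],7),
  ([1,0,2,3,4,9,6,5,10,7,8],[1],2),
  ([1,0,2,3,4,9,6,5,10,8,7],[1,0,0],10),
  ([1,0,2,3,4,9,6,7,5,8,10],[1],2),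
  ([1,0,2,3,4,9,6,7,5,10,8],[1,0],7),
  ([1,0,2,3,4,9,6,7,8,5,10],[1,0,0,0,0],7),
  ([1,0,2,3,4,9,6,7,8,10,5],[1],2),
  ([1,0,2,3,4,9,6,7,10,5,8],[1,0,0],10),
  ([1,0,2,3,4,9,6,7,10,8,5],[1,1,0],7),
  ([1,0,2,3,4,9,6,8,5,7,10],[1,0,0],7),
  ([1,0,2,3,4,9,6,8,5,10,7],[1,0,0],8),
  ([1,0,2,3,4,9,6,8,7,5,10],[1,0,0],8),
  ([1,0,2,3,4,9,6,8,7,10,5],[1],2),
  ([1,0,2,3,4,9,6,8,10,5,7],[1],2),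
  ([1,0,2,3,4,9,6,8,10,7,5],[1,0,0],10),
  ([1,0,2,3,4,9,6,10,5,7,8],[1,1,1,0,0,0,0],8),
  ([1,0,2,3,4,9,6,10,5,8,7],[1],2),
  ([1,0,2,3,4,9,6,10,7,5,8],[1],2),
  ([1,0,2,3,4,9,6,10,7,8,5],[1,0,0],8),
  ([1,0,2,3,4,9,6,10,8,5,7],[1,0,0],8),
  ([1,0,2,3,4,9,6,10,8,7,5],[1,0,0],7),
  ([1,0,2,3,4,9,7,5,6,8,10],[1,1,0,0,0],7),
  ([1,0,2,3,4,9,7,5,6,10,8],[1,0],7),
  ([1,0,2,3,4,9,7,5,8,6,10],[1,0,0],7),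
  ([1,0,2,3,4,9,7,5,8,10,6],[1,0,0],10),
  ([1,0,2,3,4,9,7,5,10,6,8],[1,1,0,0,0],4),
  ([1,0,2,3,4,9,7,5,10,8,6],[1,0,0],7),
  ([1,0,2,3,4,9,7,6,5,8,10],[1],2),
  ([1,0,2,3,4,9,7,6,5,10,8],[1,0,0],10),
  ([1,0,2,3,4,9,7,6,8,5,10],[1,0,0],8),
  ([1,0,2,3,4,9,7,6,8,10,5],[1],2),
  ([1,0,2,3,4,9,7,6,10,5,8],[1,0,0],7),
  ([1,0,2,3,4,9,7,6,10,8,5],[1,0,0],8),
  ([1,0,2,3,4,9,7,8,5,6,10],[1,0,0],8),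
  ([1,0,2,3,4,9,7,8,5,10,6],[1,0,0,0],7),
  ([1,0,2,3,4,9,7,8,6,5,10],[1],2),
  ([1,0,2,3,4,9,7,8,6,10,5],[1,0,0],10),
  ([1,0,2,3,4,9,7,8,10,5,6],[1,0,0],8),
  ([1,0,2,3,4,9,7,8,10,6,5],[1,1,0],7),
  ([1,0,2,3,4,9,7,10,5,6,8],[1,0,0],7),
  ([1,0,2,3,4,9,7,10,5,8,6],[1,0,0],8),
  ([1,0,2,3,4,9,7,10,6,5,8],[1,1,0],7),
  ([1,0,2,3,4,9,7,10,6,8,5],[1,0,0],7),
  ([1,0,2,3,4,9,7,10,8,5,6],[1],2),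
  ([1,0,2,3,4,9,7,10,8,6,5],[1,0,0],8),
  ([1,0,2,3,4,9,8,5,6,7,10],[1],2),
  ([1,0,2,3,4,9,8,5,6,10,7],[1,1,0,0],7),
  ([1,0,2,3,4,9,8,5,7,6,10],[1,0,0],10),
  ([1,0,2,3,4,9,8,5,7,10,6],[1,0,0],7),
  ([1,0,2,3,4,9,8,5,10,6,7],[1,0],7),
  ([1,0,2,3,4,9,8,5,10,7,6],[1,1,1,0,1,0],5),
  ([1,0,2,3,4,9,8,6,5,7,10],[1,0,0],10),
  ([1,0,2,3,4,9,8,6,5,10,7],[1,1,0,0],7),
  ([1,0,2,3,4,9,8,6,7,5,10],[1],2),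
  ([1,0,2,3,4,9,8,6,7,10,5],[1,0,0],8),
  ([1,0,2,3,4,9,8,6,10,5,7],[1,0,0],8),
  ([1,0,2,3,4,9,8,6,10,7,5],[1,0,0],7),
  ([1,0,2,3,4,9,8,7,5,6,10],[1,0,1,0,0],4),
  ([1,0,2,3,4,9,8,7,5,10,6],[1,0,0],8),
  ([1,0,2,3,4,9,8,7,6,5,10],[1,0,0],10),
  ([1,0,2,3,4,9,8,7,6,10,5],[1],2),
  ([1,0,2,3,4,9,8,7,10,5,6],[1],2),
  ([1,0,2,3,4,9,8,7,10,6,5],[1,0,0],8),
  ([1,0,2,3,4,9,8,10,5,6,7],[1,0,0],8),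
  ([1,0,2,3,4,9,8,10,5,7,6],[1,0],7),
  ([1,0,2,3,4,9,8,10,6,5,7],[1,0,0],7),
  ([1,0,2,3,4,9,8,10,6,7,5],[1,0,0,0],8),
  ([1,0,2,3,4,9,8,10,7,5,6],[1,0,0],8),
  ([1,0,2,3,4,9,8,10,7,6,5],[1,0,1,0,0,0],4),
  ([1,0,2,3,4,9,10,5,6,7,8],[1,0,0],4),
  ([1,0,2,3,4,9,10,5,6,8,7],[1,0,0],4),
  ([1,0,2,3,4,9,10,5,7,6,8],[1,0,0],4),
  ([1,0,2,3,4,9,10,5,7,8,6],[1,1,0,0,0],7),
  ([1,0,2,3,4,9,10,5,8,6,7],[1,0,0,0,0],8),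
  ([1,0,2,3,4,9,10,5,8,7,6],[1],2),
  ([1,0,2,3,4,9,10,6,5,7,8],[1,0,0],4),
  ([1,0,2,3,4,9,10,6,5,8,7],[1,0,0],4),
  ([1,0,2,3,4,9,10,6,7,5,8],[1,1,0,0,0],7),
  ([1,0,2,3,4,9,10,6,7,8,5],[1,0,0],4),
  ([1,0,2,3,4,9,10,6,8,5,7],[1],2),
  ([1,0,2,3,4,9,10,6,8,7,5],[1,0,0,0,0],8),
  ([1,0,2,3,4,9,10,7,5,6,8],[1,1,0,1,0,0,0],8),
  ([1,0,2,3,4,9,10,7,5,8,6],[1],2),
  ([1,0,2,3,4,9,10,7,6,5,8],[1],2),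
  ([1,0,2,3,4,9,10,7,6,8,5],[1,1,0,1,1,0,0],7),
  ([1,0,2,3,4,9,10,7,8,5,6],[1,0,0],4),
  ([1,0,2,3,4,9,10,7,8,6,5],[1,0],7),
  ([1,0,2,3,4,9,10,8,5,6,7],[1,0,0],4),
  ([1,0,2,3,4,9,10,8,5,7,6],[1,0,0,0],10),
  ([1,0,2,3,4,9,10,8,6,5,7],[1,0,0,0],10),
  ([1,0,2,3,4,9,10,8,6,7,5],[1,0],7),
  ([1,0,2,3,4,9,10,8,7,5,6],[1,0,0],4),
  ([1,0,2,3,4,9,10,8,7,6,5],[1,0,0],4),
  ([1,0,2,3,4,10,5,6,7,8,9],[1,1,1,0],7),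
  ([1,0,2,3,4,10,5,6,7,9,8],[1,0,0,0,0],8),
  ([1,0,2,3,4,10,5,6,8,7,9],[1,1,0,0],7),
  ([1,0,2,3,4,10,5,6,8,9,7],[1,0],5),
  ([1,0,2,3,4,10,5,6,9,7,8],[1,0],5),
  ([1,0,2,3,4,10,5,6,9,8,7],[1,0,1,1,0,0],2),
  ([1,0,2,3,4,10,5,7,6,8,9],[1,1,0,0],7),
  ([1,0,2,3,4,10,5,7,6,9,8],[1,1,1,0],7),
  ([1,0,2,3,4,10,5,7,8,6,9],[1,0],5),
  ([1,0,2,3,4,10,5,7,8,9,6],[1],2),
  ([1,0,2,3,4,10,5,7,9,6,8],[1,1,1,0,0],8),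
  ([1,0,2,3,4,10,5,7,9,8,6],[1],2),
  ([1,0,2,3,4,10,5,8,6,7,9],[1,0],5),
  ([1,0,2,3,4,10,5,8,6,9,7],[1,0,0,0],10),
  ([1,0,2,3,4,10,5,8,7,6,9],[1,0,0,0],10),
  ([1,0,2,3,4,10,5,8,7,9,6],[1],2),
  ([1,0,2,3,4,10,5,8,9,6,7],[1,0,0,0],4),
  ([1,0,2,3,4,10,5,8,9,7,6],[1,0,0,0],4),
  ([1,0,2,3,4,10,5,9,6,7,8],[1,1,1,0,1,0,0],7),
  ([1,0,2,3,4,10,5,9,6,8,7],[1,0],5),
  ([1,0,2,3,4,10,5,9,7,6,8],[1,0],5),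
  ([1,0,2,3,4,10,5,9,7,8,6],[1,0,0],8),
  ([1,0,2,3,4,10,5,9,8,6,7],[1,0,0],8),
  ([1,0,2,3,4,10,5,9,8,7,6],[1],2),
  ([1,0,2,3,4,10,6,5,7,8,9],[1,0,0,0,0],8),
  ([1,0,2,3,4,10,6,5,7,9,8],[1,1,1,0,0,0],4),
  ([1,0,2,3,4,10,6,5,8,7,9],[1,1,1,0],7),
  ([1,0,2,3,4,10,6,5,8,9,7],[1],2),
  ([1,0,2,3,4,10,6,5,9,7,8],[1,0],10),
  ([1,0,2,3,4,10,6,5,9,8,7],[1],2),
  ([1,0,2,3,4,10,6,7,5,8,9],[1,0],5),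
  ([1,0,2,3,4,10,6,7,5,9,8],[1],2),
  ([1,0,2,3,4,10,6,7,8,5,9],[1],2),
  ([1,0,2,3,4,10,6,7,8,9,5],[1,0,0,0,0],4),
  ([1,0,2,3,4,10,6,7,9,5,8],[1,1,0],7),
  ([1,0,2,3,4,10,6,7,9,8,5],[1,0,0],8),
  ([1,0,2,3,4,10,6,8,5,7,9],[1,0,0,0],10),
  ([1,0,2,3,4,10,6,8,5,9,7],[1,0,0,0],4),
  ([1,0,2,3,4,10,6,8,7,5,9],[1],2),
  ([1,0,2,3,4,10,6,8,7,9,5],[1,0,0,0],4),
  ([1,0,2,3,4,10,6,8,9,5,7],[1,0],10),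
  ([1,0,2,3,4,10,6,8,9,7,5],[1],2),
  ([1,0,2,3,4,10,6,9,5,7,8],[1],2),
  ([1,0,2,3,4,10,6,9,5,8,7],[1,1,0],7),
  ([1,0,2,3,4,10,6,9,7,5,8],[1,1,1,0,1,0],7),
  ([1,0,2,3,4,10,6,9,7,8,5],[1],2),
  ([1,0,2,3,4,10,6,9,8,5,7],[1,0,0,0,0],7),
  ([1,0,2,3,4,10,6,9,8,7,5],[1,0],10),
  ([1,0,2,3,4,10,7,5,6,8,9],[1,0],5),
  ([1,0,2,3,4,10,7,5,6,9,8],[1,0],10),
  ([1,0,2,3,4,10,7,5,8,6,9],[1,0,0,0,0],8),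
  ([1,0,2,3,4,10,7,5,8,9,6],[1,1,0],7),
  ([1,0,2,3,4,10,7,5,9,6,8],[1,1,1,0,0],4),
  ([1,0,2,3,4,10,7,5,9,8,6],[1,1,0],7),
  ([1,0,2,3,4,10,7,6,5,8,9],[1,0,0,0,0,0],8),
  ([1,0,2,3,4,10,7,6,5,9,8],[1],2),
  ([1,0,2,3,4,10,7,6,8,5,9],[1],2),
  ([1,0,2,3,4,10,7,6,8,9,5],[1,0,0],8),
  ([1,0,2,3,4,10,7,6,9,5,8],[1,1,0],7),
  ([1,0,2,3,4,10,7,6,9,8,5],[1,0],5),
  ([1,0,2,3,4,10,7,8,5,6,9],[1,0,0,0],4),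
  ([1,0,2,3,4,10,7,8,5,9,6],[1,0],10),
  ([1,0,2,3,4,10,7,8,6,5,9],[1,0,0,0],4),
  ([1,0,2,3,4,10,7,8,6,9,5],[1],2),
  ([1,0,2,3,4,10,7,8,9,5,6],[1,1,1,0,0,0],7),
  ([1,0,2,3,4,10,7,8,9,6,5],[1,0],10),
  ([1,0,2,3,4,10,7,9,5,6,8],[1,0],10),
  ([1,0,2,3,4,10,7,9,5,8,6],[1,1,0,0],4),
  ([1,0,2,3,4,10,7,9,6,5,8],[1,1,0],7),
  ([1,0,2,3,4,10,7,9,6,8,5],[1,0,1,0,0,0,0],7),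
  ([1,0,2,3,4,10,7,9,8,5,6],[1,0],10),
  ([1,0,2,3,4,10,7,9,8,6,5],[1],2),
  ([1,0,2,3,4,10,8,5,6,7,9],[1,1,0,1,0,0,0],10),
  ([1,0,2,3,4,10,8,5,6,9,7],[1],2),
  ([1,0,2,3,4,10,8,5,7,6,9],[1,0],5),
  ([1,0,2,3,4,10,8,5,7,9,6],[1,1,1,0,1,0],7),
  ([1,0,2,3,4,10,8,5,9,6,7],[1,0],10),
  ([1,0,2,3,4,10,8,5,9,7,6],[1,1,0],7),
  ([1,0,2,3,4,10,8,6,5,7,9],[1,0],5),
  ([1,0,2,3,4,10,8,6,5,9,7],[1,1,0],7),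
  ([1,0,2,3,4,10,8,6,7,5,9],[1,0,0],8),
  ([1,0,2,3,4,10,8,6,7,9,5],[1],2),
  ([1,0,2,3,4,10,8,6,9,5,7],[1,1,0,0],4),
  ([1,0,2,3,4,10,8,6,9,7,5],[1,1,0,0,1,0,0,0],10),
  ([1,0,2,3,4,10,8,7,5,6,9],[1,0,0],8),
  ([1,0,2,3,4,10,8,7,5,9,6],[1,0,1,0,0],7),
  ([1,0,2,3,4,10,8,7,6,5,9],[1],2),
  ([1,0,2,3,4,10,8,7,6,9,5],[1,0],10),
  ([1,0,2,3,4,10,8,7,9,5,6],[1,0],10),
  ([1,0,2,3,4,10,8,7,9,6,5],[1],2),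
  ([1,0,2,3,4,10,8,9,5,6,7],[1,1,1,0,0],4),
  ([1,0,2,3,4,10,8,9,5,7,6],[1,0],10),
  ([1,0,2,3,4,10,8,9,6,5,7],[1,0],10),
  ([1,0,2,3,4,10,8,9,6,7,5],[1,0,1,0,0,0,0,0],7),
  ([1,0,2,3,4,10,8,9,7,5,6],[1,1,1,0],7),
  ([1,0,2,3,4,10,8,9,7,6,5],[1,1,1,0],10),
  ([1,0,2,3,4,10,9,5,6,7,8],[1,0,0,0,0,0],4),
  ([1,0,2,3,4,10,9,5,6,8,7],[1,0,0,0],10),
  ([1,0,2,3,4,10,9,5,7,6,8],[1,0,0,0],10),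
  ([1,0,2,3,4,10,9,5,7,8,6],[1,0],5),
  ([1,0,2,3,4,10,9,5,8,6,7],[1],2),
  ([1,0,2,3,4,10,9,5,8,7,6],[1,0],10),
  ([1,0,2,3,4,10,9,6,5,7,8],[1,0,0,0],10),
  ([1,0,2,3,4,10,9,6,5,8,7],[1,0],5),
  ([1,0,2,3,4,10,9,6,7,5,8],[1,0],5),
  ([1,0,2,3,4,10,9,6,7,8,5],[1,0,0,0],4),
  ([1,0,2,3,4,10,9,6,8,5,7],[1,0,0,0],10),
  ([1,0,2,3,4,10,9,6,8,7,5],[1],2),
  ([1,0,2,3,4,10,9,7,5,6,8],[1],2),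
  ([1,0,2,3,4,10,9,7,5,8,6],[1,0,0,0],10),
  ([1,0,2,3,4,10,9,7,6,5,8],[1,0],10),
  ([1,0,2,3,4,10,9,7,6,8,5],[1],2),
  ([1,0,2,3,4,10,9,7,8,5,6],[1,1,1,0],7),
  ([1,0,2,3,4,10,9,7,8,6,5],[1,0],10),
  ([1,0,2,3,4,10,9,8,5,6,7],[1,0],10),
  ([1,0,2,3,4,10,9,8,5,7,6],[1,0,0],7),
  ([1,0,2,3,4,10,9,8,6,5,7],[1,0,0],7),
  ([1,0,2,3,4,10,9,8,6,7,5],[1,0],10),
  ([1,0,2,3,4,10,9,8,7,5,6],[1,1,0,0,0],4),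
  ([1,0,2,3,4,10,9,8,7,6,5],[1,0,1,0,0,0,0],7)]

/-- Certificate data. -/
def kmL0 : List (List ℕ) := [[0,1,2,3,4,5,6,7,8,9,10],
  [0,3,6,9,1,4,7,10,2,5,8],
  [0,4,8,1,5,9,2,6,10,3,7],
  [0,5,10,4,9,3,8,2,7,1,6],
  [0,9,7,5,3,1,10,8,6,4,2],
  [0,1,10,9,5,3,2,7,6,4,8],
  [0,3,8,5,4,9,6,10,7,1,2],
  [0,4,7,3,9,1,8,6,2,5,10],
  [0,5,6,1,3,4,10,2,8,9,7],
  [0,9,2,4,1,5,7,8,10,3,6],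
  [0,1,6,5,9,4,8,7,10,3,2],
  [0,3,7,4,5,1,2,10,8,9,6],
  [0,4,2,9,3,5,10,6,7,1,8],
  [0,5,8,3,1,9,7,2,6,4,10],
  [0,9,10,1,4,3,6,8,2,5,7],
  [0,1,8,4,3,9,10,7,2,5,6],
  [0,3,2,1,9,5,8,10,6,4,7],
  [0,4,10,5,1,3,7,6,8,9,2],
  [0,5,7,9,4,1,6,2,10,3,8],
  [0,9,6,3,5,4,2,8,7,1,10]]

/-- Certificate data. -/
def klL0 : List (List ℕ) := [[0,1,2,3,4,5,6,7,8,9,10],
  [0,3,6,9,1,4,7,10,2,5,8],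
  [0,4,8,1,5,9,2,6,10,3,7],
  [0,5,10,4,9,3,8,2,7,1,6],
  [0,9,7,5,3,1,10,8,6,4,2],
  [0,1,8,4,3,9,10,7,2,5,6],
  [0,3,2,1,9,5,8,10,6,4,7],
  [0,4,10,5,1,3,7,6,8,9,2],
  [0,5,7,9,4,1,6,2,10,3,8],
  [0,9,6,3,5,4,2,8,7,1,10]]

/-- Certificate data. -/
def gM0 : List ℕ := [0,1,10,9,5,3,2,7,6,4,8]

/-- Certificate data. -/
def gL0 : List ℕ := [0,1,8,4,3,9,10,7,2,5,6]

/-- Certificate data. -/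
def xM0 : List ℕ × ℕ := ([2,3,0],8)

/-- Certificate data. -/
def xL0 : List ℕ × ℕ := ([1,2,3,0,0],4)

/-- Certificate data. -/
def transM0 : List (ℕ × ℕ × List ℕ) := [(0,0,[]),
  (0,1,[0]),
  (0,2,[0,0]),
  (0,3,[1,0]),
  (0,4,[0,1,0]),
  (0,5,[0,0,1,0]),
  (0,6,[1,0,0]),
  (0,7,[0,1,0,0]),
  (0,8,[1,2,0,0]),
  (0,9,[1,1,0]),
  (0,10,[2,0,0]),
  (1,1,[]),
  (1,2,[1,1,0,2,0,0]),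
  (1,3,[1]),
  (1,4,[2,1,1]),
  (1,5,[1,1,1]),
  (1,6,[0,2,2,1,0,0]),
  (1,7,[0,0,2,0,0,0]),
  (1,8,[1,0,2,0,0]),
  (1,9,[1,1]),
  (1,10,[0,2,0,0]),
  (2,2,[]),
  (2,3,[0,2,2,1,0,2,0]),
  (2,4,[2,0,2,0,2,0]),
  (2,5,[0,2,0,0,1,1]),
  (2,6,[2,2,2]),
  (2,7,[1,0,0,2,1,0]),
  (2,8,[2,2]),
  (2,9,[0,2,0,2,0]),
  (2,10,[2]),
  (3,3,[]),
  (3,4,[1,2,1,0,2,0,2,0,1]),
  (3,5,[0,2,0,2,0,2]),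
  (3,6,[1,2,2,0,2,0,0,2,2,1]),
  (3,7,[2,1,0,0,2,2,0,0,1,0]),
  (3,8,[0,2,2,1,0,0,2,1]),
  (3,9,[2,0,2,0,0,2,1]),
  (3,10,[2,1,0,0,2,1,0,2])]

/-- Certificate data. -/
def matsL0 : List (List ℕ) := [[1,1,0,1],
  [5,0,0,9],
  [0,4,8,0]]

/-- Certificate data. -/
def pairL0_0 : List (List ℕ × List ℕ × ℕ × ℕ × List ℕ) := [([0,1,2,3,4,5,6,7,8,9,10],[1,0,0,1],0,3,[1,2,3]),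
  ([1,2,3,4,5,6,7,8,9,10,0],[1,1,0,1],0,0,[4,5,6]),
  ([0,3,6,9,1,4,7,10,2,5,8],[5,0,0,9],0,1,[7,8,9]),
  ([0,1,8,4,3,9,10,7,2,5,6],[0,4,8,0],0,2,[10,11,0]),
  ([2,3,4,5,6,7,8,9,10,0,1],[1,2,0,1],1,0,[12,13,14]),
  ([3,6,9,1,4,7,10,2,5,8,0],[5,5,0,9],1,1,[15,16,17]),
  ([1,8,4,3,9,10,7,2,5,6,0],[0,4,8,8],1,2,[18,19,1]),
  ([1,4,7,10,2,5,8,0,3,6,9],[5,9,0,9],2,0,[20,21,22]),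
  ([0,9,7,5,3,1,10,8,6,4,2],[3,0,0,4],2,1,[23,24,25]),
  ([0,4,10,5,1,3,7,6,8,9,2],[0,3,7,0],2,2,[26,3,2]),
  ([1,2,9,5,4,10,0,8,3,6,7],[3,7,3,0],3,0,[27,28,29]),
  ([0,3,2,1,9,5,8,10,6,4,7],[0,2,5,0],3,1,[30,31,32]),
  ([3,4,5,6,7,8,9,10,0,1,2],[1,3,0,1],4,0,[33,34,35]),
  ([6,9,1,4,7,10,2,5,8,0,3],[5,10,0,9],4,1,[36,37,38]),
  ([8,4,3,9,10,7,2,5,6,0,1],[0,4,8,5],4,2,[39,40,4]),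
  ([4,7,10,2,5,8,0,3,6,9,1],[5,3,0,9],5,0,[41,23,42]),
  ([9,7,5,3,1,10,8,6,4,2,0],[3,3,0,4],5,1,[43,44,45]),
  ([4,10,5,1,3,7,6,8,9,2,0],[0,3,7,7],5,2,[46,6,5]),
  ([2,9,5,4,10,0,8,3,6,7,1],[3,10,3,3],6,0,[47,48,49]),
  ([3,2,1,9,5,8,10,6,4,7,0],[0,2,5,5],6,1,[50,51,52]),
  ([2,5,8,0,3,6,9,1,4,7,10],[5,7,0,9],7,0,[5,53,54]),
  ([3,1,10,8,6,4,2,0,9,7,5],[3,1,0,4],7,1,[55,56,57]),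
  ([1,3,7,6,8,9,2,0,4,10,5],[0,3,7,6],7,2,[58,59,7]),
  ([1,10,8,6,4,2,0,9,7,5,3],[3,4,0,4],8,0,[60,61,62]),
  ([0,5,10,4,9,3,8,2,7,1,6],[4,0,0,3],8,1,[63,32,31]),
  ([0,5,7,9,4,1,6,2,10,3,8],[0,5,2,0],8,2,[64,9,8]),
  ([1,5,0,6,2,4,8,7,9,10,3],[4,8,4,0],9,0,[65,66,67]),
  ([2,3,10,6,5,0,1,9,4,7,8],[5,4,8,0],10,0,[66,68,69]),
  ([3,6,5,4,1,8,0,2,9,7,10],[4,2,5,0],10,1,[70,71,72]),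
  ([1,8,5,9,3,6,0,2,4,10,7],[1,0,2,1],10,2,[73,74,10]),
  ([1,4,3,2,10,6,9,0,7,5,8],[5,2,5,0],11,0,[75,76,77]),
  ([0,9,6,3,5,4,2,8,7,1,10],[0,1,10,0],11,1,[78,25,24]),
  ([0,4,8,1,5,9,2,6,10,3,7],[2,0,0,6],11,2,[79,0,11]),
  ([4,5,6,7,8,9,10,0,1,2,3],[1,4,0,1],12,0,[80,7,59]),
  ([9,1,4,7,10,2,5,8,0,3,6],[5,4,0,9],12,1,[81,82,83]),
  ([4,3,9,10,7,2,5,6,0,1,8],[0,4,8,2],12,2,[84,85,12]),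
  ([7,10,2,5,8,0,3,6,9,1,4],[5,8,0,9],13,0,[86,43,87]),
  ([7,5,3,1,10,8,6,4,2,0,9],[3,6,0,4],13,1,[88,89,90]),
  ([10,5,1,3,7,6,8,9,2,0,4],[0,3,7,3],13,2,[91,14,13]),
  ([9,5,4,10,0,8,3,6,7,1,2],[3,2,3,6],14,0,[92,93,94]),
  ([2,1,9,5,8,10,6,4,7,0,3],[0,2,5,10],14,1,[95,96,97]),
  ([5,8,0,3,6,9,1,4,7,10,2],[5,1,0,9],15,0,[13,55,98]),
  ([3,7,6,8,9,2,0,4,10,5,1],[0,3,7,2],15,2,[99,100,15]),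
  ([10,8,6,4,2,0,9,7,5,3,1],[3,7,0,4],16,0,[8,101,102]),
  ([5,10,4,9,3,8,2,7,1,6,0],[4,4,0,3],16,1,[103,52,51]),
  ([5,7,9,4,1,6,2,10,3,8,0],[0,5,2,2],16,2,[104,17,16]),
  ([5,0,6,2,4,8,7,9,10,3,1],[4,1,4,4],17,0,[105,106,107]),
  ([3,10,6,5,0,1,9,4,7,8,2],[5,9,8,8],18,0,[106,108,109]),
  ([6,5,4,1,8,0,2,9,7,10,3],[4,6,5,5],18,1,[110,111,112]),
  ([8,5,9,3,6,0,2,4,10,7,1],[1,1,2,3],18,2,[113,114,18]),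
  ([4,3,2,10,6,9,0,7,5,8,1],[5,7,5,5],19,0,[115,116,117]),
  ([9,6,3,5,4,2,8,7,1,10,0],[0,1,10,10],19,1,[118,45,44]),
  ([4,8,1,5,9,2,6,10,3,7,0],[2,2,0,6],19,2,[119,1,19]),
  ([6,4,2,0,9,7,5,3,1,10,8],[3,2,0,4],20,1,[37,120,121]),
  ([8,9,2,0,4,10,5,1,3,7,6],[0,3,7,1],20,2,[122,123,20]),
  ([4,2,0,9,7,5,3,1,10,8,6],[3,5,0,4],21,0,[82,63,124]),
  ([9,3,8,2,7,1,6,0,5,10,4],[4,5,0,3],21,1,[89,119,125]),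
  ([4,1,6,2,10,3,8,0,5,7,9],[0,5,2,8],21,2,[126,22,21]),
  ([2,4,8,7,9,10,3,1,5,0,6],[4,2,4,5],22,0,[127,128,129]),
  ([3,9,10,7,2,5,6,0,1,8,4],[0,4,8,10],22,1,[130,131,33])]

/-- Certificate data. -/
def pairL0_1 : List (List ℕ × List ℕ × ℕ × ℕ × List ℕ) := [([2,0,9,7,5,3,1,10,8,6,4],[3,8,0,4],23,0,[21,103,132]),
  ([3,8,2,7,1,6,0,5,10,4,9],[4,9,0,3],23,1,[133,134,135]),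
  ([1,6,2,10,3,8,0,5,7,9,4],[0,5,2,10],23,2,[136,42,23]),
  ([1,6,0,5,10,4,9,3,8,2,7],[4,3,0,3],24,0,[137,138,139]),
  ([1,6,8,10,5,2,7,3,0,4,9],[2,5,2,0],25,0,[140,141,142]),
  ([2,6,1,7,3,5,9,8,10,0,4],[3,3,7,0],26,0,[141,143,144]),
  ([3,4,0,7,6,1,2,10,5,8,9],[2,4,8,0],26,1,[145,146,147]),
  ([1,9,0,10,8,3,2,7,5,6,4],[5,0,10,9],26,2,[148,149,26]),
  ([6,9,8,7,4,0,3,5,1,10,2],[3,9,6,0],27,1,[150,151,152]),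
  ([8,4,6,10,9,0,1,5,3,7,2],[1,0,4,1],27,2,[153,154,27]),
  ([4,7,6,5,2,9,1,3,10,8,0],[2,9,6,0],28,0,[155,78,156]),
  ([9,7,4,1,3,2,0,6,5,10,8],[2,1,10,0],28,1,[157,158,159]),
  ([4,10,9,3,1,2,0,8,5,7,6],[2,0,1,6],28,2,[160,29,28]),
  ([2,9,6,10,4,7,1,3,5,0,8],[3,1,2,1],29,0,[161,162,163]),
  ([3,2,4,5,9,7,0,6,1,8,10],[5,0,7,9],29,1,[164,165,166]),
  ([2,5,4,3,0,7,10,1,8,6,9],[1,9,6,0],30,0,[28,167,168]),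
  ([3,1,9,6,8,7,5,0,10,4,2],[3,10,1,0],30,1,[169,170,171]),
  ([1,3,4,8,6,10,5,0,7,9,2],[2,0,4,6],30,2,[114,172,30]),
  ([1,10,7,4,6,5,3,9,8,2,0],[1,10,1,0],31,0,[173,174,175]),
  ([1,5,9,2,6,10,3,7,0,4,8],[2,6,0,6],32,0,[176,12,85]),
  ([5,6,7,8,9,10,0,1,2,3,4],[1,5,0,1],33,0,[177,15,100]),
  ([10,2,5,8,0,3,6,9,1,4,7],[5,2,0,9],34,0,[2,88,178]),
  ([5,3,1,10,8,6,4,2,0,9,7],[3,9,0,4],34,1,[53,133,179]),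
  ([5,1,3,7,6,8,9,2,0,4,10],[0,3,7,10],34,2,[180,35,34]),
  ([5,4,10,0,8,3,6,7,1,2,9],[3,5,3,9],35,0,[181,182,183]),
  ([1,9,5,8,10,6,4,7,0,3,2],[0,2,5,4],35,1,[184,185,79]),
  ([8,0,3,6,9,1,4,7,10,2,5],[5,6,0,9],36,0,[34,60,186]),
  ([7,6,8,9,2,0,4,10,5,1,3],[0,3,7,9],36,2,[187,188,36]),
  ([8,6,4,2,0,9,7,5,3,1,10],[3,10,0,4],37,0,[16,137,189]),
  ([10,4,9,3,8,2,7,1,6,0,5],[4,8,0,3],37,1,[24,97,96]),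
  ([7,9,4,1,6,2,10,3,8,0,5],[0,5,2,4],37,2,[190,38,37]),
  ([0,6,2,4,8,7,9,10,3,1,5],[4,5,4,8],38,0,[191,192,193]),
  ([10,6,5,0,1,9,4,7,8,2,3],[5,3,8,5],39,0,[192,194,195]),
  ([5,4,1,8,0,2,9,7,10,3,6],[4,10,5,10],39,1,[196,197,198]),
  ([5,9,3,6,0,2,4,10,7,1,8],[1,2,2,5],39,2,[199,200,39]),
  ([3,2,10,6,9,0,7,5,8,1,4],[5,1,5,10],40,0,[147,201,202]),
  ([6,3,5,4,2,8,7,1,10,0,9],[0,1,10,9],40,1,[203,90,89]),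
  ([8,1,5,9,2,6,10,3,7,0,4],[2,4,0,6],40,2,[134,4,40]),
  ([9,2,0,4,10,5,1,3,7,6,8],[0,3,7,8],41,2,[204,205,41]),
  ([4,8,7,9,10,3,1,5,0,6,2],[4,6,4,9],42,0,[206,207,208]),
  ([9,10,7,2,5,6,0,1,8,4,3],[0,4,8,7],42,1,[209,210,80]),
  ([8,2,7,1,6,0,5,10,4,9,3],[4,2,0,3],43,1,[56,176,211]),
  ([6,2,10,3,8,0,5,7,9,4,1],[0,5,2,1],43,2,[212,87,43]),
  ([6,0,5,10,4,9,3,8,2,7,1],[4,7,0,3],44,0,[120,213,214]),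
  ([6,8,10,5,2,7,3,0,4,9,1],[2,7,2,2],45,0,[215,216,217]),
  ([6,1,7,3,5,9,8,10,0,4,2],[3,6,7,7],46,0,[216,218,219]),
  ([4,0,7,6,1,2,10,5,8,9,3],[2,6,8,8],46,1,[220,221,222]),
  ([9,0,10,8,3,2,7,5,6,4,1],[5,5,10,8],46,2,[223,224,46]),
  ([9,8,7,4,0,3,5,1,10,2,6],[3,1,6,6],47,1,[225,226,126]),
  ([4,6,10,9,0,1,5,3,7,2,8],[1,1,4,5],47,2,[227,228,47]),
  ([7,6,5,2,9,1,3,10,8,0,4],[2,0,6,6],48,0,[229,118,150]),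
  ([7,4,1,3,2,0,6,5,10,8,9],[2,3,10,10],48,1,[230,231,232]),
  ([10,9,3,1,2,0,8,5,7,6,4],[2,2,1,7],48,2,[233,49,48]),
  ([9,6,10,4,7,1,3,5,0,8,2],[3,4,2,3],49,0,[234,235,236]),
  ([2,4,5,9,7,0,6,1,8,10,3],[5,5,7,5],49,1,[237,238,239]),
  ([5,4,3,0,7,10,1,8,6,9,2],[1,10,6,6],50,0,[48,240,241]),
  ([1,9,6,8,7,5,0,10,4,2,3],[3,2,1,1],50,1,[242,243,244]),
  ([3,4,8,6,10,5,0,7,9,2,1],[2,2,4,10],50,2,[200,245,50]),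
  ([10,7,4,6,5,3,9,8,2,0,1],[1,0,1,1],51,0,[246,144,143]),
  ([5,9,2,6,10,3,7,0,4,8,1],[2,8,0,6],52,0,[247,33,131])]

/-- Certificate data. -/
def pairL0_2 : List (List ℕ × List ℕ × ℕ × ℕ × List ℕ) := [([7,1,6,0,5,10,4,9,3,8,2],[4,10,0,3],53,1,[101,248,249]),
  ([10,3,8,0,5,7,9,4,1,6,2],[0,5,2,5],53,2,[250,54,53]),
  ([9,10,3,1,5,0,6,2,4,8,7],[4,7,4,10],54,0,[251,252,253]),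
  ([2,5,6,0,1,8,4,3,9,10,7],[0,4,8,9],54,1,[254,255,256]),
  ([3,8,0,5,7,9,4,1,6,2,10],[0,5,2,7],55,2,[257,98,55]),
  ([5,4,2,8,7,1,10,0,9,6,3],[0,1,10,7],56,2,[258,57,56]),
  ([5,2,7,3,0,4,9,1,6,8,10],[2,2,2,8],57,0,[259,109,108]),
  ([3,5,9,8,10,0,4,2,6,1,7],[3,4,7,6],58,0,[109,260,261]),
  ([6,1,2,10,5,8,9,3,4,0,7],[2,1,8,10],58,1,[262,263,264]),
  ([8,3,2,7,5,6,4,1,9,0,10],[5,9,10,5],58,2,[265,73,58]),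
  ([4,10,0,8,3,6,7,1,2,9,5],[3,8,3,1],59,0,[266,267,268]),
  ([9,5,8,10,6,4,7,0,3,2,1],[0,2,5,9],59,1,[269,125,119]),
  ([8,0,5,7,9,4,1,6,2,10,3],[0,5,2,9],60,2,[270,186,60]),
  ([4,9,3,8,2,7,1,6,0,5,10],[4,1,0,3],61,0,[44,79,185]),
  ([9,2,6,10,3,7,0,4,8,1,5],[2,10,0,6],61,1,[248,80,210]),
  ([4,2,8,7,1,10,0,9,6,3,5],[0,1,10,6],61,2,[271,62,61]),
  ([2,7,3,0,4,9,1,6,8,10,5],[2,4,2,10],62,0,[272,195,194]),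
  ([2,7,1,6,0,5,10,4,9,3,8],[4,6,0,3],63,0,[61,247,273]),
  ([3,7,0,4,8,1,5,9,2,6,10],[2,7,0,6],63,1,[52,274,275]),
  ([1,10,0,9,6,3,5,4,2,8,7],[0,1,10,2],63,2,[276,124,63]),
  ([2,7,9,0,6,3,8,4,1,5,10],[4,5,2,0],64,0,[174,277,278]),
  ([3,7,2,8,4,6,10,9,0,1,5],[1,8,4,0],64,1,[166,279,280]),
  ([1,10,2,6,9,8,7,4,0,3,5],[3,0,6,4],64,2,[281,282,64]),
  ([6,7,3,10,9,4,5,2,8,0,1],[4,4,8,0],65,1,[283,150,118]),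
  ([8,10,1,7,4,9,5,2,6,0,3],[5,0,9,9],65,2,[284,285,65]),
  ([4,5,1,8,7,2,3,0,6,9,10],[1,7,3,0],66,0,[286,30,172]),
  ([9,1,0,10,7,3,6,8,4,2,5],[1,2,5,0],66,1,[287,288,289]),
  ([4,3,0,7,10,1,8,6,9,2,5],[1,0,6,1],66,2,[93,67,66]),
  ([2,10,1,0,9,4,3,8,6,7,5],[4,9,10,9],67,0,[290,291,292]),
  ([3,5,0,8,2,9,6,10,4,7,1],[3,0,2,4],67,1,[293,294,295]),
  ([7,10,9,8,5,1,4,6,2,0,3],[2,2,5,0],68,0,[296,157,110]),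
  ([7,5,2,10,1,0,9,4,3,8,6],[4,1,10,0],68,1,[297,298,299]),
  ([10,5,2,7,3,0,4,9,1,6,8],[2,0,2,6],68,2,[300,69,68]),
  ([9,5,7,0,10,1,2,6,4,8,3],[5,1,4,1],69,0,[301,84,302]),
  ([2,1,7,8,5,0,3,4,9,10,6],[5,0,3,9],69,1,[303,304,305]),
  ([5,8,7,6,3,10,2,4,0,9,1],[3,2,5,0],70,0,[68,169,306]),
  ([3,7,10,9,8,5,1,4,6,2,0],[2,0,5,6],70,2,[307,308,70]),
  ([10,8,5,2,4,3,1,7,6,0,9],[1,1,10,0],71,0,[31,309,310]),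
  ([5,10,1,3,9,6,0,7,4,8,2],[1,6,9,0],71,1,[311,166,165]),
  ([5,7,3,1,4,8,0,10,9,6,2],[4,0,6,3],71,2,[312,72,71]),
  ([5,0,10,4,2,3,1,9,6,8,7],[3,6,1,6],72,0,[313,314,315]),
  ([3,10,7,0,5,8,2,4,6,1,9],[5,2,2,1],73,0,[314,316,317]),
  ([6,5,7,8,1,10,3,9,4,0,2],[4,5,7,9],73,1,[87,318,319]),
  ([8,5,10,6,3,7,1,4,9,0,2],[3,7,9,3],73,2,[320,58,73]),
  ([4,3,5,6,10,8,1,7,2,9,0],[1,9,7,9],74,0,[321,322,323]),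
  ([9,6,1,4,5,10,0,7,3,2,8],[3,0,8,4],74,1,[188,159,158]),
  ([4,8,3,9,5,7,0,10,1,2,6],[5,8,4,0],74,2,[324,10,74]),
  ([6,4,1,9,0,10,8,3,2,7,5],[5,1,10,0],75,1,[151,325,204]),
  ([8,9,3,4,0,7,6,1,2,10,5],[2,0,8,6],75,2,[326,327,75]),
  ([4,2,10,7,9,8,6,1,0,5,3],[4,10,1,0],76,0,[288,64,282]),
  ([9,3,5,7,2,10,4,0,8,1,6],[4,6,9,0],76,1,[298,324,328]),
  ([4,1,5,10,2,7,9,0,6,3,8],[4,0,2,3],76,2,[329,77,76]),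
  ([3,9,1,2,7,8,4,0,10,5,6],[1,0,8,1],77,1,[330,331,145]),
  ([2,0,8,5,7,6,4,10,9,3,1],[2,10,1,0],78,0,[76,311,332]),
  ([3,8,10,1,7,4,9,5,2,6,0],[5,6,9,0],78,1,[295,333,334]),
  ([1,6,7,3,10,9,4,5,2,8,0],[4,0,8,3],78,2,[335,156,78]),
  ([2,6,10,3,7,0,4,8,1,5,9],[2,1,0,6],79,0,[138,177,336]),
  ([6,7,8,9,10,0,1,2,3,4,5],[1,6,0,1],80,0,[337,36,188]),
  ([6,8,9,2,0,4,10,5,1,3,7],[0,3,7,5],81,2,[338,339,81]),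
  ([9,4,1,6,2,10,3,8,0,5,7],[0,5,2,6],82,2,[152,83,82])]

/-- Certificate data. -/
def pairL0_3 : List (List ℕ × List ℕ × ℕ × ℕ × List ℕ) := [([6,2,4,8,7,9,10,3,1,5,0],[4,9,4,1],83,0,[340,341,342]),
  ([6,5,0,1,9,4,7,8,2,3,10],[5,8,8,2],84,0,[341,343,344]),
  ([4,1,8,0,2,9,7,10,3,6,5],[4,3,5,4],84,1,[345,346,347]),
  ([9,3,6,0,2,4,10,7,1,8,5],[1,3,2,7],84,2,[348,302,84]),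
  ([2,10,6,9,0,7,5,8,1,4,3],[5,6,5,4],85,0,[222,349,350]),
  ([3,5,4,2,8,7,1,10,0,9,6],[0,1,10,8],85,1,[351,179,133]),
  ([2,0,4,10,5,1,3,7,6,8,9],[0,3,7,4],86,2,[352,353,86]),
  ([8,7,9,10,3,1,5,0,6,2,4],[4,10,4,2],87,0,[316,354,355]),
  ([10,7,2,5,6,0,1,8,4,3,9],[0,4,8,4],87,1,[356,336,177]),
  ([2,10,3,8,0,5,7,9,4,1,6],[0,5,2,3],88,2,[357,178,88]),
  ([8,10,5,2,7,3,0,4,9,1,6],[2,9,2,4],90,0,[315,358,359]),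
  ([1,7,3,5,9,8,10,0,4,2,6],[3,9,7,3],91,0,[358,360,361]),
  ([0,7,6,1,2,10,5,8,9,3,4],[2,8,8,5],91,1,[362,363,364]),
  ([0,10,8,3,2,7,5,6,4,1,9],[5,10,10,7],91,2,[365,366,91]),
  ([8,7,4,0,3,5,1,10,2,6,9],[3,4,6,1],92,1,[367,148,136]),
  ([6,10,9,0,1,5,3,7,2,8,4],[1,2,4,9],92,2,[368,369,92]),
  ([6,5,2,9,1,3,10,8,0,4,7],[2,2,6,1],93,0,[370,203,225]),
  ([4,1,3,2,0,6,5,10,8,9,7],[2,5,10,9],93,1,[371,372,373]),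
  ([9,3,1,2,0,8,5,7,6,4,10],[2,4,1,8],93,2,[374,94,93]),
  ([6,10,4,7,1,3,5,0,8,2,9],[3,7,2,5],94,0,[375,376,377]),
  ([4,5,9,7,0,6,1,8,10,3,2],[5,10,7,1],94,1,[378,379,380]),
  ([9,6,8,7,5,0,10,4,2,3,1],[3,5,1,2],95,1,[381,382,383]),
  ([4,8,6,10,5,0,7,9,2,1,3],[2,4,4,3],95,2,[302,384,95]),
  ([7,4,6,5,3,9,8,2,0,1,10],[1,1,1,2],96,0,[385,219,218]),
  ([10,3,1,5,0,6,2,4,8,7,9],[4,0,4,3],98,0,[386,168,167]),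
  ([5,6,0,1,8,4,3,9,10,7,2],[0,4,8,6],98,1,[387,275,274]),
  ([5,9,8,10,0,4,2,6,1,7,3],[3,7,7,2],99,0,[195,388,389]),
  ([1,2,10,5,8,9,3,4,0,7,6],[2,3,8,7],99,1,[390,391,392]),
  ([3,2,7,5,6,4,1,9,0,10,8],[5,3,10,4],99,2,[393,113,99]),
  ([10,0,8,3,6,7,1,2,9,5,4],[3,0,3,4],100,0,[394,332,311]),
  ([5,8,10,6,4,7,0,3,2,1,9],[0,2,5,3],100,1,[395,135,134]),
  ([2,8,7,1,10,0,9,6,3,5,4],[0,1,10,5],101,2,[396,102,101]),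
  ([7,3,0,4,9,1,6,8,10,5,2],[2,6,2,1],102,0,[397,344,343]),
  ([7,0,4,8,1,5,9,2,6,10,3],[2,9,0,6],103,1,[97,398,399]),
  ([10,0,9,6,3,5,4,2,8,7,1],[0,1,10,1],103,2,[400,132,103]),
  ([7,9,0,6,3,8,4,1,5,10,2],[4,9,2,2],104,0,[144,401,402]),
  ([7,2,8,4,6,10,9,0,1,5,3],[1,9,4,4],104,1,[239,403,404]),
  ([10,2,6,9,8,7,4,0,3,5,1],[3,3,6,10],104,2,[405,406,104]),
  ([7,3,10,9,4,5,2,8,0,1,6],[4,8,8,8],105,1,[407,225,203]),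
  ([10,1,7,4,9,5,2,6,0,3,8],[5,5,9,7],105,2,[408,409,105]),
  ([5,1,8,7,2,3,0,6,9,10,4],[1,8,3,3],106,0,[310,50,245]),
  ([1,0,10,7,3,6,8,4,2,5,9],[1,3,5,5],106,1,[410,411,412]),
  ([3,0,7,10,1,8,6,9,2,5,4],[1,1,6,7],106,2,[182,107,106]),
  ([10,1,0,9,4,3,8,6,7,5,2],[4,2,10,8],107,0,[413,414,313]),
  ([5,0,8,2,9,6,10,4,7,1,3],[3,3,2,6],107,1,[415,416,284]),
  ([10,9,8,5,1,4,6,2,0,3,7],[2,4,5,5],108,0,[417,230,196]),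
  ([5,2,10,1,0,9,4,3,8,6,7],[4,5,10,10],108,1,[418,419,420]),
  ([5,7,0,10,1,2,6,4,8,3,9],[5,6,4,5],109,0,[421,130,422]),
  ([1,7,8,5,0,3,4,9,10,6,2],[5,5,3,1],109,1,[423,424,425]),
  ([8,7,6,3,10,2,4,0,9,1,5],[3,5,5,5],110,0,[108,242,426]),
  ([8,5,2,4,3,1,7,6,0,9,10],[1,2,10,10],111,0,[51,427,428]),
  ([10,1,3,9,6,0,7,4,8,2,5],[1,7,9,9],111,1,[429,239,238]),
  ([7,3,1,4,8,0,10,9,6,2,5],[4,4,6,9],111,2,[430,112,111]),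
  ([0,10,4,2,3,1,9,6,8,7,5],[3,9,1,7],112,0,[431,432,300]),
  ([10,7,0,5,8,2,4,6,1,9,3],[5,7,2,3],113,0,[432,433,434]),
  ([5,7,8,1,10,3,9,4,0,2,6],[4,9,7,5],113,1,[178,330,435]),
  ([5,10,6,3,7,1,4,9,0,2,8],[3,10,9,1],113,2,[436,99,113]),
  ([3,5,6,10,8,1,7,2,9,0,4],[1,10,7,5],114,0,[317,437,438]),
  ([6,1,4,5,10,0,7,3,2,8,9],[3,3,8,1],114,1,[339,232,231]),
  ([8,3,9,5,7,0,10,1,2,6,4],[5,2,4,4],114,2,[439,18,114])]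

/-- Certificate data. -/
def pairL0_4 : List (List ℕ × List ℕ × ℕ × ℕ × List ℕ) := [([4,1,9,0,10,8,3,2,7,5,6],[5,6,10,10],115,1,[226,440,352]),
  ([9,3,4,0,7,6,1,2,10,5,8],[2,2,8,3],115,2,[441,442,115]),
  ([2,10,7,9,8,6,1,0,5,3,4],[4,3,1,1],116,0,[411,104,406]),
  ([3,5,7,2,10,4,0,8,1,6,9],[4,10,9,9],116,1,[419,439,443]),
  ([1,5,10,2,7,9,0,6,3,8,4],[4,4,2,5],116,2,[444,117,116]),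
  ([9,1,2,7,8,4,0,10,5,6,3],[1,1,8,9],117,1,[445,446,220]),
  ([0,8,5,7,6,4,10,9,3,1,2],[2,1,1,1],118,0,[116,429,447]),
  ([6,10,3,7,0,4,8,1,5,9,2],[2,3,0,6],119,0,[213,337,448]),
  ([10,3,7,0,4,8,1,5,9,2,6],[2,5,0,6],120,1,[32,256,255]),
  ([7,1,10,0,9,6,3,5,4,2,8],[0,1,10,3],120,2,[449,121,120]),
  ([0,4,9,1,6,8,10,5,2,7,3],[2,10,2,5],121,0,[244,450,451]),
  ([10,0,4,2,6,1,7,3,5,9,8],[3,5,7,1],122,0,[450,452,453]),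
  ([5,8,9,3,4,0,7,6,1,2,10],[2,9,8,9],122,1,[454,455,456]),
  ([5,6,4,1,9,0,10,8,3,2,7],[5,7,10,1],122,2,[457,458,122]),
  ([3,6,7,1,2,9,5,4,10,0,8],[3,9,3,2],123,0,[280,459,460]),
  ([6,4,7,0,3,2,1,9,5,8,10],[0,2,5,7],123,1,[461,249,248]),
  ([8,9,10,0,1,2,3,4,5,6,7],[1,8,0,1],123,2,[274,20,123]),
  ([4,9,1,6,8,10,5,2,7,3,0],[2,1,2,7],124,0,[383,462,463]),
  ([6,5,3,9,8,2,0,1,10,7,4],[1,3,1,4],125,0,[464,465,466]),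
  ([6,3,8,4,1,5,10,2,7,9,0],[4,10,2,8],126,0,[465,467,374]),
  ([9,4,5,2,8,0,1,6,7,3,10],[4,9,8,10],127,1,[468,469,271]),
  ([4,9,5,2,6,0,3,8,10,1,7],[5,9,9,1],127,2,[236,470,127]),
  ([7,2,3,0,6,9,10,4,5,1,8],[1,0,3,1],128,0,[471,269,283]),
  ([7,3,6,8,4,2,5,9,1,0,10],[1,6,5,9],128,1,[472,319,318]),
  ([10,1,8,6,9,2,5,4,3,0,7],[1,4,6,3],128,2,[447,129,128]),
  ([9,4,3,8,6,7,5,2,10,1,0],[4,3,10,5],129,0,[473,474,475]),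
  ([5,0,1,9,4,7,8,2,3,10,6],[5,2,8,10],130,0,[128,476,477]),
  ([1,8,0,2,9,7,10,3,6,5,4],[4,7,5,9],130,1,[478,479,480]),
  ([3,6,0,2,4,10,7,1,8,5,9],[1,4,2,9],130,2,[458,422,130]),
  ([10,6,9,0,7,5,8,1,4,3,2],[5,0,5,9],131,0,[364,278,277]),
  ([9,1,6,8,10,5,2,7,3,0,4],[2,3,2,9],132,0,[481,482,483]),
  ([5,3,9,8,2,0,1,10,7,4,6],[1,4,1,5],135,0,[484,261,260]),
  ([3,8,4,1,5,10,2,7,9,0,6],[4,3,2,10],136,0,[261,485,486]),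
  ([8,7,1,10,0,9,6,3,5,4,2],[0,1,10,4],137,2,[487,189,137]),
  ([9,10,0,1,2,3,4,5,6,7,8],[1,9,0,1],138,1,[398,41,205]),
  ([4,7,0,3,2,1,9,5,8,10,6],[0,2,5,1],138,2,[488,139,138]),
  ([2,0,1,10,7,4,6,5,3,9,8],[1,8,1,9],139,0,[347,453,452]),
  ([6,10,5,0,7,9,2,1,3,4,8],[2,8,4,0],140,1,[489,283,269]),
  ([8,7,5,0,10,4,2,3,1,9,6],[3,0,1,4],140,2,[420,490,140]),
  ([9,10,6,2,1,7,8,5,0,3,4],[5,7,3,0],141,1,[491,155,378]),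
  ([4,7,8,2,3,10,6,5,0,1,9],[5,0,8,9],141,2,[252,142,141]),
  ([2,0,3,7,10,9,8,5,1,4,6],[2,7,5,7],142,0,[373,492,493]),
  ([3,8,6,7,5,2,10,1,0,9,4],[4,0,10,3],142,1,[443,306,169]),
  ([7,8,4,0,10,5,6,3,9,1,2],[1,4,8,0],143,0,[494,287,262]),
  ([9,0,2,8,5,10,6,3,7,1,4],[3,9,9,9],144,0,[231,46,224]),
  ([2,8,3,10,1,5,4,6,7,0,9],[3,0,4,4],144,1,[495,310,309]),
  ([5,6,2,9,8,3,4,1,7,10,0],[4,7,3,0],145,0,[143,70,308]),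
  ([10,2,1,0,8,4,7,9,5,3,6],[5,9,6,0],146,0,[11,297,421]),
  ([5,3,0,8,10,9,7,2,1,6,4],[5,10,1,0],146,1,[167,295,294]),
  ([5,1,0,6,7,4,10,2,3,8,9],[2,0,3,6],146,2,[496,147,146]),
  ([3,0,2,1,10,5,4,9,7,8,6],[3,7,10,9],148,0,[197,315,314]),
  ([6,8,3,0,5,1,9,2,7,10,4],[2,10,9,7],148,1,[90,497,498]),
  ([8,6,1,0,5,3,4,2,10,7,9],[4,8,1,5],148,2,[435,136,148]),
  ([4,6,1,9,3,10,7,0,5,8,2],[5,4,2,4],149,0,[382,191,499]),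
  ([9,4,0,2,6,5,7,8,1,10,3],[4,0,7,3],149,1,[38,289,288]),
  ([4,9,0,2,8,5,10,6,3,7,1],[3,6,9,0],149,2,[158,26,149]),
  ([8,0,10,9,6,2,5,7,3,1,4],[4,9,6,0],150,0,[146,173,500]),
  ([8,6,3,0,2,1,10,5,4,9,7],[3,1,10,0],151,0,[71,140,490]),
  ([10,4,6,8,3,0,5,1,9,2,7],[2,6,9,0],151,1,[25,305,304]),
  ([7,9,8,6,1,0,5,3,4,2,10],[4,0,1,3],151,2,[501,152,151])]

/-- Certificate data. -/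
def pairL0_5 : List (List ℕ × List ℕ × ℕ × ℕ × List ℕ) := [([0,6,3,8,4,1,5,10,2,7,9],[4,6,2,6],152,0,[361,502,233]),
  ([10,6,8,1,0,2,3,7,5,9,4],[2,9,7,10],153,0,[502,503,504]),
  ([5,9,7,0,6,1,8,10,3,2,4],[5,4,7,8],153,2,[505,506,153]),
  ([3,2,8,9,6,1,4,5,10,0,7],[3,2,8,2],154,0,[35,507,508]),
  ([6,3,10,2,4,0,9,1,5,8,7],[3,0,5,4],154,1,[343,299,298]),
  ([8,1,7,2,9,0,4,3,5,6,10],[1,3,7,0],154,2,[333,27,154]),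
  ([9,2,7,10,4,6,8,3,0,5,1],[2,0,9,6],155,2,[121,378,155]),
  ([4,8,0,10,9,6,2,5,7,3,1],[4,5,6,5],156,0,[442,480,479]),
  ([9,10,8,5,2,4,3,1,7,6,0],[1,0,10,1],156,1,[214,509,286]),
  ([8,2,4,6,1,9,3,10,7,0,5],[5,5,2,0],157,1,[170,65,285]),
  ([6,2,9,8,3,4,1,7,10,0,5],[4,0,3,3],157,2,[218,110,157]),
  ([6,0,2,4,10,7,1,8,5,9,3],[1,5,2,0],158,0,[325,489,209]),
  ([6,8,4,2,5,9,1,0,10,7,3],[1,8,5,8],159,0,[510,511,445]),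
  ([6,1,0,5,3,4,2,10,7,9,8],[4,1,1,6],160,0,[511,212,223]),
  ([4,0,8,1,6,9,3,5,7,2,10],[4,8,9,10],160,1,[474,512,290]),
  ([9,0,6,3,8,4,1,5,10,2,7],[4,2,2,4],160,2,[219,513,160]),
  ([9,8,10,0,4,2,6,1,7,3,5],[3,10,7,9],161,1,[344,514,329]),
  ([4,6,7,0,9,2,8,3,10,1,5],[3,7,4,6],161,2,[235,515,161]),
  ([7,4,10,2,3,8,9,5,1,0,6],[2,8,3,7],162,1,[516,264,263]),
  ([10,9,7,2,1,6,4,5,3,0,8],[5,8,1,4],162,2,[193,163,162]),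
  ([9,6,0,7,4,8,2,5,10,1,3],[1,10,9,3],163,0,[517,227,518]),
  ([5,4,6,7,0,9,2,8,3,10,1],[3,4,4,2],164,0,[162,519,520]),
  ([1,9,4,7,8,2,3,10,6,5,0],[5,1,8,4],164,1,[354,463,462]),
  ([3,4,9,10,6,2,1,7,8,5,0],[5,8,3,5],164,2,[506,521,164]),
  ([5,9,4,10,6,8,1,0,2,3,7],[2,3,7,0],166,0,[277,145,331]),
  ([7,1,3,5,0,8,2,9,6,10,4],[3,5,2,0],167,1,[309,522,523]),
  ([9,10,4,5,1,8,7,2,3,0,6],[1,5,3,5],168,0,[524,488,525]),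
  ([2,5,9,1,0,10,7,3,6,8,4],[1,0,5,1],168,1,[526,527,494]),
  ([5,4,9,7,8,6,3,0,2,1,10],[3,0,10,4],170,2,[528,171,170]),
  ([5,2,6,0,3,8,10,1,7,4,9],[5,8,9,8],171,0,[529,317,316]),
  ([4,10,2,3,8,9,5,1,0,6,7],[2,10,3,10],172,0,[530,392,391]),
  ([9,5,3,6,10,2,1,0,8,4,7],[5,0,6,9],172,1,[448,328,324]),
  ([8,0,2,9,7,10,3,6,5,4,1],[4,0,5,3],173,2,[531,500,173]),
  ([9,2,8,3,10,1,5,4,6,7,0],[3,8,4,0],174,1,[522,286,509]),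
  ([4,2,6,1,7,3,5,9,8,10,0],[3,0,7,4],174,2,[482,175,174]),
  ([2,7,8,4,0,10,5,6,3,9,1],[1,3,8,3],175,0,[532,504,503]),
  ([8,10,6,4,7,0,3,2,1,9,5],[0,2,5,8],176,2,[533,211,176]),
  ([7,8,9,10,0,1,2,3,4,5,6],[1,7,0,1],177,0,[256,81,339]),
  ([7,9,10,3,1,5,0,6,2,4,8],[4,3,4,6],178,0,[433,534,535]),
  ([7,2,5,6,0,1,8,4,3,9,10],[0,4,8,1],178,1,[536,448,337]),
  ([7,3,5,9,8,10,0,4,2,6,1],[3,1,7,10],180,0,[69,466,465]),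
  ([7,6,1,2,10,5,8,9,3,4,0],[2,10,8,2],180,1,[503,537,538]),
  ([10,8,3,2,7,5,6,4,1,9,0],[5,4,10,6],180,2,[539,540,180]),
  ([7,4,0,3,5,1,10,2,6,9,8],[3,7,6,7],181,1,[541,223,212]),
  ([10,9,0,1,5,3,7,2,8,4,6],[1,3,4,2],181,2,[542,516,181]),
  ([5,2,9,1,3,10,8,0,4,7,6],[2,4,6,7],182,0,[304,351,367]),
  ([1,3,2,0,6,5,10,8,9,7,4],[2,7,10,8],182,1,[543,544,545]),
  ([3,1,2,0,8,5,7,6,4,10,9],[2,6,1,9],182,2,[486,183,182]),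
  ([10,4,7,1,3,5,0,8,2,9,6],[3,10,2,7],183,0,[546,547,529]),
  ([6,8,7,5,0,10,4,2,3,1,9],[3,8,1,3],184,1,[299,548,481]),
  ([8,6,10,5,0,7,9,2,1,3,4],[2,6,4,7],184,2,[422,335,184]),
  ([4,6,5,3,9,8,2,0,1,10,7],[1,2,1,3],185,0,[549,361,360]),
  ([3,1,5,0,6,2,4,8,7,9,10],[4,4,4,7],186,0,[334,241,240]),
  ([6,0,1,8,4,3,9,10,7,2,5],[0,4,8,3],186,1,[550,399,398]),
  ([2,10,5,8,9,3,4,0,7,6,1],[2,5,8,4],187,1,[551,312,552]),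
  ([2,7,5,6,4,1,9,0,10,8,3],[5,8,10,3],187,2,[282,199,187]),
  ([0,8,3,6,7,1,2,9,5,4,10],[3,3,3,7],188,0,[322,447,429]),
  ([3,0,4,9,1,6,8,10,5,2,7],[2,8,2,3],189,0,[171,477,476]),
  ([2,8,4,6,10,9,0,1,5,3,7],[1,10,4,8],190,1,[380,496,553]),
  ([2,6,9,8,7,4,0,3,5,1,10],[3,6,6,5],190,2,[156,457,190])]

/-- Certificate data. -/
def pairL0_6 : List (List ℕ × List ℕ × ℕ × ℕ × List ℕ) := [([3,10,9,4,5,2,8,0,1,6,7],[4,1,8,5],191,1,[554,367,351]),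
  ([1,7,4,9,5,2,6,0,3,8,10],[5,10,9,5],191,2,[555,499,191]),
  ([1,8,7,2,3,0,6,9,10,4,5],[1,9,3,6],192,0,[428,95,384]),
  ([0,10,7,3,6,8,4,2,5,9,1],[1,4,5,10],192,1,[556,557,558]),
  ([0,7,10,1,8,6,9,2,5,4,3],[1,2,6,2],192,2,[267,193,192]),
  ([1,0,9,4,3,8,6,7,5,2,10],[4,6,10,7],193,0,[559,560,431]),
  ([0,8,2,9,6,10,4,7,1,3,5],[3,6,2,8],193,1,[561,562,408]),
  ([9,8,5,1,4,6,2,0,3,7,10],[2,6,5,10],194,0,[563,371,345]),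
  ([7,0,10,1,2,6,4,8,3,9,5],[5,0,4,9],195,0,[564,209,489]),
  ([7,8,5,0,3,4,9,10,6,2,1],[5,10,3,4],195,1,[565,498,497]),
  ([7,6,3,10,2,4,0,9,1,5,8],[3,8,5,10],196,0,[194,381,566]),
  ([5,2,4,3,1,7,6,0,9,10,8],[1,3,10,9],197,0,[96,293,567]),
  ([1,3,9,6,0,7,4,8,2,5,10],[1,8,9,7],197,1,[568,380,379]),
  ([3,1,4,8,0,10,9,6,2,5,7],[4,8,6,4],197,2,[455,198,197]),
  ([10,4,2,3,1,9,6,8,7,5,0],[3,1,1,8],198,0,[569,570,259]),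
  ([7,0,5,8,2,4,6,1,9,3,10],[5,1,2,5],199,0,[570,251,571]),
  ([7,8,1,10,3,9,4,0,2,6,5],[4,2,7,1],199,1,[54,445,511]),
  ([10,6,3,7,1,4,9,0,2,8,5],[3,2,9,10],199,2,[572,187,199]),
  ([5,6,10,8,1,7,2,9,0,4,3],[1,0,7,1],200,0,[434,280,279]),
  ([1,4,5,10,0,7,3,2,8,9,6],[3,6,8,9],200,1,[123,373,372]),
  ([3,9,5,7,0,10,1,2,6,4,8],[5,7,4,8],200,2,[573,39,200]),
  ([10,7,9,8,6,1,0,5,3,4,2],[4,7,1,2],201,0,[557,190,457]),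
  ([5,7,2,10,4,0,8,1,6,9,3],[4,3,9,7],201,1,[291,573,574]),
  ([5,10,2,7,9,0,6,3,8,4,1],[4,8,2,7],201,2,[453,202,201]),
  ([1,2,7,8,4,0,10,5,6,3,9],[1,2,8,6],202,1,[575,526,362]),
  ([8,5,7,6,4,10,9,3,1,2,0],[2,3,1,2],203,0,[201,568,576]),
  ([0,4,2,6,1,7,3,5,9,8,10],[3,8,7,8],204,0,[462,577,578]),
  ([6,7,1,2,9,5,4,10,0,8,3],[3,1,3,5],205,0,[404,579,517]),
  ([4,5,2,8,0,1,6,7,3,10,9],[4,2,8,7],206,1,[525,580,396]),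
  ([9,5,2,6,0,3,8,10,1,7,4],[5,3,9,10],206,2,[377,321,206]),
  ([2,3,0,6,9,10,4,5,1,8,7],[1,1,3,4],207,0,[581,395,407]),
  ([3,6,8,4,2,5,9,1,0,10,7],[1,7,5,3],207,1,[582,435,330]),
  ([1,8,6,9,2,5,4,3,0,7,10],[1,5,6,9],207,2,[576,208,207]),
  ([4,3,8,6,7,5,2,10,1,0,9],[4,7,10,4],208,0,[328,583,584]),
  ([0,1,9,4,7,8,2,3,10,6,5],[5,7,8,7],209,0,[207,451,450]),
  ([6,9,0,7,5,8,1,4,3,2,10],[5,5,5,3],210,0,[538,402,401]),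
  ([3,9,8,2,0,1,10,7,4,6,5],[1,5,1,6],211,0,[72,389,388]),
  ([8,4,1,5,10,2,7,9,0,6,3],[4,7,2,1],212,0,[389,585,586]),
  ([10,0,1,2,3,4,5,6,7,8,9],[1,10,0,1],213,1,[0,86,353]),
  ([7,0,3,2,1,9,5,8,10,6,4],[0,2,5,6],213,2,[587,214,213]),
  ([0,1,10,7,4,6,5,3,9,8,2],[1,9,1,10],214,0,[480,578,577]),
  ([10,5,0,7,9,2,1,3,4,8,6],[2,10,4,4],215,1,[588,407,395]),
  ([7,5,0,10,4,2,3,1,9,6,8],[3,3,1,5],215,2,[292,589,215]),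
  ([10,6,2,1,7,8,5,0,3,4,9],[5,1,3,3],216,1,[590,229,505]),
  ([7,8,2,3,10,6,5,0,1,9,4],[5,5,8,6],216,2,[168,217,216]),
  ([0,3,7,10,9,8,5,1,4,6,2],[2,9,5,1],217,0,[545,591,592]),
  ([8,6,7,5,2,10,1,0,9,4,3],[4,4,10,2],217,1,[574,426,242]),
  ([8,4,0,10,5,6,3,9,1,2,7],[1,5,8,8],218,0,[593,410,390]),
  ([0,2,8,5,10,6,3,7,1,4,9],[3,1,9,7],219,0,[372,91,366]),
  ([8,3,10,1,5,4,6,7,0,9,2],[3,3,4,8],219,1,[294,428,427]),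
  ([2,1,0,8,4,7,9,5,3,6,10],[5,3,6,6],221,0,[19,418,564]),
  ([3,0,8,10,9,7,2,1,6,4,5],[5,4,1,1],221,1,[240,284,416]),
  ([1,0,6,7,4,10,2,3,8,9,5],[2,2,3,9],221,2,[154,222,221]),
  ([0,2,1,10,5,4,9,7,8,6,3],[3,10,10,8],223,0,[346,300,432]),
  ([8,3,0,5,1,9,2,7,10,4,6],[2,1,9,5],223,1,[179,594,595]),
  ([6,1,9,3,10,7,0,5,8,2,4],[5,9,2,6],224,0,[548,340,596]),
  ([4,0,2,6,5,7,8,1,10,3,9],[4,4,7,10],224,1,[83,412,411]),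
  ([0,10,9,6,2,5,7,3,1,4,8],[4,2,6,6],225,0,[221,246,597]),
  ([6,3,0,2,1,10,5,4,9,7,8],[3,4,10,10],226,0,[111,215,589]),
  ([4,6,8,3,0,5,1,9,2,7,10],[2,8,9,9],226,1,[45,425,424])]

/-- Certificate data. -/
def pairL0_7 : List (List ℕ × List ℕ × ℕ × ℕ × List ℕ) := [([9,8,6,1,0,5,3,4,2,10,7],[4,4,1,4],226,2,[319,126,226]),
  ([6,8,1,0,2,3,7,5,9,4,10],[2,0,7,6],227,0,[467,262,287]),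
  ([9,7,0,6,1,8,10,3,2,4,5],[5,9,7,4],227,2,[598,518,227]),
  ([2,8,9,6,1,4,5,10,0,7,3],[3,5,8,10],228,0,[59,599,600]),
  ([3,10,2,4,0,9,1,5,8,7,6],[3,3,5,9],228,1,[476,420,419]),
  ([1,7,2,9,0,4,3,5,6,10,8],[1,4,7,7],228,2,[285,47,228]),
  ([2,7,10,4,6,8,3,0,5,1,9],[2,2,9,4],229,2,[124,505,229]),
  ([2,4,6,1,9,3,10,7,0,5,8],[5,10,2,2],230,1,[243,105,409]),
  ([2,9,8,3,4,1,7,10,0,5,6],[4,4,3,6],230,2,[360,196,230]),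
  ([0,2,4,10,7,1,8,5,9,3,6],[1,6,2,2],231,0,[440,588,356]),
  ([8,4,2,5,9,1,0,10,7,3,6],[1,9,5,2],232,0,[331,601,575]),
  ([1,0,5,3,4,2,10,7,9,8,6],[4,5,1,7],233,0,[601,357,365]),
  ([0,8,1,6,9,3,5,7,2,10,4],[4,1,9,8],233,1,[583,602,413]),
  ([8,10,0,4,2,6,1,7,3,5,9],[3,2,7,5],234,1,[477,603,444]),
  ([6,7,0,9,2,8,3,10,1,5,4],[3,10,4,10],234,2,[376,604,234]),
  ([9,7,2,1,6,4,5,3,0,8,10],[5,2,1,5],235,2,[342,236,235]),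
  ([6,0,7,4,8,2,5,10,1,3,9],[1,0,9,1],236,0,[605,368,491]),
  ([9,4,7,8,2,3,10,6,5,0,1],[5,6,8,1],237,1,[534,483,482]),
  ([4,9,10,6,2,1,7,8,5,0,3],[5,2,3,8],237,2,[518,606,237]),
  ([9,4,10,6,8,1,0,2,3,7,5],[2,5,7,7],239,0,[401,220,446]),
  ([1,3,5,0,8,2,9,6,10,4,7],[3,8,2,2],240,1,[427,495,607]),
  ([10,4,5,1,8,7,2,3,0,6,9],[1,6,3,8],241,0,[608,587,609]),
  ([5,9,1,0,10,7,3,6,8,4,2],[1,1,5,6],241,1,[504,610,593]),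
  ([4,9,7,8,6,3,0,2,1,10,5],[3,3,10,3],243,2,[611,244,243]),
  ([2,6,0,3,8,10,1,7,4,9,5],[5,2,9,6],244,0,[612,434,433]),
  ([10,2,3,8,9,5,1,0,6,7,4],[2,1,3,2],245,0,[613,552,312]),
  ([5,3,6,10,2,1,0,8,4,7,9],[5,5,6,4],245,1,[255,443,439]),
  ([0,2,9,7,10,3,6,5,4,1,8],[4,4,5,8],246,2,[614,597,246]),
  ([10,6,4,7,0,3,2,1,9,5,8],[0,2,5,2],247,2,[615,273,247]),
  ([8,2,0,1,10,7,4,6,5,3,9],[1,7,1,8],249,0,[198,444,603]),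
  ([0,1,5,3,7,2,8,4,6,10,9],[1,5,4,10],250,1,[616,613,394]),
  ([0,3,5,1,10,2,6,9,8,7,4],[3,2,6,8],250,2,[580,539,250]),
  ([8,0,1,6,7,3,10,9,4,5,2],[4,3,8,9],251,1,[245,281,276]),
  ([6,0,3,8,10,1,7,4,9,5,2],[5,7,9,4],251,2,[523,571,251]),
  ([6,9,10,4,5,1,8,7,2,3,0],[1,4,3,2],252,0,[604,461,468]),
  ([4,2,5,9,1,0,10,7,3,6,8],[1,10,5,7],252,1,[446,617,532]),
  ([9,2,5,4,3,0,7,10,1,8,6],[1,8,6,5],252,2,[618,253,252]),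
  ([6,7,5,2,10,1,0,9,4,3,8],[4,8,10,1],253,0,[619,566,381]),
  ([4,7,1,3,5,0,8,2,9,6,10],[3,2,2,9],253,1,[509,620,612]),
  ([9,7,10,3,6,5,4,1,8,0,2],[4,1,5,7],254,1,[621,611,549]),
  ([4,10,7,1,8,5,9,3,6,0,2],[1,8,2,6],254,2,[224,622,254]),
  ([7,5,8,1,4,3,2,10,6,9,0],[5,9,5,7],255,0,[552,374,467]),
  ([1,5,3,7,2,8,4,6,10,9,0],[1,6,4,3],257,1,[623,323,322]),
  ([3,5,1,10,2,6,9,8,7,4,0],[3,5,6,3],257,2,[624,265,257]),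
  ([7,6,4,10,9,3,1,2,0,8,5],[2,7,1,4],258,0,[278,517,579]),
  ([7,4,9,5,2,6,0,3,8,10,1],[5,4,9,3],258,1,[163,596,340]),
  ([10,9,4,5,2,8,0,1,6,7,3],[4,5,8,2],258,2,[625,541,258]),
  ([7,9,2,1,3,4,8,6,10,5,0],[2,5,4,5],259,1,[626,468,461]),
  ([10,5,6,3,9,1,2,7,8,4,0],[1,8,8,10],260,0,[558,472,454]),
  ([5,1,4,6,2,0,3,7,10,9,8],[2,10,5,9],260,1,[599,627,531]),
  ([1,5,4,6,7,0,9,2,8,3,10],[3,1,4,9],261,1,[628,581,561]),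
  ([8,3,4,1,7,10,0,5,6,2,9],[4,1,3,1],262,0,[260,478,543]),
  ([8,4,7,9,5,3,6,10,2,1,0],[5,7,6,2],263,0,[131,559,629]),
  ([10,5,4,9,7,8,6,3,0,2,1],[3,8,10,5],265,0,[597,397,630]),
  ([5,1,9,2,7,10,4,6,8,3,0],[2,7,9,10],265,1,[102,164,521]),
  ([5,3,4,2,10,7,9,8,6,1,0],[4,2,1,9],265,2,[527,257,265]),
  ([4,0,3,5,1,10,2,6,9,8,7],[3,10,6,2],266,1,[469,365,357]),
  ([9,0,1,5,3,7,2,8,4,6,10],[1,4,4,6],266,2,[631,530,266]),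
  ([2,9,1,3,10,8,0,4,7,6,5],[2,6,6,2],267,0,[424,258,541]),
  ([3,2,0,6,5,10,8,9,7,4,1],[2,9,10,7],267,1,[627,320,307])]

/-- Certificate data. -/
def pairL0_8 : List (List ℕ × List ℕ × ℕ × ℕ × List ℕ) := [([1,2,0,8,5,7,6,4,10,9,3],[2,8,1,10],267,2,[586,268,267]),
  ([10,2,7,9,0,6,3,8,4,1,5],[4,1,2,9],270,0,[578,350,349]),
  ([5,3,7,2,8,4,6,10,9,0,1],[1,7,4,7],270,1,[632,438,437]),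
  ([5,1,10,2,6,9,8,7,4,0,3],[3,8,6,9],270,2,[633,393,270]),
  ([6,4,10,9,3,1,2,0,8,5,7],[2,9,1,5],271,0,[402,605,618]),
  ([9,2,1,3,4,8,6,10,5,0,7],[2,7,4,9],272,1,[634,525,488]),
  ([4,2,3,1,9,6,8,7,5,0,10],[3,4,1,9],272,2,[475,635,272]),
  ([9,8,2,0,1,10,7,4,6,5,3],[1,6,1,7],273,0,[112,329,514]),
  ([5,8,1,4,3,2,10,6,9,0,7],[5,3,5,1],275,0,[636,486,485]),
  ([7,0,6,1,8,10,3,2,4,5,9],[5,3,7,0],277,0,[305,491,368]),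
  ([2,10,4,0,8,1,6,9,3,5,7],[4,0,9,3],278,1,[560,421,297]),
  ([10,0,7,3,2,8,9,6,1,4,5],[3,4,8,0],279,0,[3,296,436]),
  ([6,0,9,10,8,5,2,4,3,1,7],[1,9,10,3],281,1,[249,375,524]),
  ([8,0,4,7,6,5,2,9,1,3,10],[2,5,6,10],281,2,[521,276,281]),
  ([8,9,5,1,0,6,7,4,10,2,3],[2,7,3,0],283,0,[279,75,327]),
  ([3,9,4,0,2,6,5,7,8,1,10],[4,7,7,7],285,0,[17,593,610]),
  ([6,2,1,7,8,5,0,3,4,9,10],[5,6,3,6],289,0,[637,370,598]),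
  ([7,2,9,0,4,3,5,6,10,8,1],[1,5,7,3],291,1,[409,92,369]),
  ([10,2,4,0,9,1,5,8,7,6,3],[3,6,5,3],291,2,[451,292,291]),
  ([3,10,1,5,4,6,7,0,9,2,8],[3,6,4,1],293,2,[416,567,293]),
  ([2,0,6,5,10,8,9,7,4,1,3],[2,0,10,6],296,2,[638,436,296]),
  ([8,10,9,7,2,1,6,4,5,3,0],[5,3,1,3],299,0,[107,555,628]),
  ([0,7,9,2,1,3,4,8,6,10,5],[2,3,4,1],300,1,[622,625,615]),
  ([8,7,2,3,0,6,9,10,4,5,1],[1,10,3,9],301,1,[567,184,335]),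
  ([6,10,2,1,0,8,4,7,9,5,3],[5,4,6,5],301,2,[399,619,301]),
  ([6,10,8,1,7,2,9,0,4,3,5],[1,1,7,8],302,0,[571,404,403]),
  ([4,5,10,0,7,3,2,8,9,6,1],[3,9,8,6],302,1,[205,545,544]),
  ([9,6,2,5,7,3,1,4,8,0,10],[4,10,6,7],303,1,[537,549,611]),
  ([4,8,2,5,10,1,3,9,6,0,7],[1,3,9,6],303,2,[94,616,303]),
  ([5,8,2,4,6,1,9,3,10,7,0],[5,0,2,9],308,1,[630,334,333]),
  ([7,9,5,3,6,10,2,1,0,8,4],[5,6,6,3],312,0,[336,473,639]),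
  ([7,2,1,6,4,5,3,0,8,10,9],[5,7,1,6],312,1,[129,377,376]),
  ([1,0,2,3,7,5,9,4,10,6,8],[2,4,7,9],314,1,[585,551,556]),
  ([5,0,7,9,2,1,3,4,8,6,10],[2,1,4,8],315,1,[640,554,533]),
  ([5,2,8,0,1,6,7,3,10,9,4],[4,6,8,4],316,1,[609,624,487]),
  ([1,7,10,0,5,6,2,9,8,3,4],[4,2,3,10],317,1,[603,641,642]),
  ([8,5,0,3,4,9,10,6,2,1,7],[5,4,3,7],318,0,[165,595,594]),
  ([10,7,1,8,5,9,3,6,0,2,4],[1,9,2,8],320,0,[366,626,387]),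
  ([5,10,0,7,3,2,8,9,6,1,4],[3,1,8,3],320,2,[353,307,320]),
  ([4,1,7,10,0,5,6,2,9,8,3],[4,9,3,7],321,1,[514,614,638]),
  ([9,3,10,7,0,5,8,2,4,6,1],[5,8,2,10],321,2,[589,206,321]),
  ([9,1,5,8,7,6,3,10,2,4,0],[3,7,5,1],323,1,[217,475,474]),
  ([10,3,9,4,0,2,6,5,7,8,1],[4,3,7,0],325,1,[9,494,527]),
  ([7,1,4,9,0,2,8,5,10,6,3],[3,0,9,4],325,2,[600,204,325]),
  ([10,0,5,6,2,9,8,3,4,1,7],[4,10,3,5],326,0,[577,493,492]),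
  ([5,6,3,9,1,2,7,8,4,0,10],[1,9,8,7],326,2,[643,582,326]),
  ([3,6,10,2,1,0,8,4,7,9,5],[5,10,6,10],327,0,[275,574,573]),
  ([6,4,5,3,0,8,10,9,7,2,1],[5,0,1,9],327,1,[535,523,522]),
  ([6,5,10,8,9,7,4,1,3,2,0],[2,4,10,4],328,0,[644,645,563]),
  ([6,3,7,1,4,9,0,2,8,5,10],[3,5,9,8],329,0,[645,338,348]),
  ([5,0,3,4,9,10,6,2,1,7,8],[5,9,3,10],330,0,[238,646,647]),
  ([9,1,3,10,8,0,4,7,6,5,2],[2,8,6,8],332,0,[498,271,469]),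
  ([3,8,9,5,1,0,6,7,4,10,2],[2,5,3,8],335,0,[438,456,455]),
  ([9,0,7,5,8,1,4,3,2,10,6],[5,10,5,8],336,0,[264,160,513]),
  ([10,5,8,9,3,4,0,7,6,1,2],[2,7,8,1],338,1,[648,430,636]),
  ([7,5,6,4,1,9,0,10,8,3,2],[5,2,10,2],338,2,[406,348,338]),
  ([8,3,6,7,1,2,9,5,4,10,0],[3,6,3,10],339,0,[437,576,568]),
  ([10,7,3,6,8,4,2,5,9,1,0],[1,5,5,4],341,1,[649,501,643]),
  ([7,10,1,8,6,9,2,5,4,3,0],[1,3,6,8],341,2,[332,342,341]),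
  ([0,9,4,3,8,6,7,5,2,10,1],[4,10,10,6],342,0,[650,651,569])]

/-- Certificate data. -/
def pairL0_9 : List (List ℕ × List ℕ × ℕ × ℕ × List ℕ) := [([8,2,9,6,10,4,7,1,3,5,0],[3,9,2,10],342,1,[520,628,555]),
  ([8,5,1,4,6,2,0,3,7,10,9],[2,8,5,4],343,0,[507,543,478]),
  ([0,10,1,2,6,4,8,3,9,5,7],[5,5,4,2],344,0,[512,356,588]),
  ([2,4,3,1,7,6,0,9,10,8,5],[1,4,10,8],346,0,[185,415,471]),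
  ([3,9,6,0,7,4,8,2,5,10,1],[1,9,9,5],346,1,[460,153,506]),
  ([1,4,8,0,10,9,6,2,5,7,3],[4,1,6,10],346,2,[327,347,346]),
  ([0,5,8,2,4,6,1,9,3,10,7],[5,6,2,7],348,0,[635,386,652]),
  ([8,1,10,3,9,4,0,2,6,5,7],[4,6,7,8],348,1,[98,575,601]),
  ([7,2,10,4,0,8,1,6,9,3,5],[4,7,9,5],349,1,[414,301,619]),
  ([5,7,6,4,10,9,3,1,2,0,8],[2,5,1,3],351,0,[349,460,459]),
  ([7,1,2,9,5,4,10,0,8,3,6],[3,4,3,8],353,0,[553,618,605]),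
  ([3,0,6,9,10,4,5,1,8,7,2],[1,2,3,7],354,0,[519,533,554]),
  ([8,6,9,2,5,4,3,0,7,10,1],[1,6,6,4],354,2,[459,355,354]),
  ([8,2,3,10,6,5,0,1,9,4,7],[5,10,8,3],358,2,[241,359,358]),
  ([4,0,10,5,6,3,9,1,2,7,8],[1,6,8,5],360,0,[289,556,551]),
  ([2,8,5,10,6,3,7,1,4,9,0],[3,4,9,5],361,0,[544,180,540]),
  ([1,0,8,4,7,9,5,3,6,10,2],[5,8,6,1],363,0,[40,290,512]),
  ([0,8,10,9,7,2,1,6,4,5,3],[5,9,1,2],363,1,[67,408,562]),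
  ([0,6,7,4,10,2,3,8,9,5,1],[2,4,3,1],363,2,[228,364,363]),
  ([2,1,10,5,4,9,7,8,6,3,0],[3,2,10,7],365,0,[479,259,570]),
  ([3,0,5,1,9,2,7,10,4,6,8],[2,3,9,3],365,1,[57,647,646]),
  ([1,9,3,10,7,0,5,8,2,4,6],[5,3,2,8],366,0,[490,127,470]),
  ([0,2,6,5,7,8,1,10,3,9,4],[4,8,7,6],366,1,[22,558,557]),
  ([10,9,6,2,5,7,3,1,4,8,0],[4,6,6,1],367,0,[363,385,528]),
  ([8,1,0,2,3,7,5,9,4,10,6],[2,2,7,2],368,0,[485,390,410]),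
  ([8,9,6,1,4,5,10,0,7,3,2],[3,8,8,7],369,0,[100,653,654]),
  ([7,10,4,6,8,3,0,5,1,9,2],[2,4,9,2],370,2,[132,598,370]),
  ([9,8,3,4,1,7,10,0,5,6,2],[4,8,3,9],371,2,[466,345,371]),
  ([2,4,10,7,1,8,5,9,3,6,0],[1,7,2,4],372,0,[149,640,536]),
  ([0,5,3,4,2,10,7,9,8,6,1],[4,9,1,8],374,0,[617,250,539]),
  ([8,1,6,9,3,5,7,2,10,4,0],[4,5,9,6],374,1,[306,629,559]),
  ([7,0,9,2,8,3,10,1,5,4,6],[3,2,4,3],375,2,[547,524,375]),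
  ([0,7,4,8,2,5,10,1,3,9,6],[1,1,9,10],377,0,[29,542,590]),
  ([4,10,6,8,1,0,2,3,7,5,9],[2,7,7,3],380,0,[513,362,526]),
  ([9,7,8,6,3,0,2,1,10,5,4],[3,6,10,2],382,2,[655,383,382]),
  ([2,3,8,9,5,1,0,6,7,4,10],[2,3,3,5],384,0,[323,636,430]),
  ([2,9,7,10,3,6,5,4,1,8,0],[4,8,5,2],385,2,[641,528,385]),
  ([0,1,6,7,3,10,9,4,5,2,8],[4,7,8,6],386,1,[384,405,400]),
  ([0,3,8,10,1,7,4,9,5,2,6],[5,1,9,2],386,2,[607,652,386]),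
  ([7,10,3,6,5,4,1,8,0,2,9],[4,5,5,1],387,1,[493,655,464]),
  ([1,4,6,2,0,3,7,10,9,8,5],[2,1,5,3],388,1,[653,638,614]),
  ([3,4,1,7,10,0,5,6,2,9,8],[4,5,3,4],390,0,[388,531,627]),
  ([4,7,9,5,3,6,10,2,1,0,8],[5,1,6,8],391,0,[210,650,656]),
  ([1,9,2,7,10,4,6,8,3,0,5],[2,9,9,8],393,1,[189,237,606]),
  ([3,4,2,10,7,9,8,6,1,0,5],[4,6,1,10],393,2,[610,270,393]),
  ([2,1,3,4,8,6,10,5,0,7,9],[2,9,4,2],397,1,[74,609,587]),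
  ([2,3,1,9,6,8,7,5,0,10,4],[3,7,1,10],397,2,[584,630,397]),
  ([8,1,4,3,2,10,6,9,0,7,5],[5,8,5,6],399,0,[456,586,585]),
  ([0,6,1,8,10,3,2,4,5,9,7],[5,8,7,7],401,0,[425,590,542]),
  ([10,4,0,8,1,6,9,3,5,7,2],[4,4,9,1],402,1,[651,564,418]),
  ([0,7,3,2,8,9,6,1,4,5,10],[3,7,8,8],403,0,[6,417,572]),
  ([0,9,10,8,5,2,4,3,1,7,6],[1,10,10,2],405,1,[139,546,608]),
  ([0,4,7,6,5,2,9,1,3,10,8],[2,7,6,5],405,2,[606,400,405]),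
  ([9,5,1,0,6,7,4,10,2,3,8],[2,9,3,3],407,0,[403,115,442]),
  ([2,9,0,4,3,5,6,10,8,1,7],[1,6,7,10],414,1,[499,181,516]),
  ([2,4,0,9,1,5,8,7,6,3,10],[3,9,5,8],414,2,[463,313,414]),
  ([10,1,5,4,6,7,0,9,2,8,3],[3,9,4,5],415,2,[562,471,415]),
  ([0,6,5,10,8,9,7,4,1,3,2],[2,2,10,5],417,2,[642,572,417]),
  ([10,8,1,7,2,9,0,4,3,5,6],[1,2,7,4],422,0,[652,553,496]),
  ([6,2,5,7,3,1,4,8,0,10,9],[4,3,6,2],423,1,[263,464,655])]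

/-- Certificate data. -/
def pairL0_10 : List (List ℕ × List ℕ × ℕ × ℕ × List ℕ) := [([8,2,5,10,1,3,9,6,0,7,4],[1,4,9,4],423,2,[183,623,423]),
  ([2,1,6,4,5,3,0,8,10,9,7],[5,1,1,7],430,1,[208,529,547]),
  ([0,2,3,7,5,9,4,10,6,8,1],[2,6,7,5],432,1,[77,648,649]),
  ([2,8,0,1,6,7,3,10,9,4,5],[4,10,8,1],433,1,[172,633,449]),
  ([7,10,0,5,6,2,9,8,3,4,1],[4,6,3,2],434,1,[452,621,644]),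
  ([7,1,8,5,9,3,6,0,2,4,10],[1,10,2,10],436,0,[540,634,550]),
  ([1,5,8,7,6,3,10,2,4,0,9],[3,10,5,6],438,1,[359,584,583]),
  ([1,4,9,0,2,8,5,10,6,3,7],[3,3,9,2],440,2,[654,352,440]),
  ([0,5,6,2,9,8,3,4,1,7,10],[4,3,3,8],441,0,[175,592,591]),
  ([6,3,9,1,2,7,8,4,0,10,5],[1,10,8,4],441,2,[318,510,441]),
  ([4,5,3,0,8,10,9,7,2,1,6],[5,5,1,10],442,1,[253,607,495]),
  ([5,10,8,9,7,4,1,3,2,0,6],[2,6,10,3],443,0,[492,508,507]),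
  ([3,7,1,4,9,0,2,8,5,10,6],[3,8,9,6],444,0,[508,122,458]),
  ([0,3,4,9,10,6,2,1,7,8,5],[5,3,3,2],445,0,[379,657,658]),
  ([1,3,10,8,0,4,7,6,5,2,9],[2,10,6,3],447,0,[595,396,580]),
  ([0,7,5,8,1,4,3,2,10,6,9],[5,4,5,2],448,0,[392,233,502]),
  ([1,2,6,4,8,3,9,5,7,0,10],[5,4,4,10],450,0,[629,254,622]),
  ([1,6,4,5,3,0,8,10,9,7,2],[5,6,1,8],455,1,[355,612,620]),
  ([10,3,6,5,4,1,8,0,2,9,7],[4,9,5,6],456,0,[592,659,484]),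
  ([7,8,6,3,0,2,1,10,5,4,9],[3,9,10,1],457,0,[659,481,548]),
  ([1,10,3,9,4,0,2,6,5,7,8],[4,10,7,4],458,1,[186,532,617]),
  ([10,8,0,4,7,6,5,2,9,1,3],[2,3,6,4],459,0,[657,449,633]),
  ([1,8,10,3,2,4,5,9,7,0,6],[5,7,7,10],460,1,[594,303,616]),
  ([2,6,4,8,3,9,5,7,0,10,1],[5,9,4,3],462,0,[656,387,626]),
  ([4,6,2,0,3,7,10,9,8,5,1],[2,3,5,8],463,0,[159,642,641]),
  ([0,10,5,6,3,9,1,2,7,8,4],[1,7,8,2],466,0,[412,649,648]),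
  ([8,10,3,2,4,5,9,7,0,6,1],[5,1,7,6],467,0,[647,423,623]),
  ([4,3,1,7,6,0,9,10,8,5,2],[1,5,10,7],469,1,[125,561,581]),
  ([2,6,5,7,8,1,10,3,9,4,0],[4,1,7,2],470,0,[42,643,501]),
  ([2,3,7,5,9,4,10,6,8,1,0],[2,8,7,1],472,2,[117,454,472]),
  ([6,9,3,5,7,2,10,4,0,8,1],[4,2,9,2],473,2,[566,639,473]),
  ([10,1,2,6,4,8,3,9,5,7,0],[5,10,4,6],477,0,[602,536,640]),
  ([6,4,8,3,9,5,7,0,10,1,2],[5,3,4,7],482,0,[639,550,634]),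
  ([6,2,0,3,7,10,9,8,5,1,4],[2,5,5,2],483,0,[232,644,621]),
  ([10,3,2,4,5,9,7,0,6,1,8],[5,6,7,2],485,0,[658,565,632]),
  ([1,6,9,3,5,7,2,10,4,0,8],[4,9,9,4],486,1,[426,656,650]),
  ([6,9,2,5,4,3,0,7,10,1,8],[1,7,6,10],488,0,[579,535,534]),
  ([7,3,2,8,9,6,1,4,5,10,0],[3,10,8,5],496,0,[14,563,645]),
  ([3,1,7,6,0,9,10,8,5,2,4],[1,6,10,6],500,0,[135,520,519]),
  ([7,5,9,4,10,6,8,1,0,2,3],[2,1,7,4],510,2,[350,441,510]),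
  ([6,1,8,10,3,2,4,5,9,7,0],[5,2,7,3],513,0,[497,637,631]),
  ([3,10,8,0,4,7,6,5,2,9,1],[2,1,6,9],515,1,[646,487,624]),
  ([1,7,6,0,9,10,8,5,2,4,3],[1,7,10,5],515,2,[211,161,515]),
  ([6,7,4,10,2,3,8,9,5,1,0],[2,6,3,4],525,0,[369,538,537]),
  ([7,6,0,9,10,8,5,2,4,3,1],[1,8,10,4],528,0,[273,234,604]),
  ([7,4,8,2,5,10,1,3,9,6,0],[1,2,9,8],528,1,[49,631,637]),
  ([4,0,9,1,5,8,7,6,3,10,2],[3,1,5,2],530,1,[483,431,560]),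
  ([9,0,4,3,5,6,10,8,1,7,2],[1,7,7,6],530,2,[596,266,530]),
  ([0,6,9,10,4,5,1,8,7,2,3],[1,3,3,10],534,0,[515,615,625]),
  ([0,8,4,7,9,5,3,6,10,2,1],[5,2,6,7],537,0,[85,413,602]),
  ([1,10,5,4,9,7,8,6,3,0,2],[3,5,10,6],539,0,[500,272,635]),
  ([0,5,1,9,2,7,10,4,6,8,3],[2,5,9,1],539,1,[62,658,657]),
  ([0,9,2,8,3,10,1,5,4,6,7],[3,5,4,7],546,2,[620,608,546]),
  ([2,5,7,3,1,4,8,0,10,9,6],[4,7,6,8],565,1,[391,484,659]),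
  ([2,5,10,1,3,9,6,0,7,4,8],[1,5,9,2],565,2,[268,632,565]),
  ([10,8,9,7,4,1,3,2,0,6,5],[2,8,10,2],574,0,[591,600,599]),
  ([3,7,5,9,4,10,6,8,1,0,2],[2,10,7,8],582,2,[202,326,582]),
  ([0,9,1,5,8,7,6,3,10,2,4],[3,4,5,7],613,1,[142,569,651]),
  ([0,4,3,5,6,10,8,1,7,2,9],[1,8,7,2],613,2,[470,394,613]),
  ([8,9,7,4,1,3,2,0,6,5,10],[2,10,10,1],618,1,[308,654,653])]

/-- Certificate data. -/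
def pairL0 : List (List (List ℕ × List ℕ × ℕ × ℕ × List ℕ)) := [pairL0_0,pairL0_1,pairL0_2,pairL0_3,pairL0_4,pairL0_5,pairL0_6,pairL0_7,pairL0_8,pairL0_9,pairL0_10]

/-- Certificate data. -/
def kmL1 : List (List ℕ) := [[0,1,2,3,4,5,6,7,8,9,10],
  [0,3,6,9,1,4,7,10,2,5,8],
  [0,4,8,1,5,9,2,6,10,3,7],
  [0,5,10,4,9,3,8,2,7,1,6],
  [0,9,7,5,3,1,10,8,6,4,2],
  [0,1,6,9,5,3,10,2,8,4,7],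
  [0,3,7,5,4,9,8,6,2,1,10],
  [0,4,2,3,9,1,7,8,10,5,6],
  [0,5,8,1,3,4,6,10,7,9,2],
  [0,9,10,4,1,5,2,7,6,3,8],
  [0,1,7,5,9,4,2,10,8,3,6],
  [0,3,10,4,5,1,6,8,2,9,7],
  [0,4,6,9,3,5,8,7,10,1,2],
  [0,5,2,3,1,9,10,6,7,4,8],
  [0,9,8,1,4,3,7,2,6,5,10],
  [0,1,10,4,3,9,7,6,8,5,2],
  [0,3,8,1,9,5,10,7,2,4,6],
  [0,4,7,5,1,3,6,2,10,9,8],
  [0,5,6,9,4,1,2,8,7,3,10],
  [0,9,2,3,5,4,8,10,6,1,7]]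

/-- Certificate data. -/
def klL1 : List (List ℕ) := [[0,1,2,3,4,5,6,7,8,9,10],
  [0,3,6,9,1,4,7,10,2,5,8],
  [0,4,8,1,5,9,2,6,10,3,7],
  [0,5,10,4,9,3,8,2,7,1,6],
  [0,9,7,5,3,1,10,8,6,4,2],
  [0,1,10,4,3,9,7,6,8,5,2],
  [0,3,8,1,9,5,10,7,2,4,6],
  [0,4,7,5,1,3,6,2,10,9,8],
  [0,5,6,9,4,1,2,8,7,3,10],
  [0,9,2,3,5,4,8,10,6,1,7]]

/-- Certificate data. -/
def gM1 : List ℕ := [0,1,6,9,5,3,10,2,8,4,7]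

/-- Certificate data. -/
def gL1 : List ℕ := [0,1,10,4,3,9,7,6,8,5,2]

/-- Certificate data. -/
def xM1 : List ℕ × ℕ := ([3,1,2,0],8)

/-- Certificate data. -/
def xL1 : List ℕ × ℕ := ([2,3,0],4)

/-- Certificate data. -/
def transM1 : List (ℕ × ℕ × List ℕ) := [(0,0,[]),
  (0,1,[0]),
  (0,2,[0,0]),
  (0,3,[1,0]),
  (0,4,[0,1,0]),
  (0,5,[0,0,1,0]),
  (0,6,[1,0,0]),
  (0,7,[0,1,0,0]),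
  (0,8,[0,0,1,0,0]),
  (0,9,[1,1,0]),
  (0,10,[2,1,0,0]),
  (1,1,[]),
  (1,2,[2,0,0,2,0,0,0]),
  (1,3,[1]),
  (1,4,[2,1,1]),
  (1,5,[1,1,1]),
  (1,6,[0,2,1,0,0,1]),
  (1,7,[0,0,2,0,0,0]),
  (1,8,[0,2,1,0,2,0]),
  (1,9,[1,1]),
  (1,10,[0,2,2,0,0,1]),
  (2,2,[]),
  (2,3,[1,1,0,2,2,0,0]),
  (2,4,[0,2,0,1,1,1,0]),
  (2,5,[2,0,2,0,1,1,1,0]),
  (2,6,[2]),
  (2,7,[2,2,2]),
  (2,8,[0,0,2,2,2,0,1,0]),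
  (2,9,[0,0,2,1,0,2]),
  (2,10,[2,2]),
  (3,3,[]),
  (3,4,[1,0,2,0,1,2,0,0,0]),
  (3,5,[2,2,2,0,0,2,1,0]),
  (3,6,[0,2,1,0,0,2,1,2]),
  (3,7,[0,0,2,1,0,2,2]),
  (3,8,[0,2,2,0,0,2,1]),
  (3,9,[0,0,2,2,1,2,0,0,2,0]),
  (3,10,[1,2,0,0,1,2,2,0,1,0])]

/-- Certificate data. -/
def matsL1 : List (List ℕ) := [[1,1,0,1],
  [5,0,0,9],
  [0,1,10,0]]

/-- Certificate data. -/
def pairL1_0 : List (List ℕ × List ℕ × ℕ × ℕ × List ℕ) := [([0,1,2,3,4,5,6,7,8,9,10],[1,0,0,1],0,3,[1,2,3]),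
  ([1,2,3,4,5,6,7,8,9,10,0],[1,1,0,1],0,0,[4,5,6]),
  ([0,3,6,9,1,4,7,10,2,5,8],[5,0,0,9],0,1,[7,8,9]),
  ([0,1,10,4,3,9,7,6,8,5,2],[0,1,10,0],0,2,[10,11,0]),
  ([2,3,4,5,6,7,8,9,10,0,1],[1,2,0,1],1,0,[12,13,14]),
  ([3,6,9,1,4,7,10,2,5,8,0],[5,5,0,9],1,1,[15,16,17]),
  ([1,10,4,3,9,7,6,8,5,2,0],[0,1,10,10],1,2,[18,19,1]),
  ([1,4,7,10,2,5,8,0,3,6,9],[5,9,0,9],2,0,[20,21,22]),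
  ([0,9,7,5,3,1,10,8,6,4,2],[3,0,0,4],2,1,[23,24,25]),
  ([0,4,7,5,1,3,6,2,10,9,8],[0,2,5,0],2,2,[26,3,2]),
  ([1,2,0,5,4,10,8,7,9,6,3],[1,10,1,0],3,0,[27,28,29]),
  ([0,3,8,1,9,5,10,7,2,4,6],[0,5,2,0],3,1,[30,31,32]),
  ([3,4,5,6,7,8,9,10,0,1,2],[1,3,0,1],4,0,[33,34,35]),
  ([6,9,1,4,7,10,2,5,8,0,3],[5,10,0,9],4,1,[36,37,38]),
  ([10,4,3,9,7,6,8,5,2,0,1],[0,1,10,9],4,2,[39,40,4]),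
  ([4,7,10,2,5,8,0,3,6,9,1],[5,3,0,9],5,0,[41,23,42]),
  ([9,7,5,3,1,10,8,6,4,2,0],[3,3,0,4],5,1,[43,44,45]),
  ([4,7,5,1,3,6,2,10,9,8,0],[0,2,5,5],5,2,[46,6,5]),
  ([2,0,5,4,10,8,7,9,6,3,1],[1,0,1,1],6,0,[47,48,49]),
  ([3,8,1,9,5,10,7,2,4,6,0],[0,5,2,2],6,1,[50,51,52]),
  ([2,5,8,0,3,6,9,1,4,7,10],[5,7,0,9],7,0,[5,53,54]),
  ([3,1,10,8,6,4,2,0,9,7,5],[3,1,0,4],7,1,[55,56,57]),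
  ([1,3,6,2,10,9,8,0,4,7,5],[0,2,5,9],7,2,[58,59,7]),
  ([1,10,8,6,4,2,0,9,7,5,3],[3,4,0,4],8,0,[60,61,62]),
  ([0,5,10,4,9,3,8,2,7,1,6],[4,0,0,3],8,1,[63,32,31]),
  ([0,5,6,9,4,1,2,8,7,3,10],[0,4,8,0],8,2,[64,9,8]),
  ([1,5,8,6,2,4,7,3,0,10,9],[5,2,5,0],9,0,[65,66,67]),
  ([2,3,1,6,5,0,9,8,10,7,4],[2,10,1,0],10,0,[66,68,69]),
  ([3,6,0,4,1,8,2,10,5,7,9],[5,6,9,0],10,1,[70,71,72]),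
  ([1,10,0,9,3,2,8,6,5,7,4],[1,0,10,1],10,2,[73,74,10]),
  ([1,4,9,2,10,6,0,8,3,5,7],[2,5,2,0],11,0,[75,76,77]),
  ([0,9,2,3,5,4,8,10,6,1,7],[0,3,7,0],11,1,[78,25,24]),
  ([0,4,8,1,5,9,2,6,10,3,7],[2,0,0,6],11,2,[79,0,11]),
  ([4,5,6,7,8,9,10,0,1,2,3],[1,4,0,1],12,0,[80,7,59]),
  ([9,1,4,7,10,2,5,8,0,3,6],[5,4,0,9],12,1,[81,82,83]),
  ([4,3,9,7,6,8,5,2,0,1,10],[0,1,10,8],12,2,[84,85,12]),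
  ([7,10,2,5,8,0,3,6,9,1,4],[5,8,0,9],13,0,[86,43,87]),
  ([7,5,3,1,10,8,6,4,2,0,9],[3,6,0,4],13,1,[88,89,90]),
  ([7,5,1,3,6,2,10,9,8,0,4],[0,2,5,10],13,2,[91,14,13]),
  ([0,5,4,10,8,7,9,6,3,1,2],[1,1,1,2],14,0,[92,93,94]),
  ([8,1,9,5,10,7,2,4,6,0,3],[0,5,2,4],14,1,[95,96,97]),
  ([5,8,0,3,6,9,1,4,7,10,2],[5,1,0,9],15,0,[13,55,98]),
  ([3,6,2,10,9,8,0,4,7,5,1],[0,2,5,3],15,2,[99,100,15]),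
  ([10,8,6,4,2,0,9,7,5,3,1],[3,7,0,4],16,0,[8,101,102]),
  ([5,10,4,9,3,8,2,7,1,6,0],[4,4,0,3],16,1,[103,52,51]),
  ([5,6,9,4,1,2,8,7,3,10,0],[0,4,8,8],16,2,[104,17,16]),
  ([5,8,6,2,4,7,3,0,10,9,1],[5,7,5,5],17,0,[105,106,107]),
  ([3,1,6,5,0,9,8,10,7,4,2],[2,1,1,1],18,0,[106,108,109]),
  ([6,0,4,1,8,2,10,5,7,9,3],[5,0,9,9],18,1,[110,111,112]),
  ([10,0,9,3,2,8,6,5,7,4,1],[1,1,10,0],18,2,[3,113,18]),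
  ([4,9,2,10,6,0,8,3,5,7,1],[2,7,2,2],19,0,[114,115,116]),
  ([9,2,3,5,4,8,10,6,1,7,0],[0,3,7,7],19,1,[117,45,44]),
  ([4,8,1,5,9,2,6,10,3,7,0],[2,2,0,6],19,2,[118,1,19]),
  ([6,4,2,0,9,7,5,3,1,10,8],[3,2,0,4],20,1,[37,119,120]),
  ([10,9,8,0,4,7,5,1,3,6,2],[0,2,5,7],20,2,[121,122,20]),
  ([4,2,0,9,7,5,3,1,10,8,6],[3,5,0,4],21,0,[82,63,123]),
  ([9,3,8,2,7,1,6,0,5,10,4],[4,5,0,3],21,1,[89,118,124]),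
  ([4,1,2,8,7,3,10,0,5,6,9],[0,4,8,10],21,2,[125,22,21]),
  ([2,4,7,3,0,10,9,1,5,8,6],[5,0,5,9],22,0,[126,127,128]),
  ([3,9,7,6,8,5,2,0,1,10,4],[0,1,10,7],22,1,[129,130,33])]

/-- Certificate data. -/
def pairL1_1 : List (List ℕ × List ℕ × ℕ × ℕ × List ℕ) := [([2,0,9,7,5,3,1,10,8,6,4],[3,8,0,4],23,0,[21,103,131]),
  ([3,8,2,7,1,6,0,5,10,4,9],[4,9,0,3],23,1,[132,133,134]),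
  ([1,2,8,7,3,10,0,5,6,9,4],[0,4,8,7],23,2,[135,42,23]),
  ([1,6,0,5,10,4,9,3,8,2,7],[4,3,0,3],24,0,[136,137,138]),
  ([1,6,7,10,5,2,3,9,8,4,0],[3,7,3,0],25,0,[139,140,141]),
  ([2,6,9,7,3,5,8,4,1,0,10],[1,9,6,0],26,0,[140,142,143]),
  ([3,4,2,7,6,1,10,9,0,8,5],[3,10,1,0],26,1,[144,145,146]),
  ([1,9,8,7,10,3,6,4,0,2,5],[5,0,6,9],26,2,[147,148,26]),
  ([6,9,3,7,4,0,5,2,8,10,1],[1,5,2,0],27,1,[149,150,151]),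
  ([10,4,1,7,9,0,5,8,2,6,3],[1,0,9,1],27,2,[152,153,27]),
  ([4,7,1,5,2,9,3,0,6,8,10],[3,6,9,0],28,0,[154,78,155]),
  ([9,7,0,1,3,2,6,8,4,10,5],[3,8,4,0],28,1,[156,157,158]),
  ([4,7,0,3,1,8,10,2,9,6,5],[2,0,5,6],28,2,[159,29,28]),
  ([2,0,1,10,4,3,9,7,6,8,5],[0,1,10,1],29,0,[160,161,162]),
  ([3,8,0,5,9,6,2,7,4,10,1],[5,0,2,9],29,1,[163,164,165]),
  ([2,5,10,3,0,7,1,9,4,6,8],[4,5,2,0],30,0,[28,166,167]),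
  ([3,1,5,6,8,7,0,2,9,4,10],[1,8,4,0],30,1,[168,169,170]),
  ([1,3,5,10,2,7,0,8,4,9,6],[2,0,9,6],30,2,[171,172,30]),
  ([1,10,3,4,6,5,9,0,7,2,8],[4,8,4,0],31,0,[173,174,175]),
  ([1,5,9,2,6,10,3,7,0,4,8],[2,6,0,6],32,0,[176,12,85]),
  ([5,6,7,8,9,10,0,1,2,3,4],[1,5,0,1],33,0,[177,15,100]),
  ([10,2,5,8,0,3,6,9,1,4,7],[5,2,0,9],34,0,[2,88,147]),
  ([5,3,1,10,8,6,4,2,0,9,7],[3,9,0,4],34,1,[53,132,178]),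
  ([5,1,3,6,2,10,9,8,0,4,7],[0,2,5,4],34,2,[179,35,34]),
  ([5,4,10,8,7,9,6,3,1,2,0],[1,2,1,3],35,0,[180,181,182]),
  ([1,9,5,10,7,2,4,6,0,3,8],[0,5,2,6],35,1,[183,184,79]),
  ([8,0,3,6,9,1,4,7,10,2,5],[5,6,0,9],36,0,[34,60,185]),
  ([6,2,10,9,8,0,4,7,5,1,3],[0,2,5,8],36,2,[186,187,36]),
  ([8,6,4,2,0,9,7,5,3,1,10],[3,10,0,4],37,0,[16,136,188]),
  ([10,4,9,3,8,2,7,1,6,0,5],[4,8,0,3],37,1,[24,97,96]),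
  ([6,9,4,1,2,8,7,3,10,0,5],[0,4,8,5],37,2,[189,38,37]),
  ([8,6,2,4,7,3,0,10,9,1,5],[5,1,5,10],38,0,[190,191,192]),
  ([1,6,5,0,9,8,10,7,4,2,3],[2,3,1,2],39,0,[191,193,194]),
  ([0,4,1,8,2,10,5,7,9,3,6],[5,5,9,7],39,1,[195,196,197]),
  ([0,9,3,2,8,6,5,7,4,1,10],[1,2,10,10],39,2,[6,198,39]),
  ([9,2,10,6,0,8,3,5,7,1,4],[2,9,2,4],40,0,[199,200,201]),
  ([2,3,5,4,8,10,6,1,7,0,9],[0,3,7,3],40,1,[202,90,89]),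
  ([8,1,5,9,2,6,10,3,7,0,4],[2,4,0,6],40,2,[133,4,40]),
  ([9,8,0,4,7,5,1,3,6,2,10],[0,2,5,1],41,2,[203,204,41]),
  ([4,7,3,0,10,9,1,5,8,6,2],[5,5,5,3],42,0,[205,206,207]),
  ([9,7,6,8,5,2,0,1,10,4,3],[0,1,10,6],42,1,[208,209,80]),
  ([8,2,7,1,6,0,5,10,4,9,3],[4,2,0,3],43,1,[56,176,210]),
  ([2,8,7,3,10,0,5,6,9,4,1],[0,4,8,4],43,2,[211,87,43]),
  ([6,0,5,10,4,9,3,8,2,7,1],[4,7,0,3],44,0,[119,212,213]),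
  ([6,7,10,5,2,3,9,8,4,0,1],[3,10,3,3],45,0,[214,215,216]),
  ([6,9,7,3,5,8,4,1,0,10,2],[1,10,6,6],46,0,[215,217,218]),
  ([4,2,7,6,1,10,9,0,8,5,3],[3,2,1,1],46,1,[219,220,221]),
  ([9,8,7,10,3,6,4,0,2,5,1],[5,5,6,4],46,2,[54,222,46]),
  ([9,3,7,4,0,5,2,8,10,1,6],[1,6,2,2],47,1,[223,224,225]),
  ([4,1,7,9,0,5,8,2,6,3,10],[1,1,9,10],47,2,[226,227,47]),
  ([7,1,5,2,9,3,0,6,8,10,4],[3,9,9,9],48,0,[228,117,229]),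
  ([7,0,1,3,2,6,8,4,10,5,9],[3,0,4,4],48,1,[230,231,232]),
  ([7,0,3,1,8,10,2,9,6,5,4],[2,2,5,0],48,2,[233,49,48]),
  ([8,0,5,9,6,2,7,4,10,1,3],[5,5,2,0],49,1,[145,173,234]),
  ([5,10,3,0,7,1,9,4,6,8,2],[4,9,2,2],50,0,[48,235,236]),
  ([1,5,6,8,7,0,2,9,4,10,3],[1,9,4,4],50,1,[237,238,239]),
  ([3,5,10,2,7,0,8,4,9,6,1],[2,2,9,4],50,2,[240,241,50]),
  ([10,3,4,6,5,9,0,7,2,8,1],[4,1,4,4],51,0,[242,243,244]),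
  ([5,9,2,6,10,3,7,0,4,8,1],[2,8,0,6],52,0,[245,33,130]),
  ([7,1,6,0,5,10,4,9,3,8,2],[4,10,0,3],53,1,[101,246,247])]

/-- Certificate data. -/
def pairL1_2 : List (List ℕ × List ℕ × ℕ × ℕ × List ℕ) := [([7,3,10,0,5,6,9,4,1,2,8],[0,4,8,9],53,2,[248,54,53]),
  ([0,10,9,1,5,8,6,2,4,7,3],[5,9,5,7],54,0,[249,250,251]),
  ([8,5,2,0,1,10,4,3,9,7,6],[0,1,10,3],54,1,[252,171,253]),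
  ([3,10,0,5,6,9,4,1,2,8,7],[0,4,8,6],55,2,[254,98,55]),
  ([5,4,8,10,6,1,7,0,9,2,3],[0,3,7,6],56,2,[255,57,56]),
  ([5,2,3,9,8,4,0,1,6,7,10],[3,8,3,1],57,0,[256,257,258]),
  ([3,5,8,4,1,0,10,2,6,9,7],[1,2,6,2],58,0,[257,259,260]),
  ([6,1,10,9,0,8,5,3,4,2,7],[3,0,1,4],58,1,[261,262,263]),
  ([10,3,6,4,0,2,5,1,9,8,7],[5,9,6,0],58,2,[9,264,58]),
  ([4,10,8,7,9,6,3,1,2,0,5],[1,3,1,4],59,0,[265,266,267]),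
  ([9,5,10,7,2,4,6,0,3,8,1],[0,5,2,8],59,1,[268,124,118]),
  ([10,0,5,6,9,4,1,2,8,7,3],[0,4,8,3],60,2,[269,185,60]),
  ([4,9,3,8,2,7,1,6,0,5,10],[4,1,0,3],61,0,[44,79,184]),
  ([9,2,6,10,3,7,0,4,8,1,5],[2,10,0,6],61,1,[246,80,209]),
  ([4,8,10,6,1,7,0,9,2,3,5],[0,3,7,2],61,2,[270,62,61]),
  ([2,3,9,8,4,0,1,6,7,10,5],[3,0,3,4],62,0,[271,272,273]),
  ([2,7,1,6,0,5,10,4,9,3,8],[4,6,0,3],63,0,[61,245,274]),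
  ([3,7,0,4,8,1,5,9,2,6,10],[2,7,0,6],63,1,[52,275,240]),
  ([1,7,0,9,2,3,5,4,8,10,6],[0,3,7,8],63,2,[276,123,63]),
  ([2,7,8,0,6,3,4,10,9,5,1],[5,4,8,0],64,0,[174,277,278]),
  ([3,7,10,8,4,6,9,5,2,1,0],[4,2,5,0],64,1,[165,279,280]),
  ([1,7,6,2,9,10,4,5,8,3,0],[3,0,8,4],64,2,[102,281,64]),
  ([6,7,5,10,9,4,2,1,3,0,8],[5,1,10,0],65,1,[282,149,283]),
  ([10,7,5,6,4,9,8,3,1,0,2],[5,0,1,9],65,2,[284,285,65]),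
  ([4,5,3,8,7,2,0,10,1,9,6],[4,10,1,0],66,0,[286,30,172]),
  ([9,1,6,10,7,3,8,5,0,2,4],[4,6,9,0],66,1,[287,288,289]),
  ([4,3,10,6,7,1,2,5,0,8,9],[1,0,8,1],66,2,[290,67,66]),
  ([2,10,9,8,0,4,7,5,1,3,6],[0,2,5,2],67,0,[291,292,81]),
  ([3,5,2,10,8,9,7,1,0,6,4],[3,0,10,4],67,1,[293,294,295]),
  ([7,10,4,8,5,1,6,3,9,0,2],[3,5,2,0],68,0,[113,156,296]),
  ([7,5,9,10,1,0,4,6,2,8,3],[5,3,7,0],68,1,[297,273,272]),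
  ([7,5,4,6,3,0,9,10,8,2,1],[2,0,10,6],68,2,[298,69,68]),
  ([0,5,2,8,10,1,6,9,3,7,4],[1,10,2,10],69,0,[299,300,301]),
  ([8,1,3,10,5,0,4,2,6,7,9],[5,0,4,9],69,1,[236,135,233]),
  ([5,8,2,6,3,10,4,1,7,9,0],[1,6,9,0],70,0,[68,168,302]),
  ([3,6,1,9,10,5,4,0,7,8,2],[2,0,3,6],70,2,[303,190,70]),
  ([10,8,1,2,4,3,7,9,5,0,6],[4,3,7,0],71,0,[31,304,276]),
  ([5,10,0,3,9,6,7,2,1,8,4],[4,7,3,0],71,1,[232,165,164]),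
  ([5,6,0,1,4,10,7,8,3,2,9],[4,0,8,3],71,2,[305,72,71]),
  ([5,8,1,4,2,9,0,3,10,7,6],[4,5,6,5],72,0,[306,307,308]),
  ([3,1,2,0,5,4,10,8,7,9,6],[1,9,1,10],73,0,[307,309,310]),
  ([6,0,3,8,1,9,5,10,7,2,4],[0,5,2,9],73,1,[311,213,212]),
  ([10,0,1,2,3,4,5,6,7,8,9],[1,10,0,1],73,2,[0,86,73]),
  ([4,9,1,6,10,7,3,8,5,0,2],[4,2,9,2],74,0,[201,312,313]),
  ([9,2,0,4,5,7,6,10,1,8,3],[3,0,7,4],74,1,[314,158,157]),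
  ([4,8,0,9,5,7,10,6,3,2,1],[2,9,6,0],74,2,[315,10,74]),
  ([6,4,8,9,0,10,3,5,1,7,2],[2,8,4,0],75,1,[150,263,262]),
  ([10,9,2,4,0,6,1,5,3,7,8],[2,0,7,6],75,2,[316,317,75]),
  ([4,2,6,7,9,8,1,3,10,5,0],[5,8,4,0],76,0,[288,64,281]),
  ([9,3,4,7,2,10,0,6,5,1,8],[5,7,3,0],76,1,[273,315,318]),
  ([4,1,9,7,8,6,0,10,5,3,2],[4,0,10,3],76,2,[222,77,76]),
  ([2,4,6,0,3,8,1,9,5,10,7],[0,5,2,5],77,0,[319,247,246]),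
  ([3,9,4,8,6,10,0,2,1,5,7],[1,0,7,1],77,1,[320,321,144]),
  ([2,0,4,5,7,6,10,1,8,3,9],[3,3,7,0],78,0,[76,232,231]),
  ([3,8,9,1,7,4,5,0,10,6,2],[2,4,8,0],78,1,[295,322,323]),
  ([1,2,4,3,7,9,5,0,6,10,8],[4,0,7,3],78,2,[96,155,78]),
  ([2,6,10,3,7,0,4,8,1,5,9],[2,1,0,6],79,0,[137,177,324]),
  ([6,7,8,9,10,0,1,2,3,4,5],[1,6,0,1],80,0,[325,36,187]),
  ([9,4,1,2,8,7,3,10,0,5,6],[0,4,8,2],82,2,[326,83,82]),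
  ([6,2,4,7,3,0,10,9,1,5,8],[5,6,5,4],83,0,[327,328,329])]

/-- Certificate data. -/
def pairL1_3 : List (List ℕ × List ℕ × ℕ × ℕ × List ℕ) := [([6,5,0,9,8,10,7,4,2,3,1],[2,5,1,3],84,0,[328,330,331]),
  ([4,1,8,2,10,5,7,9,3,6,0],[5,10,9,5],84,1,[332,333,334]),
  ([9,3,2,8,6,5,7,4,1,10,0],[1,3,10,9],84,2,[14,335,84]),
  ([2,10,6,0,8,3,5,7,1,4,9],[2,0,2,6],85,0,[336,337,287]),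
  ([3,5,4,8,10,6,1,7,0,9,2],[0,3,7,10],85,1,[338,178,132]),
  ([8,0,4,7,5,1,3,6,2,10,9],[0,2,5,6],86,2,[339,73,86]),
  ([7,3,0,10,9,1,5,8,6,2,4],[5,10,5,8],87,0,[340,341,342]),
  ([7,6,8,5,2,0,1,10,4,3,9],[0,1,10,5],87,1,[343,324,177]),
  ([8,7,3,10,0,5,6,9,4,1,2],[0,4,8,1],88,2,[344,147,88]),
  ([7,10,5,2,3,9,8,4,0,1,6],[3,2,3,6],90,0,[345,346,347]),
  ([9,7,3,5,8,4,1,0,10,2,6],[1,0,6,1],91,0,[346,348,286]),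
  ([2,7,6,1,10,9,0,8,5,3,4],[3,5,1,2],91,1,[349,350,351]),
  ([8,7,10,3,6,4,0,2,5,1,9],[5,10,6,10],91,2,[98,352,91]),
  ([3,7,4,0,5,2,8,10,1,6,9],[1,7,2,4],92,1,[323,353,293]),
  ([1,7,9,0,5,8,2,6,3,10,4],[1,2,9,8],92,2,[354,355,92]),
  ([1,5,2,9,3,0,6,8,10,4,7],[3,1,9,7],93,0,[356,202,357]),
  ([0,1,3,2,6,8,4,10,5,9,7],[3,3,4,8],93,1,[175,358,359]),
  ([0,3,1,8,10,2,9,6,5,4,7],[2,4,5,5],93,2,[360,94,93]),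
  ([0,5,9,6,2,7,4,10,1,3,8],[5,10,2,2],94,1,[220,242,361]),
  ([10,3,0,7,1,9,4,6,8,2,5],[4,2,2,4],95,0,[93,362,363]),
  ([5,6,8,7,0,2,9,4,10,3,1],[1,10,4,8],95,1,[364,303,365]),
  ([5,10,2,7,0,8,4,9,6,1,3],[2,4,9,2],95,2,[161,366,95]),
  ([3,4,6,5,9,0,7,2,8,1,10],[4,5,4,8],96,0,[367,368,369]),
  ([10,9,1,5,8,6,2,4,7,3,0],[5,3,5,1],98,0,[370,371,372]),
  ([5,2,0,1,10,4,3,9,7,6,8],[0,1,10,2],98,1,[373,240,275]),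
  ([5,8,4,1,0,10,2,6,9,7,3],[1,3,6,8],99,0,[272,374,375]),
  ([1,10,9,0,8,5,3,4,2,7,6],[3,3,1,5],99,1,[376,377,378]),
  ([3,6,4,0,2,5,1,9,8,7,10],[5,3,6,6],99,2,[17,379,99]),
  ([10,8,7,9,6,3,1,2,0,5,4],[1,4,1,5],100,0,[380,381,382]),
  ([5,10,7,2,4,6,0,3,8,1,9],[0,5,2,10],100,1,[383,134,133]),
  ([8,10,6,1,7,0,9,2,3,5,4],[0,3,7,9],101,2,[384,102,101]),
  ([3,9,8,4,0,1,6,7,10,5,2],[3,3,3,7],102,0,[385,386,387]),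
  ([7,0,4,8,1,5,9,2,6,10,3],[2,9,0,6],103,1,[97,162,161]),
  ([7,0,9,2,3,5,4,8,10,6,1],[0,3,7,4],103,2,[388,131,103]),
  ([7,8,0,6,3,4,10,9,5,1,2],[5,9,8,8],104,0,[243,389,390]),
  ([7,10,8,4,6,9,5,2,1,0,3],[4,6,5,5],104,1,[234,391,392]),
  ([7,6,2,9,10,4,5,8,3,0,1],[3,3,8,1],104,2,[188,393,104]),
  ([7,5,10,9,4,2,1,3,0,8,6],[5,6,10,10],105,1,[394,223,306]),
  ([7,5,6,4,9,8,3,1,0,2,10],[5,5,1,10],105,2,[395,396,105]),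
  ([5,3,8,7,2,0,10,1,9,6,4],[4,3,1,1],106,0,[397,50,241]),
  ([1,6,10,7,3,8,5,0,2,4,9],[4,10,9,9],106,1,[398,399,400]),
  ([3,10,6,7,1,2,5,0,8,9,4],[1,1,8,9],106,2,[401,107,106]),
  ([5,2,10,8,9,7,1,0,6,4,3],[3,3,10,3],107,1,[402,403,404]),
  ([10,4,8,5,1,6,3,9,0,2,7],[3,8,2,2],108,0,[198,230,405]),
  ([5,9,10,1,0,4,6,2,8,3,7],[5,8,7,7],108,1,[406,387,386]),
  ([5,4,6,3,0,9,10,8,2,1,7],[2,2,10,5],108,2,[407,109,108]),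
  ([5,2,8,10,1,6,9,3,7,4,0],[1,0,2,1],109,0,[408,280,279]),
  ([1,3,10,5,0,4,2,6,7,9,8],[5,5,4,2],109,1,[363,211,360]),
  ([8,2,6,3,10,4,1,7,9,0,5],[1,7,9,9],110,0,[108,237,409]),
  ([6,1,9,10,5,4,0,7,8,2,3],[2,2,3,9],110,2,[410,327,110]),
  ([8,1,2,4,3,7,9,5,0,6,10],[4,7,7,7],111,0,[51,411,388]),
  ([10,0,3,9,6,7,2,1,8,4,5],[4,0,3,3],111,1,[359,234,173]),
  ([6,0,1,4,10,7,8,3,2,9,5],[4,4,8,0],111,2,[263,112,111]),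
  ([8,1,4,2,9,0,3,10,7,6,5],[4,9,6,0],112,0,[322,27,153]),
  ([8,0,9,5,7,10,6,3,2,1,4],[2,0,6,6],113,2,[412,18,113]),
  ([4,8,9,0,10,3,5,1,7,2,6],[2,10,4,4],114,1,[224,378,377]),
  ([9,2,4,0,6,1,5,3,7,8,10],[2,2,7,2],114,2,[413,414,114]),
  ([2,6,7,9,8,1,3,10,5,0,4],[5,2,4,4],115,0,[399,104,393]),
  ([3,4,7,2,10,0,6,5,1,8,9],[5,1,3,3],115,1,[387,412,415]),
  ([1,9,7,8,6,0,10,5,3,2,4],[4,4,10,2],115,2,[352,116,115])]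

/-- Certificate data. -/
def pairL1_4 : List (List ℕ × List ℕ × ℕ × ℕ × List ℕ) := [([4,6,0,3,8,1,9,5,10,7,2],[0,5,2,7],116,0,[416,138,137]),
  ([9,4,8,6,10,0,2,1,5,7,3],[1,1,7,8],116,1,[417,418,219]),
  ([0,4,5,7,6,10,1,8,3,9,2],[3,6,7,7],117,0,[115,359,358]),
  ([8,9,1,7,4,5,0,10,6,2,3],[2,6,8,8],117,1,[404,419,420]),
  ([2,4,3,7,9,5,0,6,10,8,1],[4,4,7,10],117,2,[184,229,117]),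
  ([6,10,3,7,0,4,8,1,5,9,2],[2,3,0,6],118,0,[212,325,421]),
  ([10,3,7,0,4,8,1,5,9,2,6],[2,5,0,6],119,1,[32,253,171]),
  ([6,1,7,0,9,2,3,5,4,8,10],[0,3,7,1],119,2,[422,120,119]),
  ([8,4,0,1,6,7,10,5,2,3,9],[3,9,3,2],120,0,[321,423,424]),
  ([1,0,10,2,6,9,7,3,5,8,4],[1,6,6,4],121,0,[423,425,426]),
  ([0,8,5,3,4,2,7,6,1,10,9],[3,1,1,8],121,1,[427,428,429]),
  ([0,2,5,1,9,8,7,10,3,6,4],[5,7,6,2],121,2,[22,430,121]),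
  ([9,6,3,1,2,0,5,4,10,8,7],[1,7,1,8],122,0,[431,432,433]),
  ([8,9,10,0,1,2,3,4,5,6,7],[1,8,0,1],122,2,[275,20,122]),
  ([4,0,1,6,7,10,5,2,3,9,8],[3,1,3,5],123,0,[418,434,435]),
  ([6,5,9,0,7,2,8,1,10,3,4],[4,2,4,5],124,0,[436,437,438]),
  ([6,3,4,10,9,5,1,2,7,8,0],[5,2,8,10],125,0,[437,439,440]),
  ([4,6,9,5,2,1,0,3,7,10,8],[4,7,5,9],125,1,[441,442,443]),
  ([9,10,4,5,8,3,0,1,7,6,2],[3,1,8,3],125,2,[131,159,125]),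
  ([9,4,2,1,3,0,8,6,7,5,10],[5,10,10,7],126,1,[444,445,446]),
  ([4,9,8,3,1,0,2,10,7,5,6],[5,9,1,2],126,2,[348,195,126]),
  ([7,2,0,10,1,9,6,4,5,3,8],[4,4,1,4],127,0,[447,268,406]),
  ([7,3,8,5,0,2,4,9,1,6,10],[4,0,9,3],127,1,[448,167,166]),
  ([7,1,2,5,0,8,9,4,3,10,6],[1,4,8,0],127,2,[304,128,127]),
  ([8,9,7,1,0,6,4,3,5,2,10],[3,1,10,0],128,1,[279,75,317]),
  ([5,0,9,8,10,7,4,2,3,1,6],[2,7,1,4],129,0,[127,449,450]),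
  ([1,8,2,10,5,7,9,3,6,0,4],[5,4,9,3],129,1,[451,452,453]),
  ([3,2,8,6,5,7,4,1,10,0,9],[1,4,10,8],129,2,[35,454,129]),
  ([10,6,0,8,3,5,7,1,4,9,2],[2,2,2,8],130,0,[455,456,398]),
  ([0,1,6,7,10,5,2,3,9,8,4],[3,4,3,8],131,0,[457,458,459]),
  ([5,9,0,7,2,8,1,10,3,4,6],[4,6,4,9],134,0,[460,461,462]),
  ([3,4,10,9,5,1,2,7,8,0,6],[5,7,8,7],135,0,[461,463,464]),
  ([6,9,5,2,1,0,3,7,10,8,4],[4,0,5,3],135,1,[465,151,150]),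
  ([10,4,5,8,3,0,1,7,6,2,9],[3,4,8,0],135,2,[25,233,135]),
  ([10,6,1,7,0,9,2,3,5,4,8],[0,3,7,5],136,2,[466,188,136]),
  ([9,10,0,1,2,3,4,5,6,7,8],[1,9,0,1],137,1,[162,41,204]),
  ([2,8,1,10,3,4,6,5,9,0,7],[4,0,4,3],138,0,[467,296,156]),
  ([6,10,2,0,7,9,1,8,5,4,3],[3,9,6,0],139,1,[112,282,410]),
  ([10,6,8,0,7,4,3,2,5,9,1],[3,0,5,4],139,2,[468,469,139]),
  ([9,10,8,2,1,7,5,4,6,3,0],[2,1,10,0],140,1,[49,154,226]),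
  ([4,6,2,8,3,7,5,9,10,1,0],[5,0,7,9],140,2,[470,141,140]),
  ([3,10,7,6,5,8,1,4,2,9,0],[4,0,6,3],141,1,[471,302,168]),
  ([7,8,6,0,10,5,3,2,4,1,9],[4,1,10,0],142,0,[264,287,337]),
  ([7,6,9,2,5,3,10,1,4,0,8],[1,0,5,1],142,2,[192,143,142]),
  ([0,8,6,7,5,10,9,4,2,1,3],[5,2,10,2],143,0,[239,472,473]),
  ([8,10,4,7,1,5,2,9,3,0,6],[3,0,9,4],143,1,[450,276,304]),
  ([5,6,4,9,8,3,1,0,2,10,7],[5,10,1,0],144,0,[142,70,190]),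
  ([10,2,7,0,8,4,9,6,1,3,5],[2,6,9,0],145,0,[11,297,183]),
  ([5,3,7,8,10,9,2,4,0,6,1],[2,3,7,0],145,1,[166,295,294]),
  ([5,1,7,2,6,4,8,9,0,10,3],[2,0,4,6],145,2,[392,146,145]),
  ([5,4,0,7,8,2,3,6,1,9,10],[2,10,3,10],146,0,[474,475,476]),
  ([3,0,10,9,1,5,8,6,2,4,7],[5,4,5,2],147,0,[475,477,478]),
  ([6,8,5,2,0,1,10,4,3,9,7],[0,1,10,4],147,1,[479,421,325]),
  ([4,6,3,0,9,10,8,2,1,7,5],[2,4,10,4],148,0,[433,194,193]),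
  ([9,4,6,8,2,5,10,3,0,7,1],[4,0,2,3],148,1,[480,289,288]),
  ([4,9,10,2,8,5,6,1,0,7,3],[1,7,3,0],148,2,[157,26,148]),
  ([6,2,3,8,9,1,7,4,5,0,10],[2,0,8,6],149,2,[481,283,149]),
  ([8,6,10,0,2,1,5,7,3,9,4],[1,3,7,0],150,0,[71,139,469]),
  ([8,6,5,7,4,1,10,0,9,3,2],[1,6,10,6],151,0,[100,482,343]),
  ([1,6,3,9,0,2,7,10,4,8,5],[3,9,2,10],152,0,[482,483,484])]

/-- Certificate data. -/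
def pairL1_5 : List (List ℕ × List ℕ × ℕ × ℕ × List ℕ) := [([0,4,6,2,8,3,7,5,9,10,1],[5,6,7,2],152,1,[485,459,458]),
  ([0,9,10,8,2,1,7,5,4,6,3],[2,10,10,1],152,2,[29,486,152]),
  ([9,8,10,7,4,2,3,1,6,5,0],[2,0,1,6],154,2,[341,226,154]),
  ([4,7,2,10,0,6,5,1,8,9,3],[5,6,3,6],155,0,[487,488,489]),
  ([8,2,3,6,1,9,10,5,4,0,7],[2,7,3,0],156,1,[169,65,285]),
  ([6,7,1,2,5,0,8,9,4,3,10],[1,3,8,3],158,0,[490,329,328]),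
  ([6,9,2,5,3,10,1,4,0,8,7],[1,1,5,6],159,0,[329,218,217]),
  ([4,2,3,1,6,5,0,9,8,10,7],[2,8,1,10],159,1,[491,492,493]),
  ([9,8,1,3,10,5,0,4,2,6,7],[5,6,4,5],159,2,[167,125,159]),
  ([9,3,6,0,4,1,8,2,10,5,7],[5,1,9,2],160,1,[396,494,495]),
  ([4,1,10,0,9,3,2,8,6,5,7],[1,10,10,2],160,2,[204,496,160]),
  ([7,1,4,9,2,10,6,0,8,3,5],[2,3,2,9],161,0,[497,314,498]),
  ([1,5,3,7,8,10,9,2,4,0,6],[2,1,7,4],163,1,[499,500,501]),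
  ([3,5,1,7,2,6,4,8,9,0,10],[2,9,4,2],163,2,[280,502,163]),
  ([10,3,1,5,6,8,7,0,2,9,4],[1,7,4,7],164,0,[503,504,505]),
  ([5,9,1,10,6,8,0,7,4,3,2],[3,2,5,0],165,0,[277,144,321]),
  ([0,10,3,5,1,7,2,6,4,8,9],[2,5,4,5],167,0,[506,429,428]),
  ([8,5,6,1,0,7,3,4,9,10,2],[1,0,3,1],167,1,[507,58,264]),
  ([5,4,3,6,10,2,0,7,9,1,8],[3,0,6,4],169,2,[508,170,169]),
  ([3,5,7,1,4,9,2,10,6,0,8],[2,10,2,5],171,0,[403,509,510]),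
  ([4,10,5,9,7,0,1,3,2,6,8],[3,10,4,10],172,0,[511,512,513]),
  ([9,5,1,2,7,8,0,6,3,4,10],[5,0,8,9],172,1,[514,318,315]),
  ([9,2,5,3,10,1,4,0,8,7,6],[1,2,5,0],174,1,[128,286,348]),
  ([4,8,5,1,6,3,9,0,2,7,10],[3,0,2,4],174,2,[335,175,174]),
  ([10,7,2,4,6,0,3,8,1,9,5],[0,5,2,1],176,2,[515,210,176]),
  ([7,8,9,10,0,1,2,3,4,5,6],[1,7,0,1],177,0,[253,81,292]),
  ([10,5,2,3,9,8,4,0,1,6,7],[3,5,3,9],178,0,[516,517,518]),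
  ([7,3,5,8,4,1,0,10,2,6,9],[1,1,6,7],179,0,[517,519,397]),
  ([7,6,1,10,9,0,8,5,3,4,2],[3,8,1,3],179,1,[469,520,305]),
  ([7,10,3,6,4,0,2,5,1,9,8],[5,4,6,5],179,2,[185,521,179]),
  ([7,4,0,5,2,8,10,1,6,9,3],[1,8,2,6],180,1,[420,522,402]),
  ([7,9,0,5,8,2,6,3,10,4,1],[1,3,9,6],180,2,[523,524,180]),
  ([5,2,9,3,0,6,8,10,4,7,1],[3,4,9,5],181,0,[525,338,526]),
  ([1,3,2,6,8,4,10,5,9,7,0],[3,6,4,1],181,1,[244,527,528]),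
  ([3,1,8,10,2,9,6,5,4,7,0],[2,6,5,10],181,2,[529,182,181]),
  ([5,9,6,2,7,4,10,1,3,8,0],[5,4,2,4],182,1,[350,367,530]),
  ([3,0,7,1,9,4,6,8,2,5,10],[4,6,2,6],183,0,[181,531,532]),
  ([6,8,7,0,2,9,4,10,3,1,5],[1,0,4,1],183,1,[533,410,282]),
  ([4,6,5,9,0,7,2,8,1,10,3],[4,9,4,1],184,0,[534,484,483]),
  ([9,1,5,8,6,2,4,7,3,0,10],[5,8,5,6],185,0,[535,491,536]),
  ([8,4,1,0,10,2,6,9,7,3,5],[1,4,6,3],186,0,[386,537,447]),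
  ([10,9,0,8,5,3,4,2,7,6,1],[3,6,1,6],186,1,[538,539,540]),
  ([6,4,0,2,5,1,9,8,7,10,3],[5,8,6,1],186,2,[38,541,186]),
  ([8,7,9,6,3,1,2,0,5,4,10],[1,5,1,6],187,0,[302,542,298]),
  ([9,8,4,0,1,6,7,10,5,2,3],[3,6,3,10],188,0,[543,544,487]),
  ([8,0,6,3,4,10,9,5,1,2,7],[5,3,8,5],189,0,[368,545,546]),
  ([10,8,4,6,9,5,2,1,0,3,7],[4,10,5,10],189,1,[361,547,548]),
  ([6,2,9,10,4,5,8,3,0,1,7],[3,6,8,9],189,2,[120,549,189]),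
  ([5,10,9,4,2,1,3,0,8,6,7],[5,0,10,9],190,1,[550,323,322]),
  ([3,8,7,2,0,10,1,9,6,4,5],[4,7,1,2],191,0,[260,95,366]),
  ([6,10,7,3,8,5,0,2,4,9,1],[4,3,9,7],191,1,[551,552,553]),
  ([10,6,7,1,2,5,0,8,9,4,3],[1,2,8,6],191,2,[554,192,191]),
  ([2,10,8,9,7,1,0,6,4,3,5],[3,6,10,2],192,1,[555,556,557]),
  ([9,10,1,0,4,6,2,8,3,7,5],[5,2,7,3],193,1,[558,487,544]),
  ([2,8,10,1,6,9,3,7,4,0,5],[1,1,2,3],194,0,[559,392,391]),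
  ([3,10,5,0,4,2,6,7,9,8,1],[5,10,4,6],194,1,[532,344,529]),
  ([2,6,3,10,4,1,7,9,0,5,8],[1,8,9,7],195,0,[193,364,431]),
  ([1,9,10,5,4,0,7,8,2,3,6],[2,4,3,1],195,2,[560,126,195]),
  ([0,3,9,6,7,2,1,8,4,5,10],[4,4,3,6],196,1,[528,361,242]),
  ([0,1,4,10,7,8,3,2,9,5,6],[4,8,8,8],196,2,[378,197,196])]

/-- Certificate data. -/
def pairL1_6 : List (List ℕ × List ℕ × ℕ × ℕ × List ℕ) := [([1,4,2,9,0,3,10,7,6,5,8],[4,2,6,6],197,0,[419,47,227]),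
  ([0,9,5,7,10,6,3,2,1,4,8],[2,2,6,1],198,2,[488,39,198]),
  ([8,9,0,10,3,5,1,7,2,6,4],[2,1,4,8],199,1,[353,540,539]),
  ([2,4,0,6,1,5,3,7,8,10,9],[2,4,7,9],199,2,[313,561,199]),
  ([6,7,9,8,1,3,10,5,0,4,2],[5,7,4,8],200,0,[552,189,549]),
  ([9,7,8,6,0,10,5,3,2,4,1],[4,8,10,1],200,2,[521,201,200]),
  ([4,8,6,10,0,2,1,5,7,3,9],[1,2,7,4],201,1,[494,457,349]),
  ([4,5,7,6,10,1,8,3,9,2,0],[3,9,7,3],202,0,[200,528,527]),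
  ([9,1,7,4,5,0,10,6,2,3,8],[2,8,8,5],202,1,[557,446,445]),
  ([4,3,7,9,5,0,6,10,8,1,2],[4,8,7,6],202,2,[124,357,202]),
  ([0,10,2,6,9,7,3,5,8,4,1],[1,7,6,10],203,0,[434,284,562]),
  ([8,5,3,4,2,7,6,1,10,9,0],[3,4,1,9],203,1,[563,564,565]),
  ([2,5,1,9,8,7,10,3,6,4,0],[5,1,6,8],203,2,[42,566,203]),
  ([6,3,1,2,0,5,4,10,8,7,9],[1,8,1,9],204,0,[567,568,569]),
  ([4,2,1,3,0,8,6,7,5,10,9],[5,4,10,6],205,1,[570,299,571]),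
  ([9,8,3,1,0,2,10,7,5,6,4],[5,3,1,3],205,2,[519,332,205]),
  ([2,0,10,1,9,6,4,5,3,8,7],[4,8,1,5],206,0,[572,383,558]),
  ([3,8,5,0,2,4,9,1,6,10,7],[4,4,9,1],206,1,[510,236,235]),
  ([1,2,5,0,8,9,4,3,10,6,7],[1,5,8,8],206,2,[411,207,206]),
  ([9,7,1,0,6,4,3,5,2,10,8],[3,4,10,10],207,1,[391,114,414]),
  ([0,9,8,10,7,4,2,3,1,6,5],[2,9,1,5],208,0,[206,152,486]),
  ([8,2,10,5,7,9,3,6,0,4,1],[5,9,9,1],208,1,[476,573,574]),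
  ([2,8,6,5,7,4,1,10,0,9,3],[1,5,10,7],208,2,[59,575,208]),
  ([6,0,8,3,5,7,1,4,9,2,10],[2,4,2,10],209,0,[576,577,551]),
  ([9,0,7,2,8,1,10,3,4,6,5],[4,10,4,2],210,0,[578,579,511]),
  ([4,10,9,5,1,2,7,8,0,6,3],[5,1,8,4],211,0,[579,580,581]),
  ([9,5,2,1,0,3,7,10,8,4,6],[4,4,5,8],211,1,[582,225,224]),
  ([4,5,8,3,0,1,7,6,2,9,10],[3,7,8,8],211,2,[45,360,211]),
  ([8,1,10,3,4,6,5,9,0,7,2],[4,4,4,7],213,0,[164,405,230]),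
  ([10,2,0,7,9,1,8,5,4,3,6],[3,1,6,6],214,1,[197,394,560]),
  ([6,8,0,7,4,3,2,5,9,1,10],[3,3,5,9],214,2,[439,261,214]),
  ([10,8,2,1,7,5,4,6,3,0,9],[2,3,10,10],215,1,[94,228,354]),
  ([6,2,8,3,7,5,9,10,1,0,4],[5,5,7,5],215,2,[583,216,215]),
  ([10,7,6,5,8,1,4,2,9,0,3],[4,4,6,9],216,1,[473,409,237]),
  ([8,6,0,10,5,3,2,4,1,9,7],[4,5,10,10],217,0,[379,398,456]),
  ([8,6,7,5,10,9,4,2,1,3,0],[5,7,10,1],218,0,[365,584,585]),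
  ([10,4,7,1,5,2,9,3,0,6,8],[3,3,9,2],218,1,[486,388,411]),
  ([6,4,9,8,3,1,0,2,10,7,5],[5,4,1,1],219,0,[217,110,327]),
  ([2,7,0,8,4,9,6,1,3,5,10],[2,8,9,9],220,0,[19,406,268]),
  ([3,7,8,10,9,2,4,0,6,1,5],[2,5,7,7],220,1,[235,404,403]),
  ([1,7,2,6,4,8,9,0,10,3,5],[2,2,4,10],220,2,[548,221,220]),
  ([4,0,7,8,2,3,6,1,9,10,5],[2,1,3,2],221,0,[586,249,587]),
  ([6,3,0,9,10,8,2,1,7,5,4],[2,6,10,3],222,0,[569,331,330]),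
  ([4,6,8,2,5,10,3,0,7,1,9],[4,4,2,5],222,1,[432,400,399]),
  ([9,10,2,8,5,6,1,0,7,3,4],[1,8,3,3],222,2,[231,46,222]),
  ([2,3,8,9,1,7,4,5,0,10,6],[2,2,8,3],223,2,[500,306,223]),
  ([6,10,0,2,1,5,7,3,9,4,8],[1,4,7,7],224,0,[111,214,261]),
  ([6,5,7,4,1,10,0,9,3,2,8],[1,7,10,5],225,0,[187,588,479]),
  ([6,3,9,0,2,7,10,4,8,5,1],[3,1,2,1],226,0,[588,438,437]),
  ([8,10,7,4,2,3,1,6,5,0,9],[2,2,1,7],228,2,[477,354,228]),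
  ([7,2,10,0,6,5,1,8,9,3,4],[5,0,3,9],229,0,[424,278,277]),
  ([2,3,6,1,9,10,5,4,0,7,8],[2,9,3,3],230,1,[238,105,396]),
  ([9,1,10,6,8,0,7,4,3,2,5],[3,5,5,5],234,0,[389,219,418]),
  ([10,3,5,1,7,2,6,4,8,9,0],[2,7,4,9],236,0,[300,565,564]),
  ([5,6,1,0,7,3,4,9,10,2,8],[1,1,3,4],236,1,[589,99,379]),
  ([4,3,6,10,2,0,7,9,1,8,5],[3,3,6,10],238,2,[495,239,238]),
  ([5,7,1,4,9,2,10,6,0,8,3],[2,1,2,7],240,0,[556,590,591]),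
  ([10,5,9,7,0,1,3,2,6,8,4],[3,2,4,3],241,0,[592,593,594]),
  ([5,1,2,7,8,0,6,3,4,10,9],[5,5,8,6],241,1,[296,415,412]),
  ([2,5,3,10,1,4,0,8,7,6,9],[1,3,5,5],243,1,[207,397,519])]

/-- Certificate data. -/
def pairL1_7 : List (List ℕ × List ℕ × ℕ × ℕ × List ℕ) := [([8,5,1,6,3,9,0,2,7,10,4],[3,3,2,6],243,2,[454,244,243]),
  ([7,2,4,6,0,3,8,1,9,5,10],[0,5,2,3],245,2,[595,274,245]),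
  ([7,2,8,1,10,3,4,6,5,9,0],[4,7,4,10],247,0,[596,514,597]),
  ([2,1,0,3,7,10,8,4,6,9,5],[4,1,5,7],248,1,[598,402,522]),
  ([8,3,0,1,7,6,2,9,10,4,5],[3,2,8,2],248,2,[178,599,248]),
  ([3,0,8,6,7,5,10,9,4,2,1],[5,8,10,3],249,1,[170,600,471]),
  ([1,0,2,10,7,5,6,4,9,8,3],[5,7,1,6],249,2,[537,587,249]),
  ([1,9,6,4,5,3,8,7,2,0,10],[4,9,1,8],250,0,[601,319,485]),
  ([0,2,4,9,1,6,10,7,3,8,5],[4,5,9,6],250,1,[77,602,316]),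
  ([0,8,9,4,3,10,6,7,1,2,5],[1,8,8,10],250,2,[357,251,250]),
  ([0,6,4,3,5,2,10,8,9,7,1],[3,2,10,7],251,1,[442,455,603]),
  ([10,7,4,2,3,1,6,5,0,9,8],[2,4,1,8],252,0,[250,523,356]),
  ([5,7,9,3,6,0,4,1,8,2,10],[5,2,9,6],252,1,[604,320,605]),
  ([5,7,4,1,10,0,9,3,2,8,6],[1,8,10,4],252,2,[292,606,252]),
  ([1,0,3,7,10,8,4,6,9,5,2],[4,5,5,1],254,1,[607,555,506]),
  ([3,0,1,7,6,2,9,10,4,5,8],[3,5,8,10],254,2,[57,608,254]),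
  ([7,6,10,1,8,3,9,2,0,4,5],[3,4,7,6],255,0,[456,609,589]),
  ([7,4,5,0,10,6,2,3,8,9,1],[2,1,8,10],255,1,[317,610,408]),
  ([7,9,5,0,6,10,8,1,2,4,3],[4,5,7,9],255,2,[210,611,255]),
  ([7,9,1,8,5,4,3,6,10,2,0],[3,10,6,2],256,1,[574,444,474]),
  ([7,4,3,2,5,9,1,10,6,8,0],[3,1,5,2],256,2,[612,613,256]),
  ([5,7,10,6,3,2,1,4,8,0,9],[2,6,6,2],257,0,[390,129,454]),
  ([1,7,5,4,6,3,0,9,10,8,2],[2,9,10,7],257,1,[382,493,492]),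
  ([3,7,5,9,10,1,0,4,6,2,8],[5,9,7,4],257,2,[366,258,257]),
  ([10,5,3,2,4,1,9,7,8,6,0],[4,6,10,7],259,0,[430,448,614]),
  ([5,1,6,3,9,0,2,7,10,4,8],[3,6,2,8],259,1,[575,369,368]),
  ([5,3,10,1,4,0,8,7,6,9,2],[1,4,5,10],259,2,[342,260,259]),
  ([8,3,1,0,2,10,7,5,6,4,9],[5,8,1,4],261,0,[259,451,340]),
  ([8,4,9,6,1,3,5,10,2,7,0],[2,3,9,3],262,0,[130,615,595]),
  ([4,0,5,2,8,10,1,6,9,3,7],[1,9,2,8],265,1,[445,506,555]),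
  ([9,0,5,8,2,6,3,10,4,1,7],[1,4,9,4],265,2,[616,617,265]),
  ([2,9,3,0,6,8,10,4,7,1,5],[3,7,9,3],266,0,[493,255,611]),
  ([3,2,6,8,4,10,5,9,7,0,1],[3,9,4,5],266,1,[369,507,618]),
  ([1,8,10,2,9,6,5,4,7,0,3],[2,8,5,4],266,2,[599,267,266]),
  ([9,6,2,7,4,10,1,3,8,0,5],[5,9,2,6],267,1,[520,534,441]),
  ([0,7,1,9,4,6,8,2,5,10,3],[4,10,2,8],268,0,[266,316,602]),
  ([8,7,0,2,9,4,10,3,1,5,6],[1,1,4,5],268,1,[308,560,394]),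
  ([1,2,7,8,0,6,3,4,10,9,5],[5,10,8,3],269,0,[405,489,488]),
  ([0,3,7,10,8,4,6,9,5,2,1],[4,9,5,6],269,1,[619,301,300]),
  ([0,1,7,6,2,9,10,4,5,8,3],[3,8,8,7],269,2,[62,620,269]),
  ([6,10,1,8,3,9,2,0,4,5,7],[3,7,7,2],270,0,[577,621,622]),
  ([4,5,0,10,6,2,3,8,9,1,7],[2,3,8,7],270,1,[414,623,559]),
  ([9,5,0,6,10,8,1,2,4,3,7],[4,9,7,5],270,2,[274,290,270]),
  ([9,1,8,5,4,3,6,10,2,0,7],[3,2,6,8],271,1,[624,570,586]),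
  ([4,3,2,5,9,1,10,6,8,0,7],[3,4,5,7],271,2,[318,427,271]),
  ([7,10,6,3,2,1,4,8,0,9,5],[2,8,6,8],272,0,[546,208,575]),
  ([0,7,2,8,1,10,3,4,6,5,9],[4,3,4,6],274,0,[625,626,592]),
  ([3,9,2,0,4,5,7,6,10,1,8],[3,8,7,8],276,0,[590,627,628]),
  ([0,7,9,1,8,5,4,3,6,10,2],[3,7,6,7],278,0,[453,629,630]),
  ([8,7,2,0,10,1,9,6,4,5,3],[4,0,1,3],278,1,[375,183,297]),
  ([5,7,3,9,4,8,6,10,0,2,1],[1,9,7,9],280,0,[631,385,563]),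
  ([4,0,8,7,6,9,2,5,3,10,1],[1,8,5,8],281,0,[536,426,425]),
  ([0,2,7,10,4,8,5,1,6,3,9],[3,10,2,7],284,1,[496,592,626]),
  ([0,8,7,6,9,2,5,3,10,1,4],[1,9,5,2],284,2,[67,562,284]),
  ([6,5,1,8,9,3,4,7,2,10,0],[5,9,3,10],290,0,[216,440,439]),
  ([4,1,0,10,2,6,9,7,3,5,8],[1,5,6,9],290,1,[544,632,572]),
  ([9,3,0,6,8,10,4,7,1,5,2],[3,10,9,1],290,2,[69,270,290]),
  ([9,0,8,5,3,4,2,7,6,1,10],[3,9,1,7],291,1,[613,633,634]),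
  ([4,0,2,5,1,9,8,7,10,3,6],[5,2,6,7],291,2,[83,635,291]),
  ([7,9,6,3,1,2,0,5,4,10,8],[1,6,1,7],292,0,[409,480,407])]

/-- Certificate data. -/
def pairL1_8 : List (List ℕ × List ℕ × ℕ × ℕ × List ℕ) := [([10,5,7,9,3,6,0,4,1,8,2],[5,8,9,8],294,0,[636,637,638]),
  ([7,3,4,9,10,2,8,5,6,1,0],[1,5,3,5],296,0,[593,203,566]),
  ([2,7,4,10,1,3,8,0,5,9,6],[5,8,2,10],298,1,[377,460,582]),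
  ([3,7,9,5,0,6,10,8,1,2,4],[4,1,7,2],299,1,[134,526,338]),
  ([1,7,4,5,0,10,6,2,3,8,9],[2,10,8,2],299,2,[639,571,299]),
  ([1,5,7,3,9,4,8,6,10,0,2],[1,8,7,2],300,0,[573,271,427]),
  ([0,5,8,2,6,3,10,4,1,7,9],[1,5,9,2],301,1,[492,503,380]),
  ([5,8,3,0,1,7,6,2,9,10,4],[3,10,8,5],303,0,[90,529,344]),
  ([1,10,6,8,0,7,4,3,2,5,9],[3,8,5,10],303,1,[545,349,457]),
  ([3,6,10,2,0,7,9,1,8,5,4],[3,6,6,5],303,2,[72,365,303]),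
  ([7,8,2,3,6,1,9,10,5,4,0],[2,5,3,8],305,0,[504,535,604]),
  ([5,3,4,2,7,6,1,10,9,0,8],[3,7,1,10],307,0,[640,163,502]),
  ([1,6,9,3,7,4,0,5,2,8,10],[1,4,2,9],307,1,[584,443,442]),
  ([3,10,4,1,7,9,0,5,8,2,6],[1,10,9,3],307,2,[449,308,307]),
  ([5,9,7,0,1,3,2,6,8,4,10],[3,5,4,7],309,1,[597,628,627]),
  ([5,4,7,0,3,1,8,10,2,9,6],[2,9,5,1],309,2,[641,310,309]),
  ([1,3,8,0,5,9,6,2,7,4,10],[5,6,2,7],310,1,[564,467,619]),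
  ([8,2,5,10,3,0,7,1,9,4,6],[4,1,2,9],311,0,[309,499,642]),
  ([6,1,3,5,10,2,7,0,8,4,9],[2,9,9,8],311,2,[421,583,311]),
  ([2,6,4,8,9,0,10,3,5,1,7],[2,6,4,7],312,0,[443,305,520]),
  ([3,4,9,10,2,8,5,6,1,0,7],[1,6,3,8],312,1,[628,339,643]),
  ([1,9,4,6,8,2,5,10,3,0,7],[4,7,2,1],312,2,[542,313,312]),
  ([9,4,3,10,6,7,1,2,5,0,8],[1,10,8,4],313,1,[611,536,491]),
  ([0,4,2,6,7,9,8,1,3,10,5],[5,3,4,7],314,0,[312,269,620]),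
  ([8,9,3,4,7,2,10,0,6,5,1],[5,2,3,8],314,1,[258,644,612]),
  ([2,4,1,9,7,8,6,0,10,5,3],[4,7,10,4],314,2,[148,498,314]),
  ([1,0,4,6,2,8,3,7,5,9,10],[5,1,7,6],316,0,[615,435,434]),
  ([9,6,7,2,1,8,4,5,10,0,3],[4,1,3,1],317,0,[609,441,534]),
  ([6,5,4,7,0,3,1,8,10,2,9],[2,7,5,7],318,0,[549,569,568]),
  ([9,4,10,3,1,5,6,8,7,0,2],[1,5,4,10],319,1,[524,586,570]),
  ([4,9,6,1,3,5,10,2,7,0,8],[2,5,9,1],319,2,[209,485,319]),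
  ([5,0,6,10,8,1,2,4,3,7,9],[4,2,7,1],320,0,[247,401,384]),
  ([1,8,4,5,10,0,3,9,6,7,2],[4,6,3,2],320,1,[594,598,625]),
  ([3,2,9,5,6,0,1,4,10,7,8],[4,10,8,1],320,2,[146,605,320]),
  ([10,6,2,3,8,9,1,7,4,5,0],[2,9,8,9],321,0,[603,585,584]),
  ([0,8,3,5,7,1,4,9,2,10,6],[2,6,2,1],324,0,[501,645,646]),
  ([0,6,3,4,10,9,5,1,2,7,8],[5,8,8,2],326,0,[484,468,647]),
  ([8,4,6,9,5,2,1,0,3,7,10],[4,3,5,4],326,1,[530,648,649]),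
  ([2,9,10,4,5,8,3,0,1,7,6],[3,9,8,6],326,2,[123,641,326]),
  ([10,9,4,2,1,3,0,8,6,7,5],[5,5,10,8],327,1,[629,420,419]),
  ([10,7,3,8,5,0,2,4,9,1,6],[4,7,9,5],328,1,[646,642,499]),
  ([10,8,9,7,1,0,6,4,3,5,2],[3,9,10,1],329,1,[301,497,639]),
  ([10,1,0,4,6,2,8,3,7,5,9],[5,7,7,10],330,1,[650,424,423]),
  ([8,10,1,6,9,3,7,4,0,5,2],[1,2,2,5],331,0,[600,548,547]),
  ([10,5,0,4,2,6,7,9,8,1,3],[5,4,4,10],331,1,[602,248,599]),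
  ([6,3,10,4,1,7,9,0,5,8,2],[1,9,9,5],332,0,[330,533,567]),
  ([9,10,5,4,0,7,8,2,3,6,1],[2,6,3,4],332,2,[651,205,332]),
  ([3,9,6,7,2,1,8,4,5,10,0],[4,8,3,9],333,1,[618,530,367]),
  ([1,4,10,7,8,3,2,9,5,6,0],[4,1,8,5],333,2,[540,334,333]),
  ([4,2,9,0,3,10,7,6,5,8,1],[4,6,6,1],334,0,[446,92,355]),
  ([9,5,7,10,6,3,2,1,4,8,0],[2,4,6,7],335,2,[278,84,335]),
  ([9,0,10,3,5,1,7,2,6,4,8],[2,3,4,1],336,1,[522,634,633]),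
  ([4,0,6,1,5,3,7,8,10,9,2],[2,6,7,5],336,2,[289,652,336]),
  ([7,9,8,1,3,10,5,0,4,2,6],[5,1,4,1],337,0,[642,326,641]),
  ([5,7,6,10,1,8,3,9,2,0,4],[3,1,7,10],338,0,[337,618,507]),
  ([10,2,6,9,7,3,5,8,4,1,0],[1,8,6,5],339,0,[458,395,601]),
  ([5,1,9,8,7,10,3,6,4,0,2],[5,6,6,3],339,2,[87,643,339]),
  ([2,1,3,0,8,6,7,5,10,9,4],[5,9,10,5],340,1,[653,408,610]),
  ([0,10,1,9,6,4,5,3,8,7,2],[4,1,1,6],341,0,[426,515,650]),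
  ([8,5,0,2,4,9,1,6,10,7,3],[4,8,9,10],341,1,[591,363,362])]

/-- Certificate data. -/
def pairL1_9 : List (List ℕ × List ℕ × ℕ × ℕ × List ℕ) := [([2,5,0,8,9,4,3,10,6,7,1],[1,6,8,5],341,2,[155,342,341]),
  ([7,1,0,6,4,3,5,2,10,8,9],[3,7,10,9],342,1,[547,199,561]),
  ([2,10,5,7,9,3,6,0,4,1,8],[5,3,9,10],343,1,[587,631,624]),
  ([10,9,5,1,2,7,8,0,6,3,4],[5,6,8,1],344,0,[626,612,644]),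
  ([5,2,1,0,3,7,10,8,4,6,9],[4,8,5,2],344,1,[654,293,353]),
  ([2,0,7,9,1,8,5,4,3,6,10],[3,4,6,1],345,1,[334,550,651]),
  ([8,0,7,4,3,2,5,9,1,10,6],[3,6,5,3],345,2,[463,376,345]),
  ([8,2,1,7,5,4,6,3,0,9,10],[2,5,10,9],346,1,[182,356,523]),
  ([2,8,3,7,5,9,10,1,0,4,6],[5,10,7,1],346,2,[172,347,346]),
  ([7,6,5,8,1,4,2,9,0,3,10],[4,8,6,4],347,1,[585,431,364]),
  ([6,0,10,5,3,2,4,1,9,7,8],[4,9,10,9],348,0,[541,551,577]),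
  ([7,0,8,4,9,6,1,3,5,10,2],[2,10,9,7],350,0,[40,558,383]),
  ([7,8,10,9,2,4,0,6,1,5,3],[2,7,7,3],350,1,[362,557,556]),
  ([7,2,6,4,8,9,0,10,3,5,1],[2,4,4,3],350,2,[649,351,350]),
  ([0,7,8,2,3,6,1,9,10,5,4],[2,3,3,5],351,0,[655,370,636]),
  ([3,0,9,10,8,2,1,7,5,4,6],[2,8,10,2],352,0,[310,450,449]),
  ([6,8,2,5,10,3,0,7,1,9,4],[4,8,2,7],352,1,[568,553,552]),
  ([10,2,8,5,6,1,0,7,3,4,9],[1,9,3,6],352,2,[358,91,352]),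
  ([10,0,2,1,5,7,3,9,4,8,6],[1,5,7,3],353,0,[196,345,376]),
  ([3,9,0,2,7,10,4,8,5,1,6],[3,4,2,3],354,0,[606,462,461]),
  ([2,10,0,6,5,1,8,9,3,4,7],[5,5,3,1],357,0,[435,390,389]),
  ([6,1,0,7,3,4,9,10,2,8,5],[1,2,3,7],363,1,[622,186,541]),
  ([0,2,10,7,5,6,4,9,8,3,1],[5,1,1,7],370,2,[632,636,370]),
  ([9,6,4,5,3,8,7,2,0,10,1],[4,2,1,9],371,0,[143,416,470]),
  ([2,4,9,1,6,10,7,3,8,5,0],[4,9,9,4],371,1,[116,656,413]),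
  ([8,9,4,3,10,6,7,1,2,5,0],[1,9,8,7],371,2,[526,372,371]),
  ([6,4,3,5,2,10,8,9,7,1,0],[3,5,10,6],372,1,[151,576,481]),
  ([7,4,2,3,1,6,5,0,9,8,10],[2,6,1,9],373,0,[371,616,525]),
  ([7,9,3,6,0,4,1,8,2,10,5],[5,7,9,4],373,1,[285,417,508]),
  ([7,4,1,10,0,9,3,2,8,6,5],[1,9,10,3],373,2,[122,657,373]),
  ([5,3,2,4,1,9,7,8,6,0,10],[4,10,10,6],374,0,[566,510,509]),
  ([3,10,1,4,0,8,7,6,9,2,5],[1,5,5,4],374,2,[478,375,374]),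
  ([3,1,0,2,10,7,5,6,4,9,8],[5,2,1,5],376,0,[374,476,475]),
  ([2,6,8,4,10,5,9,7,0,1,3],[3,1,4,9],381,1,[483,589,609]),
  ([8,10,2,9,6,5,4,7,0,3,1],[2,10,5,9],381,2,[608,382,381]),
  ([6,2,7,4,10,1,3,8,0,5,9],[5,3,2,8],382,1,[262,436,465]),
  ([7,1,9,4,6,8,2,5,10,3,0],[4,3,2,10],383,0,[381,413,656]),
  ([7,0,2,9,4,10,3,1,5,6,8],[1,2,4,9],383,1,[153,651,550]),
  ([10,1,8,3,9,2,0,4,5,7,6],[3,10,7,9],384,0,[645,658,659]),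
  ([5,0,10,6,2,3,8,9,1,7,4],[2,5,8,4],384,1,[561,471,600]),
  ([1,8,5,4,3,6,10,2,0,7,9],[3,5,6,3],385,1,[638,653,655]),
  ([3,2,5,9,1,10,6,8,0,7,4],[3,7,5,1],385,2,[415,563,385]),
  ([10,6,3,2,1,4,8,0,9,5,7],[2,10,6,3],386,0,[647,343,482]),
  ([7,3,9,4,8,6,10,0,2,1,5],[1,10,7,5],392,0,[637,543,640]),
  ([2,7,10,4,8,5,1,6,3,9,0],[3,2,2,9],395,1,[74,597,514]),
  ([8,7,6,9,2,5,3,10,1,4,0],[1,10,5,7],395,2,[107,601,395]),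
  ([5,1,8,9,3,4,7,2,10,0,6],[5,3,3,2],401,0,[347,464,463]),
  ([3,0,6,8,10,4,7,1,5,2,9],[3,2,9,10],401,2,[109,384,401]),
  ([7,4,10,1,3,8,0,5,9,6,2],[5,2,2,1],407,1,[539,578,654]),
  ([6,7,2,1,8,4,5,10,0,3,9],[4,5,3,4],414,0,[621,465,436]),
  ([4,10,3,1,5,6,8,7,0,2,9],[1,6,4,3],416,1,[617,655,653]),
  ([9,6,1,3,5,10,2,7,0,8,4],[2,7,9,10],416,2,[324,470,416]),
  ([0,6,10,8,1,2,4,3,7,9,5],[4,6,7,8],417,0,[138,554,466]),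
  ([8,4,5,10,0,3,9,6,7,2,1],[4,10,3,5],417,1,[627,607,596]),
  ([2,9,5,6,0,1,4,10,7,8,3],[4,3,8,9],417,2,[221,508,417]),
  ([8,3,5,7,1,4,9,2,10,6,0],[2,8,2,3],421,0,[294,614,448]),
  ([8,3,9,2,0,4,5,7,6,10,1],[3,5,7,1],422,0,[509,594,593]),
  ([6,10,8,1,2,4,3,7,9,5,0],[4,10,7,4],422,2,[213,490,422]),
  ([3,2,1,4,8,0,9,5,7,10,6],[2,3,6,4],423,0,[464,252,606]),
  ([2,9,0,3,10,7,6,5,8,1,4],[4,10,6,7],424,1,[571,180,524])]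

/-- Certificate data. -/
def pairL1_10 : List (List ℕ × List ℕ × ℕ × ℕ × List ℕ) := [([9,0,2,7,10,4,8,5,1,6,3],[3,7,2,5],425,1,[657,511,579]),
  ([2,10,7,5,6,4,9,8,3,1,0],[5,6,1,8],427,0,[425,604,535]),
  ([0,6,1,5,3,7,8,10,9,2,4],[2,8,7,1],428,1,[400,603,455]),
  ([0,7,3,4,9,10,2,8,5,6,1],[1,4,3,2],430,2,[512,121,430]),
  ([6,8,10,4,7,1,5,2,9,3,0],[3,8,9,6],432,0,[331,422,490]),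
  ([9,6,5,4,7,0,3,1,8,10,2],[2,5,5,2],432,2,[393,433,432]),
  ([4,10,1,3,8,0,5,9,6,2,7],[5,7,2,3],433,1,[633,625,598]),
  ([2,1,4,8,0,9,5,7,10,6,3],[2,5,6,10],434,0,[581,373,657]),
  ([9,0,3,10,7,6,5,8,1,4,2],[4,3,6,2],435,1,[610,265,617]),
  ([10,7,8,3,2,9,5,6,0,1,4],[4,9,8,10],436,1,[429,574,573]),
  ([10,1,4,0,8,7,6,9,2,5,3],[1,6,5,9],437,1,[251,447,537]),
  ([10,5,4,0,7,8,2,3,6,1,9],[2,8,3,7],438,1,[630,340,451]),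
  ([8,5,4,3,6,10,2,0,7,9,1],[3,8,6,9],440,0,[605,505,504]),
  ([10,1,9,6,4,5,3,8,7,2,0],[4,5,1,7],440,1,[562,595,615]),
  ([2,9,4,10,3,1,5,6,8,7,0],[1,4,4,6],444,2,[355,474,444]),
  ([2,1,5,7,3,9,4,8,6,10,0],[1,7,7,6],448,1,[452,256,613]),
  ([10,1,6,9,3,7,4,0,5,2,8],[1,3,2,7],450,0,[472,649,648]),
  ([5,0,4,2,6,7,9,8,1,3,10],[5,9,4,3],450,1,[656,254,608]),
  ([4,10,7,8,3,2,9,5,6,0,1],[4,5,8,2],452,2,[634,453,452]),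
  ([1,4,8,0,9,5,7,10,6,3,2],[2,7,6,5],458,0,[644,160,496]),
  ([0,3,10,7,6,5,8,1,4,2,9],[4,7,6,8],459,1,[623,380,503]),
  ([7,8,3,2,9,5,6,0,1,4,10],[4,2,8,7],460,1,[565,624,631]),
  ([7,2,1,8,4,5,10,0,3,9,6],[4,9,3,7],460,2,[658,582,460]),
  ([1,4,0,8,7,6,9,2,5,3,10],[1,7,5,3],461,1,[372,572,632]),
  ([10,2,9,6,5,4,7,0,3,1,8],[2,1,5,3],463,0,[620,298,542]),
  ([1,8,3,9,2,0,4,5,7,6,10],[3,2,7,5],466,0,[614,513,512]),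
  ([0,10,6,2,3,8,9,1,7,4,5],[2,7,8,1],466,1,[652,473,472]),
  ([9,5,6,0,1,4,10,7,8,3,2],[4,7,8,6],467,1,[351,495,494]),
  ([4,5,10,0,3,9,6,7,2,1,8],[4,3,3,8],467,2,[158,619,467]),
  ([0,10,5,3,2,4,1,9,7,8,6],[4,2,10,8],468,1,[635,646,645]),
  ([0,6,5,1,8,9,3,4,7,2,10],[5,4,3,7],468,2,[141,647,468]),
  ([6,8,4,10,5,9,7,0,1,3,2],[3,4,4,2],470,0,[438,622,621]),
  ([1,3,0,8,6,7,5,10,9,4,2],[5,3,10,4],475,1,[505,559,623]),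
  ([5,0,2,4,9,1,6,10,7,3,8],[4,1,9,8],477,1,[498,532,531]),
  ([5,0,8,9,4,3,10,6,7,1,2],[1,7,8,2],477,2,[229,478,477]),
  ([1,0,6,4,3,5,2,10,8,9,7],[3,10,10,8],478,1,[648,336,652]),
  ([0,6,8,10,4,7,1,5,2,9,3],[3,5,9,8],480,0,[194,466,554]),
  ([8,4,10,5,9,7,0,1,3,2,6],[3,7,4,6],480,1,[462,659,658]),
  ([2,9,6,5,4,7,0,3,1,8,10],[2,3,5,8],480,2,[281,407,480]),
  ([2,8,5,6,1,0,7,3,4,9,10],[1,10,3,9],484,0,[527,179,521]),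
  ([6,4,5,3,8,7,2,0,10,1,9],[4,6,1,10],491,0,[218,311,583]),
  ([6,5,8,1,4,2,9,0,3,10,7],[4,1,6,10],495,0,[283,567,533]),
  ([8,10,9,2,4,0,6,1,5,3,7],[2,9,7,10],497,2,[531,639,497]),
  ([4,3,5,2,10,8,9,7,1,0,6],[3,8,10,5],500,2,[225,501,500]),
  ([2,5,9,1,10,6,8,0,7,4,3],[3,10,5,6],504,1,[489,640,543]),
  ([0,2,9,4,10,3,1,5,6,8,7],[1,3,4,2],515,1,[227,630,629]),
  ([0,8,4,9,6,1,3,5,10,2,7],[2,1,9,5],515,2,[85,650,515]),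
  ([0,7,4,3,2,5,9,1,10,6,8],[3,9,5,8],516,2,[580,538,516]),
  ([2,1,7,5,4,6,3,0,9,10,8],[2,7,10,8],517,1,[267,525,616]),
  ([8,3,7,5,9,10,1,0,4,6,2],[5,4,7,8],517,2,[241,518,517]),
  ([0,2,1,5,7,3,9,4,8,6,10],[1,6,7,10],522,0,[333,516,538]),
  ([10,0,6,5,1,8,9,3,4,7,2],[5,10,3,4],526,0,[459,546,545]),
  ([1,0,7,3,4,9,10,2,8,5,6],[1,3,3,10],532,1,[659,291,635]),
  ([3,2,4,1,9,7,8,6,0,10,5],[4,3,10,5],537,0,[643,591,590]),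
  ([6,3,2,1,4,8,0,9,5,7,10],[2,1,6,9],544,0,[440,479,588]),
  ([1,8,9,3,4,7,2,10,0,6,5],[5,8,3,5],554,0,[518,581,580]),
  ([6,1,5,3,7,8,10,9,2,4,0],[2,10,7,8],564,1,[553,481,576]),
  ([10,1,3,8,0,5,9,6,2,7,4],[5,1,2,5],569,1,[428,596,607]),
  ([8,3,2,9,5,6,0,1,4,10,7],[4,6,8,4],578,1,[502,638,637]),
  ([2,1,8,4,5,10,0,3,9,6,7],[4,2,3,10],578,2,[513,654,578])]

/-- Certificate data. -/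
def pairL1 : List (List (List ℕ × List ℕ × ℕ × ℕ × List ℕ)) := [pairL1_0,pairL1_1,pairL1_2,pairL1_3,pairL1_4,pairL1_5,pairL1_6,pairL1_7,pairL1_8,pairL1_9,pairL1_10]

end Cfsg.Lib.Deg11
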