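import Mathlib
import Cfsg.Agent.Degree11.Data

/-!
Permutations of eleven points as lists.
-/

set_option autoImplicit false

namespace Cfsg.Lib.Deg11

open Equiv

/-- Product of two permutations given as lists. -/
def lmul (p q : List ℕ) : List ℕ := q.map fun i => p.getD i 0

/-- The identity list. -/
def idL : List ℕ := List.range 11

/-- Power of a list permutation. -/
def lpow (p : List ℕ) : ℕ → List ℕ
  | 0 => idL
  | n + 1 => lmul p (lpow p n)

/-- Value of a word. -/
def lword (gs : List (List ℕ)) (w : List ℕ) : List ℕ := w.foldr (fun i r => lmul (gs.getD i idL) r) idL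

/-- Number of moved points. -/
def moved (l : List ℕ) : ℕ := ((List.range 11).filter fun i => l.getD i 0 != i).length

/-- A word some power of which is a 3-cycle. -/
def three (gs : List (List ℕ)) (c : List ℕ × ℕ) : Bool := moved (lpow (lword gs c.1) c.2) == 3

/-- The list of values of a permutation. -/
def pl (g : Perm (Fin 11)) : List ℕ := List.ofFn fun i => (g i).val

theorem pl_getD (g : Perm (Fin 11)) (i : Fin 11) : (pl g).getD i.val 0 = (g i).val := by
  rw [pl, List.getD_eq_getElem _ _ (by simp), List.getElem_ofFn]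

theorem pl_injective : Function.Injective pl := by
  intro g h e
  ext i
  rw [← pl_getD g i, ← pl_getD h i, e]

theorem pl_one : pl 1 = idL := by decide

theorem pl_mul (g h : Perm (Fin 11)) : pl (g * h) = lmul (pl g) (pl h) := by
  refine List.ext_getElem (by simp [pl, lmul]) fun n h₁ h₂ => ?_
  have hn : n < 11 := by simpa [pl] using h₁
  simp only [lmul, pl, List.getElem_map, List.getElem_ofFn, Perm.mul_apply]
  exact (pl_getD g (h ⟨n, hn⟩)).symm

theorem pl_pow (g : Perm (Fin 11)) : ∀ n : ℕ, pl (g ^ n) = lpow (pl g) n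
  | 0 => by rw [pow_zero, pl_one]; rfl
  | n + 1 => by rw [pow_succ', pl_mul, pl_pow g n]; rfl

/-- Value of a word in permutations. -/
def wval (gs : List (Perm (Fin 11))) (w : List ℕ) : Perm (Fin 11) := w.foldr (fun i r => gs.getD i 1 * r) 1

theorem pl_wval (gs : List (Perm (Fin 11))) : ∀ w : List ℕ, pl (wval gs w) = lword (gs.map pl) w
  | [] => pl_one
  | i :: w => by
    show pl (gs.getD i 1 * wval gs w) = lmul ((gs.map pl).getD i idL) (lword (gs.map pl) w)
    rw [pl_mul, pl_wval gs w, ← pl_one, List.getD_map]

theorem wval_mem {G : Subgroup (Perm (Fin 11))} (gs : List (Perm (Fin 11))) (h : ∀ g ∈ gs, g ∈ G) :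
    ∀ w : List ℕ, wval gs w ∈ G
  | [] => G.one_mem
  | i :: w => by
    show gs.getD i 1 * wval gs w ∈ G
    refine G.mul_mem ?_ (wval_mem gs h w)
    by_cases hi : i < gs.length
    · rw [List.getD_eq_getElem _ _ hi]
      exact h _ (List.getElem_mem hi)
    · rw [List.getD_eq_default _ _ (not_lt.1 hi)]
      exact G.one_mem

theorem moved_pl (g : Perm (Fin 11)) : moved (pl g) = g.support.card := by
  have h1 : moved (pl g) = ((List.finRange 11).filter fun i : Fin 11 => (pl g).getD i.val 0 != i.val).length := by
    rw [moved, show List.range 11 = (List.finRange 11).map Fin.val from rfl, List.filter_map, List.length_map]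
    rfl
  have h2 : g.support.card = ((List.finRange 11).filter fun i : Fin 11 => decide (g i ≠ i)).length := rfl
  rw [h1, h2]
  congr 1
  refine List.filter_congr fun i _ => ?_
  rw [pl_getD]
  by_cases hx : g i = i <;> simp [hx, Fin.val_ne_iff]

/-- A subgroup containing the generators of a successful word contains a 3-cycle. -/
theorem exists_threeCycle {G : Subgroup (Perm (Fin 11))} (gs : List (Perm (Fin 11))) (h : ∀ g ∈ gs, g ∈ G)
    {c : List ℕ × ℕ} (hc : three (gs.map pl) c = true) : ∃ g ∈ G, g.IsThreeCycle := by
  refine ⟨wval gs c.1 ^ c.2, G.pow_mem (wval_mem gs h _) _, ?_⟩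
  rw [← card_support_eq_three_iff, ← moved_pl, pl_pow, pl_wval]
  simpa [three] using hc

end Cfsg.Lib.Deg11
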