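import Cfsg.Agent.Degree11.Basic

/-!
Certificate checks for the transitive groups of degree eleven.
-/

set_option autoImplicit false

set_option synthInstance.maxSize 1000

namespace Cfsg.Lib.Deg11

/-- The map `x ↦ b + a x` as a list. -/
def affL (a b : ℕ) : List ℕ := (List.range 11).map fun i => (b + a * i) % 11

/-- The even affine maps. -/
def aff55 : List (List ℕ) := [1, 3, 4, 5, 9].flatMap fun a => (List.range 11).map (affL a)

/-- The candidate normalising a fixed subgroup of order five. -/
def mkN (j a b : ℕ) : List ℕ := (List.range 11).map fun p =>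
  if p = 0 then 0 else
    match (List.range 5).find? fun i => 3 ^ i % 11 == p with
    | some i => 3 ^ (j * i) % 11 * a % 11
    | none =>
      match (List.range 5).find? fun i => 2 * 3 ^ i % 11 == p with
      | some i => 3 ^ (j * i) % 11 * b % 11
      | none => 0

/-- The subgroup of order five. -/
def sPow : List (List ℕ) := (List.range 5).map (lpow sL)

/-- Normalisers of order twenty. -/
def km : Bool → List (List ℕ)
  | false => kmL0
  | true => kmL1

/-- Normalisers of order ten. -/
def kl : Bool → List (List ℕ)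
  | false => klL0
  | true => klL1

/-- Their generators. -/
def gMd : Bool → List ℕ
  | false => gM0
  | true => gM1

/-- Their generators. -/
def gLd : Bool → List ℕ
  | false => gL0
  | true => gL1

/-- Words excluding the reflection. -/
def xMd : Bool → List ℕ × ℕ
  | false => xM0
  | true => xM1

/-- Words excluding the reflection. -/
def xLd : Bool → List ℕ × ℕ
  | false => xL0
  | true => xL1

/-- Transitivity words. -/
def transD : Bool → List (ℕ × ℕ × List ℕ)
  | false => transM0
  | true => transM1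

/-- All admissible elements of the normaliser. -/
def goodL : List (List ℕ) := kmL0 ++ kmL1

theorem aff_ok : ∀ a < 11, ∀ b < 11, (affL a b).Nodup → a ∈ [1, 3, 4, 5, 9] →
    affL a b ∈ aff55 := by decide +kernel

theorem aff55_length : aff55.length = 55 := by decide +kernel

theorem aff_nonsquare : ∀ a < 11, a ∈ [2, 6, 7, 8, 10] → lpow (affL a 0) 5 = xL := by decide +kernel

theorem aff_square : ∀ a < 11, a ∈ [3, 4, 5, 9] → ∃ e < 5, lpow (affL a 0) e = sL := by decide +kernel

theorem aff_shift : ∀ a < 11, ∀ b < 11, lmul (lpow cL (11 - b)) (affL a b) = affL a 0 := by decide +kernel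

theorem aff_one : ∀ b < 11, affL 1 b = lpow cL b := by decide +kernel

theorem bad_ok : badD.all (fun d => three [cL, sL, mkN d.1.1 d.1.2.1 d.1.2.2] (d.2.1, d.2.2)) = true := by
  decide +kernel

theorem odd_ok : ∀ d ∈ oddD, mkN d.1 d.2.1 d.2.2 = affL d.2.1 0 ∧ d.2.1 ∈ [2, 6, 7, 8, 10] := by decide +kernel

/-- One case of the classification of normalising elements. -/
def classB (j a b : ℕ) : Bool :=
  j == 0 || a == 0 || b == 0 || !decide (mkN j a b).Nodup || goodL.contains (mkN j a b) ||
    (badD.map Prod.fst).contains (j, a, b) || oddD.contains (j, a, b)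

theorem class_ok : ∀ j < 5, ∀ a < 11, ∀ b < 11, classB j a b = true := by decide +kernel

theorem split_m : ∀ i : Bool, ∀ g ∈ km i, g ∉ kl i → ∀ h ∈ goodL, h ∈ km i ∨ lmul g h ∉ goodL := by
  decide +kernel

theorem split_l : ∀ i : Bool, ∀ g ∈ kl i, g ∉ sPow → ∀ h ∈ goodL,
    (∃ j : Bool, h ∈ km j ∧ h ∉ kl j) ∨ h ∈ kl i ∨ lmul g h ∉ goodL := by
  decide +kernel

theorem good_split : ∀ h ∈ goodL, (∃ j : Bool, h ∈ km j ∧ h ∉ kl j) ∨ (∃ j : Bool, h ∈ kl j ∧ h ∉ sPow) ∨
    h ∈ sPow := by
  decide +kernel

theorem km_gen : ∀ i : Bool, ∀ g ∈ km i, g ∉ kl i →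
    ∀ k ∈ km i, ∃ a < 5, ∃ b < 4, k = lmul (lpow sL a) (lpow g b) := by
  decide +kernel

theorem kl_gen : ∀ i : Bool, ∀ g ∈ kl i, g ∉ sPow →
    ∀ k ∈ kl i, ∃ a < 5, ∃ b < 2, k = lmul (lpow sL a) (lpow g b) := by
  decide +kernel

theorem km_shape : ∀ i : Bool, (km i).Nodup ∧ (km i).length = 20 ∧ gMd i ∈ km i := by decide +kernel

theorem kl_shape : ∀ i : Bool, (kl i).Nodup ∧ (kl i).length = 10 ∧ gLd i ∈ kl i ∧ gLd i ∉ aff55 ∧
    ∀ a < 11, ∀ b < 11, gLd i ≠ affL a b := by decide +kernel

theorem sPow_shape : sPow.Nodup ∧ sPow.length = 5 := by decide +kernel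

theorem x_ok : ∀ i : Bool, three [cL, sL, gMd i, xL] (xMd i) = true ∧ three [cL, sL, gLd i, xL] (xLd i) = true := by
  decide +kernel

theorem five_ok : fiveD.all (fun d => three [cL, d.1] (d.2.1, d.2.2)) = true := by decide +kernel

/-- Every way of completing a prefix is covered. -/
def covers (known : List (List ℕ)) : ℕ → List ℕ → Bool
  | 0, pre => known.contains pre
  | n + 1, pre => [5, 6, 7, 8, 9, 10].all fun v => pre.contains v || covers known n (pre ++ [v])

theorem five_cover : covers (fiveD.map Prod.fst) 6 [1, 0, 2, 3, 4] = true := by decide +kernel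

theorem covers_sound (known : List (List ℕ)) : ∀ (n : ℕ) (pre rest : List ℕ), covers known n pre = true →
    rest.length = n → (pre ++ rest).Nodup → (∀ v ∈ rest, v ∈ [5, 6, 7, 8, 9, 10]) → pre ++ rest ∈ known
  | 0, pre, rest, h, hl, _, _ => by
    rw [List.length_eq_zero_iff.1 hl, List.append_nil]
    exact List.contains_iff_mem.1 h
  | n + 1, pre, rest, h, hl, hnd, hv => by
    rcases rest with _ | ⟨v, rest⟩
    · simp at hl
    have hv' := List.all_eq_true.1 h v (hv v (List.mem_cons_self ..))
    rw [Bool.or_eq_true] at hv'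
    rcases hv' with hv' | hv'
    · exact absurd (List.contains_iff_mem.1 hv') fun hm =>
        (List.disjoint_of_nodup_append hnd) hm (List.mem_cons_self ..)
    · have := covers_sound known n (pre ++ [v]) rest hv' (by simpa using hl) (by simpa using hnd)
        fun w hw => hv w (List.mem_cons_of_mem _ hw)
      simpa using this

theorem trans_cover : ∀ i : Bool, ∀ k < 4, ∀ v < 11, k ≤ v → ∃ d ∈ transD i, d.1 = k ∧ d.2.1 = v := by
  decide +kernel

theorem trans_ok : ∀ i : Bool, ∀ d ∈ transD i,
    (∀ q < d.1, (lword [cL, sL, gMd i] d.2.2).getD q 0 = q) ∧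
      (lword [cL, sL, gMd i] d.2.2).getD d.1 0 = d.2.1 := by
  decide +kernel

end Cfsg.Lib.Deg11
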