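import Cfsg.Agent.Degree11.Affine

/-!
The Sylow normalisers of a non-solvable transitive even group of degree eleven.
-/

set_option autoImplicit false

namespace Cfsg.Lib.Deg11

open Equiv Subgroup

theorem card_le_list {K : Subgroup (Perm (Fin 11))} {l : List (List ℕ)} (h : ∀ g ∈ K, pl g ∈ l) :
    Nat.card K ≤ l.length := by
  classical
  calc Nat.card K = (K : Set (Perm (Fin 11))).ncard := Nat.card_coe_set_eq _
    _ ≤ (l.toFinset : Set (List ℕ)).ncard :=
        Set.ncard_le_ncard_of_injOn pl (fun g hg => by simpa using h g hg) pl_injective.injOn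
    _ ≤ l.length := by rw [Set.ncard_coe_finset]; exact l.toFinset_card_le

theorem list_le_card {K : Subgroup (Perm (Fin 11))} {l : List (List ℕ)} (hl : l.Nodup)
    (h : ∀ x ∈ l, ∃ g ∈ K, pl g = x) : l.length ≤ Nat.card K := by
  classical
  calc l.length = (l.toFinset : Set (List ℕ)).ncard := by
        rw [Set.ncard_coe_finset, List.toFinset_card_of_nodup hl]
    _ ≤ (pl '' (K : Set (Perm (Fin 11)))).ncard :=
        Set.ncard_le_ncard (fun x hx => by simpa using h x (by simpa using hx))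
    _ ≤ (K : Set (Perm (Fin 11))).ncard := Set.ncard_image_le
    _ = Nat.card K := (Nat.card_coe_set_eq _).symm

/-- The elements of a subgroup normalising a cyclic subgroup. -/
def normZ (H : Subgroup (Perm (Fin 11))) (z : Perm (Fin 11)) : Subgroup (Perm (Fin 11)) :=
  H ⊓ normalizer (zpowers z : Set (Perm (Fin 11)))

theorem mem_normZ {H : Subgroup (Perm (Fin 11))} {z g : Perm (Fin 11)} (hg : g ∈ normZ H z) :
    g ∈ H ∧ g * z * g⁻¹ ∈ zpowers z :=
  ⟨hg.1, (mem_normalizer_iff.1 hg.2 z).1 (mem_zpowers z)⟩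

theorem sylow_zpowers {H : Subgroup (Perm (Fin 11))} {z : Perm (Fin 11)} (hz : z ∈ H) {p : ℕ} [hp : Fact p.Prime]
    (ho : orderOf z = p) (hp2 : ¬ p ^ 2 ∣ Nat.card H) :
    ∃ P : Sylow p H, (P : Subgroup H) = (zpowers z).subgroupOf H := by
  have hle : zpowers z ≤ H := zpowers_le.2 hz
  have hc : Nat.card ((zpowers z).subgroupOf H) = p := by
    rw [Nat.card_congr (subgroupOfEquivOfLe hle).toEquiv, Nat.card_zpowers, ho]
  obtain ⟨P, hP⟩ := (IsPGroup.of_card (n := 1) (by rw [hc, pow_one]) :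
    IsPGroup p ((zpowers z).subgroupOf H)).exists_le_sylow
  refine ⟨P, (eq_of_le_of_card_ge hP ?_).symm⟩
  obtain ⟨k, hk⟩ := IsPGroup.iff_card.1 P.2
  have h2 : k ≤ 1 := by
    by_contra h
    exact hp2 ((pow_dvd_pow p (show 2 ≤ k by omega)).trans (hk ▸ Subgroup.card_subgroup_dvd_card _))
  rw [hc, hk]
  exact (Nat.pow_le_pow_right hp.out.pos h2).trans_eq (pow_one p)

theorem sylow_count {H : Subgroup (Perm (Fin 11))} {z : Perm (Fin 11)} (hz : z ∈ H) {p : ℕ} [hp : Fact p.Prime]
    (ho : orderOf z = p) (hp2 : ¬ p ^ 2 ∣ Nat.card H) :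
    ∃ m, Nat.card H = Nat.card (normZ H z) * m ∧ m % p = 1 := by
  obtain ⟨P, hP⟩ := sylow_zpowers hz ho hp2
  refine ⟨Nat.card (Sylow p H), ?_, Eq.trans (card_sylow_modEq_one p H : Nat.card (Sylow p H) % p = 1 % p) (Nat.mod_eq_of_lt hp.out.one_lt)⟩
  have hle : zpowers z ≤ H := zpowers_le.2 hz
  have hn : normalizer ((P : Subgroup H) : Set H) = (normalizer (zpowers z : Set (Perm (Fin 11)))).subgroupOf H := by
    rw [hP, subgroupOf_normalizer_eq hle]
  have hc : Nat.card (normalizer ((P : Subgroup H) : Set H)) = Nat.card (normZ H z) := by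
    rw [hn, ← inf_subgroupOf_left, Nat.card_congr (subgroupOfEquivOfLe inf_le_left).toEquiv]
    rfl
  rw [P.card_eq_index_normalizer, ← hc]
  exact (Subgroup.card_mul_index _).symm

/-- The standing hypotheses. -/
structure Std (H : Subgroup (Perm (Fin 11))) : Prop where
  even : H ≤ alternatingGroup (Fin 11)
  c_mem : cP ∈ H
  nsol : ¬ Group.IsSolvable H
  no3 : ∀ g ∈ H, ¬ g.IsThreeCycle

namespace Std

variable {H : Subgroup (Perm (Fin 11))} (hH : Std H)

include hH

theorem card_dvd : Nat.card H ∣ 19958400 := by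
  have h := Subgroup.card_dvd_of_le hH.even
  rwa [nat_card_alternatingGroup, Nat.card_fin, show Nat.factorial 11 / 2 = 19958400 from by decide] at h

theorem not_eleven_sq : ¬ 11 ^ 2 ∣ Nat.card H := fun h =>
  absurd (h.trans hH.card_dvd) (by norm_num)

theorem affine {g : Perm (Fin 11)} (hg : g ∈ normZ H cP) :
    ∃ a < 11, ∃ b < 11, a ∈ [1, 3, 4, 5, 9] ∧ pl g = affL a b := by
  obtain ⟨hgH, hgn⟩ := mem_normZ hg
  obtain ⟨a, ha, b, hb, ha0, he⟩ := affine_of_normalizes hgn
  refine ⟨a, ha, b, hb, ?_, he⟩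
  have : a ∈ [1, 3, 4, 5, 9] ∨ a ∈ [2, 6, 7, 8, 10] :=
    (by decide : ∀ a < 11, a ≠ 0 → a ∈ [1, 3, 4, 5, 9] ∨ a ∈ [2, 6, 7, 8, 10]) a ha ha0
  rcases this with h | h
  · exact h
  · have h0 : pl ((cP ^ (11 - b) * g) ^ 5) = pl xP := by
      rw [pl_pow, pl_mul, pl_pow, pl_cP, he, aff_shift a ha b hb, aff_nonsquare a ha h, pl_xP]
    have hm := hH.even (H.pow_mem (H.mul_mem (H.pow_mem hH.c_mem (11 - b)) hgH) 5)
    rw [pl_injective h0, Perm.mem_alternatingGroup, sign_xP] at hm
    exact absurd hm (by decide)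

theorem pretransitive : MulAction.IsPretransitive H (Fin 11) := by
  refine ⟨fun x y => ⟨⟨cP ^ (y.val + 11 - x.val), H.pow_mem hH.c_mem _⟩, Fin.ext ?_⟩⟩
  show ((cP ^ (y.val + 11 - x.val)) x).val = y.val
  rw [cP_pow_val]
  omega

theorem not_solvable_of_normal_zpowers (h : ∀ g ∈ H, g * cP * g⁻¹ ∈ zpowers cP) (h5 : Nat.card H = 55) : False := by
  apply hH.nsol
  haveI : Fact (Nat.Prime 5) := ⟨by norm_num⟩
  set Z := (zpowers cP).subgroupOf H with hZ
  haveI : Z.Normal := by
    refine ⟨fun n hn g => ?_⟩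
    rw [hZ, mem_subgroupOf] at hn ⊢
    obtain ⟨k, hk⟩ := mem_zpowers_iff.1 hn
    obtain ⟨l, hl⟩ := mem_zpowers_iff.1 (h g g.2)
    rw [coe_mul, coe_mul, coe_inv, ← hk, ← conj_zpow, ← hl, ← zpow_mul]
    exact zpow_mem_zpowers _ _
  have hcZ : Nat.card Z = 11 := by
    rw [Nat.card_congr (subgroupOfEquivOfLe (zpowers_le.2 hH.c_mem)).toEquiv, Nat.card_zpowers, orderOf_cP]
  haveI : Fact (Nat.Prime 11) := ⟨by norm_num⟩
  have hq : Nat.card (H ⧸ Z) = 5 := by
    have h1 := Z.card_eq_card_quotient_mul_card_subgroup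
    rw [hcZ, h5] at h1
    omega
  haveI := isCyclic_of_prime_card hcZ
  haveI := isCyclic_of_prime_card hq
  haveI : Group.IsSolvable Z := Group.isSolvable_of_comm fun a b => (IsCyclic.commGroup (α := Z)).mul_comm a b
  haveI : Group.IsSolvable (H ⧸ Z) :=
    Group.isSolvable_of_comm fun a b => (IsCyclic.commGroup (α := H ⧸ Z)).mul_comm a b
  exact Group.isSolvable_of_ker_le_range Z.subtype (QuotientGroup.mk' Z) (by simp)

theorem s_mem : sP ∈ H := by
  haveI : Fact (Nat.Prime 11) := ⟨by norm_num⟩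
  by_cases hone : ∀ g ∈ normZ H cP, g ∈ zpowers cP
  · exfalso
    obtain ⟨P, hP⟩ := sylow_zpowers hH.c_mem orderOf_cP hH.not_eleven_sq
    have hPN : normalizer ((P : Subgroup H) : Set H) ≤ centralizer ((P : Subgroup H) : Set H) := by
      intro g hg x hx
      rw [hP, ← subgroupOf_normalizer_eq (zpowers_le.2 hH.c_mem), mem_subgroupOf] at hg
      rw [SetLike.mem_coe, hP, mem_subgroupOf] at hx
      have hgz : (g : Perm (Fin 11)) ∈ zpowers cP := hone _ ⟨g.2, hg⟩
      refine Subtype.ext ?_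
      obtain ⟨k, hk⟩ := mem_zpowers_iff.1 hx
      obtain ⟨l, hl⟩ := mem_zpowers_iff.1 hgz
      rw [coe_mul, coe_mul, ← hk, ← hl, ← zpow_add, ← zpow_add, add_comm]
    set N := (MonoidHom.transferSylow P hPN).ker
    have hcomp : N.IsComplement' (P : Subgroup H) := MonoidHom.ker_transferSylow_isComplement' P hPN
    have hcP : Nat.card (P : Subgroup H) = 11 := by
      rw [hP, Nat.card_congr (subgroupOfEquivOfLe (zpowers_le.2 hH.c_mem)).toEquiv, Nat.card_zpowers, orderOf_cP]
    haveI := hH.pretransitive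
    haveI : MulAction.IsPreprimitive H (Fin 11) := MulAction.IsPreprimitive.of_prime_card (by
      rw [Nat.card_fin]; norm_num)
    have hN : N = ⊥ := by
      by_contra hne
      have hnu : MulAction.fixedPoints N (Fin 11) ≠ Set.univ := by
        intro h
        apply hne
        rw [eq_bot_iff_forall]
        intro g hg
        refine Subtype.ext (Equiv.ext fun x => ?_)
        have hx : x ∈ MulAction.fixedPoints N (Fin 11) := by simp [h]
        exact hx ⟨g, hg⟩
      haveI : MulAction.IsPretransitive N (Fin 11) := MulAction.IsQuasiPreprimitive.isPretransitive_of_normal hnu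
      have h11 : (MulAction.stabilizer N (0 : Fin 11)).index = 11 := by
        rw [MulAction.index_stabilizer_of_transitive, Nat.card_fin]
      refine MonoidHom.not_dvd_card_ker_transferSylow P hPN ?_
      have hd := (MulAction.stabilizer N (0 : Fin 11)).index_dvd_card
      rwa [h11] at hd
    have hcard := hcomp.card_mul_card
    rw [hN, card_bot, one_mul, hcP] at hcard
    apply hH.nsol
    haveI := isCyclic_of_prime_card hcard.symm
    exact Group.isSolvable_of_comm fun a b => (IsCyclic.commGroup (α := H)).mul_comm a b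
  · push Not at hone
    obtain ⟨g, hg, hgn⟩ := hone
    obtain ⟨a, ha, b, hb, hsq, he⟩ := hH.affine hg
    have ha1 : a ∈ [3, 4, 5, 9] := by
      rcases List.mem_cons.1 hsq with rfl | h
      · exfalso
        rw [aff_one b hb, ← pl_cP, ← pl_pow] at he
        exact hgn (pl_injective he ▸ npow_mem_zpowers cP b)
      · exact h
    obtain ⟨e, -, hee⟩ := aff_square a ha ha1
    have h0 : pl ((cP ^ (11 - b) * g) ^ e) = pl sP := by
      rw [pl_pow, pl_mul, pl_pow, pl_cP, he, aff_shift a ha b hb, hee, pl_sP]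
    rw [← pl_injective h0]
    exact H.pow_mem (H.mul_mem (H.pow_mem hH.c_mem _) (mem_normZ hg).1) _

theorem sP_mem_normZ : sP ∈ normZ H cP := by
  refine ⟨hH.s_mem, mem_normalizer_iff.2 fun x => ?_⟩
  have e : sP * cP * sP⁻¹ = cP ^ 3 := by
    rw [mul_inv_eq_iff_eq_mul]
    exact pl_injective (by rw [pl_mul, pl_mul, pl_pow, pl_sP, pl_cP]; decide +kernel)
  have e4 : sP⁻¹ * cP * sP = cP ^ 4 := by
    rw [mul_assoc, inv_mul_eq_iff_eq_mul]
    exact pl_injective (by rw [pl_mul, pl_mul, pl_pow, pl_sP, pl_cP]; decide +kernel)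
  constructor
  · intro hx
    obtain ⟨k, rfl⟩ := mem_zpowers_iff.1 hx
    rw [← conj_zpow, e]
    exact zpow_mem (npow_mem_zpowers _ _) _
  · intro hx
    obtain ⟨k, hk⟩ := mem_zpowers_iff.1 hx
    have hx' : x = (sP⁻¹ * cP * sP) ^ k := by
      have := conj_zpow (a := sP⁻¹) (b := cP) (i := k)
      rw [inv_inv] at this
      rw [this, hk]
      group
    rw [hx', e4]
    exact zpow_mem (npow_mem_zpowers _ _) _

theorem card_normZ_cP : Nat.card (normZ H cP) = 55 := by
  have hs : sP ∈ normZ H cP := hH.sP_mem_normZ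
  have hc : cP ∈ normZ H cP := ⟨hH.c_mem, le_normalizer (mem_zpowers cP)⟩
  have h1 : 55 ∣ Nat.card (normZ H cP) := by
    have a := orderOf_dvd_natCard (⟨cP, hc⟩ : normZ H cP)
    have b := orderOf_dvd_natCard (⟨sP, hs⟩ : normZ H cP)
    rw [← orderOf_coe, orderOf_cP] at a
    rw [← orderOf_coe, orderOf_sP] at b
    exact (show Nat.Coprime 11 5 by norm_num).mul_dvd_of_dvd_of_dvd a b
  have h2 : Nat.card (normZ H cP) ≤ 55 := aff55_length ▸ card_le_list fun g hg => by
    obtain ⟨a, ha, b, hb, hsq, he⟩ := hH.affine hg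
    rw [he]
    exact List.mem_flatMap.2 ⟨a, hsq, List.mem_map.2 ⟨b, List.mem_range.2 hb, rfl⟩⟩
  have := Nat.le_of_dvd Nat.card_pos h1
  omega

theorem classify {g : Perm (Fin 11)} (hg : g ∈ normZ H sP) : pl g ∈ goodL := by
  obtain ⟨hgH, hgn⟩ := mem_normZ hg
  obtain ⟨j, hj, a, ha, b, hb, hj0, ha0, hb0, he⟩ := candidate_of_normalizes hgn
  have hnd : (mkN j a b).Nodup := he ▸ List.nodup_ofFn.2 (fun x y h => g.injective (Fin.ext h))
  have hc := class_ok j hj a ha b hb
  simp [classB, hj0, ha0, hb0, hnd] at hc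
  rcases hc with (h | h) | h
  · exact he ▸ h
  · exfalso
    obtain ⟨w, m, hd⟩ : ∃ w m, ((j, a, b), w, m) ∈ badD := by simpa using h
    have h3 := List.all_eq_true.1 bad_ok _ hd
    obtain ⟨t, ht, ht3⟩ := exists_threeCycle (G := H) [cP, sP, g] (by simp [hH.c_mem, hH.s_mem, hgH])
      (c := (w, m)) (by simpa [pl_cP, pl_sP, he] using h3)
    exact hH.no3 t ht ht3
  · exfalso
    obtain ⟨h1, h2⟩ := odd_ok _ h
    have h0 : pl (g ^ 5) = pl xP := by
      rw [pl_pow, he, h1, aff_nonsquare a ha h2, pl_xP]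
    have hm := hH.even (H.pow_mem hgH 5)
    rw [pl_injective h0, Perm.mem_alternatingGroup, sign_xP] at hm
    exact absurd hm (by decide)

end Std

end Cfsg.Lib.Deg11
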