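import Cfsg.Agent.Degree11.Pairs

/-!
Non-solvable transitive groups of degree eleven.
-/

set_option autoImplicit false

namespace Cfsg.Lib.Deg11

open Equiv Subgroup

theorem Std.sharp {H : Subgroup (Perm (Fin 11))} (hH : Std H) (i : Bool) (hcard : Nat.card H = 7920)
    {g : Perm (Fin 11)} (hgH : g ∈ H) (hg : pl g = gMd i) :
    MulAction.IsMultiplyPretransitive H (Fin 11) 4 ∧
      ∀ x : Fin 4 ↪ Fin 11, MulAction.stabilizer H x = ⊥ := by
  have hgs : ∀ u ∈ [cP, sP, g], u ∈ H := by simp [hH.c_mem, hH.s_mem, hgH]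
  have hreach : ∀ (x : Fin 4 ↪ Fin 11) (k : ℕ), k ≤ 4 →
      ∃ h : Perm (Fin 11), h ∈ H ∧ ∀ q : Fin 4, q.val < k → h (Fin.castLE (by norm_num) q) = x q := by
    intro x k
    induction k with
    | zero => exact fun _ => ⟨1, H.one_mem, fun q hq => absurd hq (by omega)⟩
    | succ k ih =>
      intro hk
      obtain ⟨h, hh, hhq⟩ := ih (by omega)
      set y := h⁻¹ (x ⟨k, by omega⟩) with hy
      have hky : k ≤ y.val := by
        by_contra hlt
        push Not at hlt
        have h1 := hhq ⟨y.val, by omega⟩ hlt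
        have h2 : h (Fin.castLE (by norm_num) (⟨y.val, by omega⟩ : Fin 4)) = x ⟨k, by omega⟩ := by
          rw [show Fin.castLE (by norm_num) (⟨y.val, by omega⟩ : Fin 4) = y from rfl, hy]
          simp
        have := congrArg Fin.val (x.injective (h1.symm.trans h2))
        simp at this
        omega
      obtain ⟨d, hd, hd1, hd2⟩ := trans_cover i k (by omega) y.val y.isLt hky
      obtain ⟨hfix, hmove⟩ := trans_ok i d hd
      have hw : pl (wval [cP, sP, g] d.2.2) = lword [cL, sL, gMd i] d.2.2 := by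
        rw [pl_wval]; simp [pl_cP, pl_sP, hg]
      refine ⟨h * wval [cP, sP, g] d.2.2, H.mul_mem hh (wval_mem _ hgs _), fun q hq => ?_⟩
      rw [Perm.mul_apply]
      rcases Nat.lt_succ_iff_lt_or_eq.1 hq with hq' | hq'
      · rw [show wval [cP, sP, g] d.2.2 (Fin.castLE (by norm_num) q) = Fin.castLE (by norm_num) q from
          Fin.ext (by rw [← pl_getD, hw]; exact hfix q.val (hd1.symm ▸ hq'))]
        exact hhq q hq'
      · rw [show wval [cP, sP, g] d.2.2 (Fin.castLE (by norm_num) q) = y from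
          Fin.ext (by rw [← pl_getD, hw, ← hd2, ← hmove, hd1, Fin.val_castLE, hq'])]
        rw [hy, show q = ⟨k, by omega⟩ from Fin.ext hq']
        simp
  have ht : MulAction.IsMultiplyPretransitive H (Fin 11) 4 := by
    refine ⟨fun x y => ?_⟩
    obtain ⟨a, ha, hax⟩ := hreach x 4 le_rfl
    obtain ⟨b, hb, hby⟩ := hreach y 4 le_rfl
    refine ⟨⟨b * a⁻¹, H.mul_mem hb (H.inv_mem ha)⟩, DFunLike.ext _ _ fun q => ?_⟩
    show (b * a⁻¹) (x q) = y q
    rw [← hax q q.isLt, ← hby q q.isLt]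
    simp
  refine ⟨ht, fun x => ?_⟩
  have hidx : (MulAction.stabilizer H x).index = 7920 := by
    have ho : MulAction.orbit H x = Set.univ := Set.eq_univ_of_forall fun z => ht.exists_smul_eq x z
    rw [MulAction.index_stabilizer]
    erw [ho]
    rw [Set.ncard_univ, Nat.card_eq_fintype_card, Fintype.card_embedding_eq,
      Fintype.card_fin, Fintype.card_fin]
    decide
  have h := (MulAction.stabilizer H x).card_mul_index
  rw [hidx, hcard] at h
  exact Subgroup.eq_bot_of_card_le _ (by omega)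

theorem classify_group {G : Subgroup (Perm (Fin 11))} (hc : cP ∈ G) (hG : ¬ Group.IsSolvable G)
    (hA : ¬ alternatingGroup (Fin 11) ≤ G) :
    (MulAction.IsMultiplyPretransitive G (Fin 11) 4 ∧ ∀ x : Fin 4 ↪ Fin 11, MulAction.stabilizer G x = ⊥) ∨
      Nonempty (G ≃* Matrix.ProjectiveSpecialLinearGroup (Fin 2) (ZMod 11)) := by
  haveI : Fact (Nat.Prime 11) := ⟨by norm_num⟩
  set H := G ⊓ alternatingGroup (Fin 11) with hHdef
  haveI : MulAction.IsPretransitive G (Fin 11) := by
    refine ⟨fun x y => ⟨⟨cP ^ (y.val + 11 - x.val), G.pow_mem hc _⟩, Fin.ext ?_⟩⟩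
    show ((cP ^ (y.val + 11 - x.val)) x).val = y.val
    rw [cP_pow_val]
    omega
  have hprim : MulAction.IsPreprimitive G (Fin 11) := MulAction.IsPreprimitive.of_prime_card (by
    rw [Nat.card_fin]; norm_num)
  have hno3 : ∀ g ∈ G, ¬ g.IsThreeCycle := fun g hg h3 =>
    hA (Equiv.Perm.alternatingGroup_le_of_isPreprimitive_of_isThreeCycle_mem hprim h3 hg)
  have hH : Std H := by
    refine ⟨inf_le_right, ⟨hc, Perm.mem_alternatingGroup.2 sign_cP⟩, fun hs => hG ?_, fun g hg => hno3 g hg.1⟩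
    haveI := hs
    refine Group.isSolvable_of_ker_le_range (Subgroup.inclusion (inf_le_left : H ≤ G))
      ((Perm.sign).comp G.subtype) fun g hg => ?_
    exact ⟨⟨g, g.2, Perm.mem_alternatingGroup.2 hg⟩, rfl⟩
  have hle : G ≤ alternatingGroup (Fin 11) := by
    intro g hg
    by_contra hodd
    have hsg : Perm.sign g = -1 := (Int.units_eq_one_or _).resolve_left fun h =>
      hodd (Perm.mem_alternatingGroup.2 h)
    have hconj : g * cP * g⁻¹ ∈ H := by
      refine ⟨G.mul_mem (G.mul_mem hg hc) (G.inv_mem hg), Perm.mem_alternatingGroup.2 ?_⟩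
      rw [map_mul, map_mul, map_inv, sign_cP, mul_one, mul_inv_cancel]
    obtain ⟨P, hP⟩ := sylow_zpowers hH.c_mem orderOf_cP hH.not_eleven_sq
    obtain ⟨Q, hQ⟩ := sylow_zpowers hconj (z := g * cP * g⁻¹)
      (by rw [← MulAut.conj_apply, MulEquiv.orderOf_eq, orderOf_cP]) hH.not_eleven_sq
    obtain ⟨h, hh⟩ := MulAction.exists_smul_eq H P Q
    have hmem : (⟨g * cP * g⁻¹, hconj⟩ : H) ∈ (Q : Subgroup H) := by
      rw [hQ, mem_subgroupOf]; exact mem_zpowers _
    rw [← hh, Sylow.coe_subgroup_smul, Subgroup.mem_pointwise_smul_iff_inv_smul_mem, hP, mem_subgroupOf] at hmem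
    set g' : Perm (Fin 11) := (h : Perm (Fin 11))⁻¹ * g with hg'
    have hn : g' * cP * g'⁻¹ ∈ zpowers cP := by
      convert hmem using 1
      show g' * cP * g'⁻¹ = (h : Perm (Fin 11))⁻¹ * (g * cP * g⁻¹) * (h : Perm (Fin 11))⁻¹⁻¹
      rw [hg']
      group
    obtain ⟨a, ha, b, hb, ha0, he⟩ := affine_of_normalizes hn
    set g'' := cP ^ (11 - b) * g' with hg''
    have he'' : pl g'' = affL a 0 := by rw [hg'', pl_mul, pl_pow, pl_cP, he, aff_shift a ha b hb]
    have hG'' : g'' ∈ G := G.mul_mem (G.pow_mem hc _) (G.mul_mem (G.inv_mem h.2.1) hg)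
    have hs'' : Perm.sign g'' = -1 := by
      rw [hg'', hg', map_mul, map_mul, map_pow, map_inv, sign_cP, one_pow, one_mul,
        Perm.mem_alternatingGroup.1 (hH.even h.2), inv_one, one_mul, hsg]
    have hcases : lpow (affL a 0) 5 = idL ∨ lpow (affL a 0) 5 = xL :=
      (by decide +kernel : ∀ a < 11, a ≠ 0 → lpow (affL a 0) 5 = idL ∨ lpow (affL a 0) 5 = xL) a ha ha0
    rcases hcases with h5 | h5
    · have h1 : g'' ^ 5 = 1 := pl_injective (by rw [pl_pow, he'', h5, pl_one])
      have h2 := congrArg Perm.sign h1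
      rw [map_pow, map_one, hs''] at h2
      exact absurd h2 (by decide)
    · have hx : xP ∈ G := by
        rw [show xP = g'' ^ 5 from pl_injective (by rw [pl_pow, he'', h5, pl_xP])]
        exact G.pow_mem hG'' 5
      rcases hH.order_cases with ⟨i, -, u, hu, hue⟩ | ⟨i, -, u, hu, hue⟩
      · obtain ⟨t, ht, ht3⟩ := exists_threeCycle (G := G) [cP, sP, u, xP]
          (List.forall_mem_cons.2 ⟨hc, List.forall_mem_cons.2 ⟨hH.s_mem.1, List.forall_mem_cons.2 ⟨hu.1,
            List.forall_mem_cons.2 ⟨hx, fun _ h => by simp at h⟩⟩⟩⟩) (c := xMd i) (by simpa [pl_cP, pl_sP, pl_xP, hue] using (x_ok i).1)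
        exact hno3 t ht ht3
      · obtain ⟨t, ht, ht3⟩ := exists_threeCycle (G := G) [cP, sP, u, xP]
          (List.forall_mem_cons.2 ⟨hc, List.forall_mem_cons.2 ⟨hH.s_mem.1, List.forall_mem_cons.2 ⟨hu.1,
            List.forall_mem_cons.2 ⟨hx, fun _ h => by simp at h⟩⟩⟩⟩) (c := xLd i) (by simpa [pl_cP, pl_sP, pl_xP, hue] using (x_ok i).2)
        exact hno3 t ht ht3
  have hHG : H = G := inf_eq_left.2 hle
  rw [hHG] at hH
  rcases hH.order_cases with ⟨i, hcard, u, hu, hue⟩ | ⟨i, hcard, u, hu, hue⟩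
  · exact Or.inl (hH.sharp i hcard hu hue)
  · exact Or.inr (hH.iso_psl i hcard hu hue)

theorem exists_labelling {α : Type*} [Fintype α] [DecidableEq α] (hα : Fintype.card α = 11)
    (G : Subgroup (Perm α)) [MulAction.IsPretransitive G α] :
    ∃ e : α ≃ Fin 11, cP ∈ G.map e.permCongrHom.toMonoidHom := by
  haveI : Fact (Nat.Prime 11) := ⟨by norm_num⟩
  obtain ⟨a⟩ : Nonempty α := Fintype.card_pos_iff.1 (by omega)
  have h11 : 11 ∣ Nat.card G := by
    have h := (MulAction.stabilizer G a).index_dvd_card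
    rwa [MulAction.index_stabilizer_of_transitive, Nat.card_eq_fintype_card, hα] at h
  obtain ⟨y, hy⟩ := exists_prime_orderOf_dvd_card' 11 h11
  set e₁ : α ≃ Fin 11 := Fintype.equivFinOfCardEq hα
  set z := e₁.permCongrHom (y : Perm α) with hz
  have hzo : orderOf z = 11 := by rw [hz, MulEquiv.orderOf_eq, orderOf_coe, hy]
  have hzc : z.IsCycle := Perm.isCycle_of_prime_order' (hzo.symm ▸ (by norm_num)) (by simp [hzo])
  have hcc : cP.IsCycle := Perm.isCycle_of_prime_order' (orderOf_cP.symm ▸ (by norm_num)) (by simp [orderOf_cP])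
  obtain ⟨σ, hσ⟩ := isConj_iff.1 (hzc.isConj hcc (by rw [← hzc.orderOf, ← hcc.orderOf, hzo, orderOf_cP]))
  refine ⟨e₁.trans σ, y, y.2, ?_⟩
  refine Equiv.ext fun x => ?_
  show (e₁.trans σ) ((y : Perm α) ((e₁.trans σ).symm x)) = cP x
  rw [← hσ]
  simp [hz, Equiv.permCongrHom]

theorem main {α : Type*} [Fintype α] [DecidableEq α] (hα : Fintype.card α = 11) (G : Subgroup (Perm α))
    [MulAction.IsPretransitive G α] (hG : ¬ Group.IsSolvable G) (hA : ¬ alternatingGroup α ≤ G) :
    (MulAction.IsMultiplyPretransitive G α 4 ∧ ∀ x : Fin 4 ↪ α, MulAction.stabilizer G x = ⊥) ∨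
      Nonempty (G ≃* Matrix.ProjectiveSpecialLinearGroup (Fin 2) (ZMod 11)) := by
  obtain ⟨e, he⟩ := exists_labelling hα G
  set φ := e.permCongrHom with hφ
  set G' := G.map φ.toMonoidHom with hG'
  let ψ : G ≃* G' := MulEquiv.subgroupMap φ G
  have hG1 : ¬ Group.IsSolvable G' := fun h => hG (by
    haveI := h
    exact Group.isSolvable_of_isSolvable_injective (f := ψ.toMonoidHom) ψ.injective)
  have hA1 : ¬ alternatingGroup (Fin 11) ≤ G' := fun h => hA fun g hg => by
    obtain ⟨g₀, hg₀, hge⟩ := h (show φ g ∈ alternatingGroup (Fin 11) by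
      rw [Perm.mem_alternatingGroup] at hg ⊢
      rw [← hg]
      exact Perm.sign_permCongr e g)
    rwa [← φ.injective hge]
  rcases classify_group he hG1 hA1 with ⟨ht, hs⟩ | hf
  · refine Or.inl ⟨⟨fun x y => ?_⟩, fun x => ?_⟩
    · obtain ⟨h, hh⟩ := ht.exists_smul_eq (x.trans e.toEmbedding) (y.trans e.toEmbedding)
      refine ⟨ψ.symm h, DFunLike.ext _ _ fun q => e.injective ?_⟩
      have := DFunLike.congr_fun hh q
      show e ((ψ.symm h : Perm α) (x q)) = e (y q)
      rw [show e (y q) = (y.trans e.toEmbedding) q from rfl, ← this]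
      have hval : (h : Perm (Fin 11)) = φ (ψ.symm h : Perm α) := by
        conv_lhs => rw [← ψ.apply_symm_apply h]
        rfl
      show _ = (h : Perm (Fin 11)) (e (x q))
      rw [hval]
      simp [hφ, Equiv.permCongrHom]
    · rw [eq_bot_iff_forall]
      intro g hg
      have h1 : ψ g ∈ MulAction.stabilizer G' (x.trans e.toEmbedding) := by
        refine DFunLike.ext _ _ fun q => ?_
        have := DFunLike.congr_fun (MulAction.mem_stabilizer_iff.1 hg) q
        show φ (g : Perm α) (e (x q)) = e (x q)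
        have h2 : (g : Perm α) (x q) = x q := this
        simp [hφ, Equiv.permCongrHom, h2]
      rw [hs, mem_bot] at h1
      exact ψ.injective (h1.trans ψ.map_one.symm)
  · obtain ⟨f⟩ := hf
    exact Or.inr ⟨ψ.trans f⟩

end Cfsg.Lib.Deg11
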