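import Cfsg.Agent.Degree11.Local

/-!
The order of a non-solvable transitive even group of degree eleven.
-/

set_option autoImplicit false

namespace Cfsg.Lib.Deg11

open Equiv Subgroup

namespace Std

variable {H : Subgroup (Perm (Fin 11))} (hH : Std H)

include hH

theorem s_mem_normZ : sP ∈ normZ H sP := ⟨hH.s_mem, le_normalizer (mem_zpowers sP)⟩

theorem good_mul {g h : Perm (Fin 11)} (hg : g ∈ normZ H sP) (hh : h ∈ normZ H sP) :
    lmul (pl g) (pl h) ∈ goodL := pl_mul g h ▸ hH.classify ((normZ H sP).mul_mem hg hh)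

theorem gen_mem {g : Perm (Fin 11)} (hg : g ∈ normZ H sP) (a b : ℕ) :
    ∃ k ∈ normZ H sP, pl k = lmul (lpow sL a) (lpow (pl g) b) := by
  refine ⟨sP ^ a * g ^ b, (normZ H sP).mul_mem ((normZ H sP).pow_mem hH.s_mem_normZ a) ((normZ H sP).pow_mem hg b), ?_⟩
  rw [pl_mul, pl_pow, pl_pow, pl_sP]

theorem normS_cases :
    (∃ i : Bool, Nat.card (normZ H sP) = 20 ∧ ∃ g ∈ normZ H sP, pl g = gMd i) ∨
    (∃ i : Bool, Nat.card (normZ H sP) = 10 ∧ ∃ g ∈ normZ H sP, pl g = gLd i) ∨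
    Nat.card (normZ H sP) = 5 := by
  by_cases hM : ∃ g ∈ normZ H sP, ∃ i : Bool, pl g ∈ km i ∧ pl g ∉ kl i
  · obtain ⟨g, hg, i, hgi, hgni⟩ := hM
    obtain ⟨hnd, hlen, hgen⟩ := km_shape i
    have hsub : ∀ x ∈ km i, ∃ k ∈ normZ H sP, pl k = x := fun x hx => by
      obtain ⟨a, -, b, -, rfl⟩ := km_gen i _ hgi hgni x hx
      exact hH.gen_mem hg a b
    refine Or.inl ⟨i, le_antisymm ?_ (hlen ▸ list_le_card hnd hsub), hsub _ hgen⟩
    refine hlen ▸ card_le_list fun h hh => ?_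
    rcases split_m i _ hgi hgni _ (hH.classify hh) with h' | h'
    · exact h'
    · exact absurd (hH.good_mul hg hh) h'
  simp only [not_exists, not_and] at hM
  by_cases hL : ∃ g ∈ normZ H sP, ∃ i : Bool, pl g ∈ kl i ∧ pl g ∉ sPow
  · obtain ⟨g, hg, i, hgi, hgni⟩ := hL
    obtain ⟨hnd, hlen, hgen, -, -⟩ := kl_shape i
    have hsub : ∀ x ∈ kl i, ∃ k ∈ normZ H sP, pl k = x := fun x hx => by
      obtain ⟨a, -, b, -, rfl⟩ := kl_gen i _ hgi hgni x hx
      exact hH.gen_mem hg a b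
    refine Or.inr (Or.inl ⟨i, le_antisymm ?_ (hlen ▸ list_le_card hnd hsub), hsub _ hgen⟩)
    refine hlen ▸ card_le_list fun h hh => ?_
    rcases split_l i _ hgi hgni _ (hH.classify hh) with ⟨j, hj, hj'⟩ | h' | h'
    · exact absurd hj' (hM h hh j hj)
    · exact h'
    · exact absurd (hH.good_mul hg hh) h'
  simp only [not_exists, not_and] at hL
  refine Or.inr (Or.inr (le_antisymm ?_ ?_))
  · refine sPow_shape.2 ▸ card_le_list fun h hh => ?_
    rcases good_split _ (hH.classify hh) with ⟨j, hj, hj'⟩ | ⟨j, hj, hj'⟩ | h'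
    · exact absurd hj' (hM h hh j hj)
    · exact absurd hj' (hL h hh j hj)
    · exact h'
  · refine sPow_shape.2 ▸ list_le_card sPow_shape.1 fun x hx => ?_
    obtain ⟨a, -, rfl⟩ := List.mem_map.1 hx
    exact ⟨sP ^ a, (normZ H sP).pow_mem hH.s_mem_normZ a, by rw [pl_pow, pl_sP]⟩

theorem normS_le : Nat.card (normZ H sP) ≤ 20 := by
  rcases hH.normS_cases with ⟨i, h, -⟩ | ⟨i, h, -⟩ | h <;> omega

theorem not_five_sq : ¬ 5 ^ 2 ∣ Nat.card H := by
  intro h25
  haveI : Fact (Nat.Prime 5) := ⟨by norm_num⟩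
  have hs : orderOf (⟨sP, hH.s_mem⟩ : H) = 5 := by rw [← orderOf_coe, orderOf_sP]
  obtain ⟨Q, hQ⟩ := (IsPGroup.of_card (n := 1) (by rw [Nat.card_zpowers, hs, pow_one]) :
    IsPGroup 5 (zpowers (⟨sP, hH.s_mem⟩ : H))).exists_le_sylow
  obtain ⟨k, hk⟩ := IsPGroup.iff_card.1 Q.2
  have hk2 : k = 2 := by
    have h1 : 5 ^ 2 ∣ 5 ^ k := hk ▸ Q.pow_dvd_card_of_pow_dvd_card h25
    have h2 : 5 ^ k ∣ 19958400 := hk ▸ (Subgroup.card_subgroup_dvd_card (Q : Subgroup H)).trans hH.card_dvd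
    have h1' := (Nat.pow_dvd_pow_iff_le_right (by norm_num : 1 < 5)).1 h1
    rcases Nat.lt_or_ge k 3 with h | h
    · omega
    · exact absurd ((pow_dvd_pow 5 h).trans h2) (by norm_num)
  rw [hk2] at hk
  have hcomm := IsPGroup.commutative_of_card_eq_prime_sq hk
  have hle : (Q : Subgroup H).map H.subtype ≤ normZ H sP := by
    rintro _ ⟨q, hq, rfl⟩
    have e : (q : H) * ⟨sP, hH.s_mem⟩ = ⟨sP, hH.s_mem⟩ * q :=
      congrArg Subtype.val (hcomm ⟨q, hq⟩ ⟨⟨sP, hH.s_mem⟩, hQ (mem_zpowers _)⟩)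
    have e' : (q : Perm (Fin 11)) * sP = sP * q := congrArg Subtype.val e
    have e'' : ∀ m : ℤ, (q : Perm (Fin 11)) * sP ^ m = sP ^ m * q := fun m => (Commute.zpow_right e' m).eq
    refine ⟨q.2, mem_normalizer_iff.2 fun x => ⟨?_, ?_⟩⟩
    · intro hx
      obtain ⟨m, rfl⟩ := mem_zpowers_iff.1 hx
      show (q : Perm (Fin 11)) * sP ^ m * (q : Perm (Fin 11))⁻¹ ∈ _
      rw [e'', mul_inv_cancel_right]
      exact zpow_mem_zpowers _ _
    · intro hx
      obtain ⟨m, hm⟩ := mem_zpowers_iff.1 hx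
      have hx' : x = sP ^ m := by
        change sP ^ m = (q : Perm (Fin 11)) * x * (q : Perm (Fin 11))⁻¹ at hm
        rw [eq_mul_inv_iff_mul_eq, ← e''] at hm
        exact (mul_left_cancel hm).symm
      rw [hx']
      exact zpow_mem_zpowers _ _
  have := (Subgroup.card_le_of_le hle).trans hH.normS_le
  rw [Nat.card_congr ((Q : Subgroup H).equivMapOfInjective _ H.subtype_injective).toEquiv.symm, hk] at this
  norm_num at this

theorem not_seven : ¬ 7 ∣ Nat.card H := by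
  intro h7
  haveI : Fact (Nat.Prime 7) := ⟨by norm_num⟩
  obtain ⟨y, hy⟩ := exists_prime_orderOf_dvd_card' 7 h7
  have hy' : orderOf (y : Perm (Fin 11)) = 7 := by rw [orderOf_coe, hy]
  have hcyc : (y : Perm (Fin 11)).IsCycle :=
    Perm.isCycle_of_prime_order' (hy'.symm ▸ (by norm_num)) (by simp [hy'])
  have hsupp : (y : Perm (Fin 11)).support.card = 7 := hcyc.orderOf ▸ hy'
  haveI := hH.pretransitive
  have hprim : MulAction.IsPreprimitive H (Fin 11) := MulAction.IsPreprimitive.of_prime_card (by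
    rw [Nat.card_fin]; norm_num)
  set S : Set (Fin 11) := ((y : Perm (Fin 11)).support : Set (Fin 11))ᶜ with hS
  haveI : MulAction.IsPretransitive (fixingSubgroup H S) (SubMulAction.ofFixingSubgroup H S) :=
    Equiv.Perm.isPretransitive_of_isCycle_mem hcyc y.2
  have hcard : Nat.card (SubMulAction.ofFixingSubgroup H S) = 7 := by
    show Nat.card ((SubMulAction.ofFixingSubgroup H S).carrier) = 7
    rw [SubMulAction.ofFixingSubgroup_carrier, hS, compl_compl, Nat.card_coe_set_eq, Set.ncard_coe_finset, hsupp]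
  have hSp : MulAction.IsPreprimitive (fixingSubgroup H S) (SubMulAction.ofFixingSubgroup H S) :=
    MulAction.IsPreprimitive.of_prime_card (by rw [hcard]; norm_num)
  have h4 : S.ncard = 3 + 1 := by
    rw [hS, Set.ncard_compl, Set.ncard_coe_finset, hsupp, Nat.card_fin]
  haveI hmp := hprim.isMultiplyPreprimitive h4 (by rw [Nat.card_fin]; norm_num) hSp
  have ht : MulAction.IsMultiplyPretransitive H (Fin 11) 5 := MulAction.IsMultiplyPreprimitive.isMultiplyPretransitive H (Fin 11) (3 + 2)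
  obtain ⟨g, hg⟩ := MulAction.exists_smul_eq H (Fin.castLEEmb (show 5 ≤ 11 by norm_num))
    ((Fin.castLEEmb (show 5 ≤ 11 by norm_num)).trans (Equiv.swap (0 : Fin 11) 1).toEmbedding)
  have hgv : ∀ q : Fin 5, ((g : Perm (Fin 11)) (Fin.castLE (by norm_num) q)).val
      = [1, 0, 2, 3, 4].getD q.val 0 := fun q => by
    have h := DFunLike.congr_fun hg q
    replace h : (g : Perm (Fin 11)) (Fin.castLE (by norm_num) q) =
        Equiv.swap (0 : Fin 11) 1 (Fin.castLE (by norm_num) q) := h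
    rw [h]
    clear h
    revert q
    decide +kernel
  set l := pl (g : Perm (Fin 11)) with hl
  have hnd : l.Nodup := List.nodup_ofFn.2 fun a b h => (g : Perm (Fin 11)).injective (Fin.ext h)
  have hlen : l.length = 11 := by simp [hl, pl]
  have hget : ∀ k < 11, l.getD k 0 < 11 := fun k hk => by
    rw [hl, pl_getD _ ⟨k, hk⟩]; exact Fin.isLt _
  have htake : l.take 5 = [1, 0, 2, 3, 4] := by
    refine List.ext_getElem (by simp [hlen]) fun k h₁ h₂ => ?_
    have hk : k < 5 := by simpa [hlen] using h₁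
    have := hgv ⟨k, hk⟩
    rw [← pl_getD] at this
    rw [List.getD_eq_getElem (l := [1, 0, 2, 3, 4]) _ h₂] at this
    rw [List.getElem_take, ← List.getD_eq_getElem (l := l) 0 (by omega)]
    exact this
  have hmem : l ∈ fiveD.map Prod.fst := by
    have h := covers_sound _ 6 [1, 0, 2, 3, 4] (l.drop 5) five_cover (by simp [hlen])
      (by rw [← htake, List.take_append_drop]; exact hnd) (fun v hv => by
        have hv' : v ∈ l := List.mem_of_mem_drop hv
        have hvlt : v < 11 := by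
          obtain ⟨k, hk, rfl⟩ := List.getElem_of_mem hv'
          rw [← List.getD_eq_getElem _ 0 hk]
          exact hget k (hlen ▸ hk)
        have hnot : v ∉ [1, 0, 2, 3, 4] := by
          intro hm
          rw [← htake] at hm
          rw [← List.take_append_drop 5 l] at hnd
          exact (List.disjoint_of_nodup_append hnd) hm hv
        exact (by decide : ∀ v < 11, v ∉ [1, 0, 2, 3, 4] → v ∈ [5, 6, 7, 8, 9, 10]) v hvlt hnot)
    rwa [← htake, List.take_append_drop] at h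
  obtain ⟨⟨l', w, m⟩, hd, (hd' : l' = l)⟩ := List.mem_map.1 hmem
  subst hd'
  have h3 := List.all_eq_true.1 five_ok _ hd
  obtain ⟨t, ht, ht3⟩ := exists_threeCycle (G := H) [cP, (g : Perm (Fin 11))] (by simp [hH.c_mem]) (c := (w, m))
    (by simpa [pl_cP, hl] using h3)
  exact hH.no3 t ht ht3

theorem order_cases :
    (∃ i : Bool, Nat.card H = 7920 ∧ ∃ g ∈ H, pl g = gMd i) ∨
    (∃ i : Bool, Nat.card H = 660 ∧ ∃ g ∈ H, pl g = gLd i) := by
  haveI : Fact (Nat.Prime 11) := ⟨by norm_num⟩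
  haveI : Fact (Nat.Prime 5) := ⟨by norm_num⟩
  obtain ⟨n, hn, hn1⟩ := sylow_count hH.c_mem orderOf_cP hH.not_eleven_sq
  rw [hH.card_normZ_cP] at hn
  obtain ⟨m, hm, hm1⟩ := sylow_count hH.s_mem orderOf_sP hH.not_five_sq
  have hdvd : n ∣ 10368 := by
    have h1 : n ∣ 10368 * 35 := Nat.dvd_of_mul_dvd_mul_left (show 0 < 55 by norm_num)
      (by rw [← hn]; exact hH.card_dvd)
    refine Nat.Coprime.dvd_of_dvd_mul_right ?_ h1
    rw [show 35 = 5 * 7 by norm_num]
    refine Nat.Coprime.mul_right ?_ ?_ <;> refine ((Nat.Prime.coprime_iff_not_dvd (by norm_num)).2 ?_).symm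
    · intro h
      exact hH.not_five_sq (hn ▸ (show 5 ^ 2 ∣ 55 * n by
        obtain ⟨e, rfl⟩ := h; exact ⟨11 * e, by ring⟩))
    · intro h
      exact hH.not_seven (hn ▸ h.mul_left 55)
  have hn' : n = 1 ∨ n = 12 ∨ n = 144 ∨ n = 1728 := by
    obtain ⟨a, b, ha, hb, rfl⟩ := Nat.dvd_mul.1 (show n ∣ 2 ^ 7 * 3 ^ 4 from hdvd)
    obtain ⟨i, hi, rfl⟩ := (Nat.dvd_prime_pow (by norm_num)).1 ha
    obtain ⟨j, hj, rfl⟩ := (Nat.dvd_prime_pow (by norm_num)).1 hb
    revert hn1
    clear * - hi hj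
    interval_cases i <;> interval_cases j <;> norm_num
  rcases hH.normS_cases with ⟨i, hk, g, hg, hgi⟩ | ⟨i, hk, g, hg, hgi⟩ | hk <;> rw [hk, hn] at hm
  · refine Or.inl ⟨i, ?_, g, hg.1, hgi⟩
    rcases hn' with rfl | rfl | rfl | rfl <;> omega
  · refine Or.inr ⟨i, ?_, g, hg.1, hgi⟩
    rcases hn' with rfl | rfl | rfl | rfl <;> omega
  · exfalso
    have h55 : Nat.card H = 55 := by rcases hn' with rfl | rfl | rfl | rfl <;> omega
    refine hH.not_solvable_of_normal_zpowers (fun g hg => ?_) h55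
    have hN : normZ H cP = H :=
      Subgroup.eq_of_le_of_card_ge inf_le_left (by rw [hH.card_normZ_cP, h55])
    exact (mem_normZ (show g ∈ normZ H cP by rw [hN]; exact hg)).2

end Std

end Cfsg.Lib.Deg11
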