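import Cfsg.Agent.Degree11.Order
import Cfsg.Agent.Classical.SL
import Cfsg.Agent.Classical.Misc.SLTwoTori

/-!
The group of order 660 as a projective special linear group.
-/

set_option autoImplicit false

namespace Cfsg.Lib.Deg11

open Equiv Subgroup Matrix

/-- The matrices of the generators. -/
def matsD : Bool → List (List ℕ)
  | false => matsL0
  | true => matsL1

/-- The table of pairs. -/
def pairD : Bool → List (List (List ℕ × List ℕ × ℕ × ℕ × List ℕ))
  | false => pairL0
  | true => pairL1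

/-- One row of the table. -/
def getP (i : Bool) (j : ℕ) : List ℕ × List ℕ × ℕ × ℕ × List ℕ :=
  ((pairD i).getD (j / 60) []).getD (j % 60) ([], [], 0, 0, [])

/-- Product of two 2 × 2 matrices modulo 11. -/
def mmul (A B : List ℕ) : List ℕ :=
  let a := A.getD 0 0; let b := A.getD 1 0; let c := A.getD 2 0; let d := A.getD 3 0
  let p := B.getD 0 0; let q := B.getD 1 0; let r := B.getD 2 0; let t := B.getD 3 0
  [(a * p + b * r) % 11, (a * q + b * t) % 11, (c * p + d * r) % 11, (c * q + d * t) % 11]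

/-- Negation modulo 11. -/
def mneg (A : List ℕ) : List ℕ := A.map fun z => (10 * z) % 11

/-- A matrix of determinant one. -/
def wf (A : List ℕ) : Bool :=
  (A.all fun z => decide (z < 11)) && A.length == 4 && (A.getD 0 0 * A.getD 3 0 + 121 - A.getD 1 0 * A.getD 2 0) % 11 == 1

/-- The checks on one row. -/
def pairOK (i : Bool) (j : ℕ) : Bool :=
  let r := getP i j
  wf r.2.1 &&
    ((List.range 3).all fun k =>
      let t := r.2.2.2.2.getD k 660
      decide (t < 660) && (lmul ([cL, sL, gLd i].getD k idL) r.1 == (getP i t).1) &&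
        (mmul ((matsD i).getD k []) r.2.1 == (getP i t).2.1 ||
          mneg (mmul ((matsD i).getD k []) r.2.1) == (getP i t).2.1)) &&
    (!(r.1 == idL) || r.2.1 == [1, 0, 0, 1] || r.2.1 == [10, 0, 0, 10]) &&
    (!(r.2.1.getD 1 0 == 0 && r.2.1.getD 2 0 == 0 && r.2.1.getD 0 0 == r.2.1.getD 3 0) || r.1 == idL)

theorem pair_ok : ∀ i : Bool, ((List.range 660).all (pairOK i)) = true := by decide +kernel

theorem mats_wf : ∀ i : Bool, (List.range 3).all (fun k => wf ((matsD i).getD k [])) = true := by decide +kernel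

theorem pair_zero : ∀ i : Bool, (getP i 0).1 = idL ∧ (getP i 0).2.1 = [1, 0, 0, 1] := by decide +kernel

local notation "SL11" => Matrix.SpecialLinearGroup (Fin 2) (ZMod 11)
local notation "PSL11" => Matrix.ProjectiveSpecialLinearGroup (Fin 2) (ZMod 11)

/-- The matrix of a list. -/
def toM (A : List ℕ) : Matrix (Fin 2) (Fin 2) (ZMod 11) :=
  !![(A.getD 0 0 : ZMod 11), (A.getD 1 0 : ZMod 11); (A.getD 2 0 : ZMod 11), (A.getD 3 0 : ZMod 11)]

/-- The group element of a list. -/
def toSL (A : List ℕ) : SL11 := if h : (toM A).det = 1 then ⟨toM A, h⟩ else 1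

/-- The projective element of a list. -/
def toPSL (A : List ℕ) : PSL11 := QuotientGroup.mk (toSL A)

theorem det_toM {A : List ℕ} (h : wf A = true) : (toM A).det = 1 := by
  simp only [wf, Bool.and_eq_true, beq_iff_eq] at h
  obtain ⟨⟨hlt, hlen⟩, hdet⟩ := h
  have hall : ∀ k, A.getD k 0 < 11 := fun k => by
    by_cases hk : k < A.length
    · rw [List.getD_eq_getElem _ _ hk]
      simpa using List.all_eq_true.1 hlt _ (List.getElem_mem hk)
    · rw [List.getD_eq_default _ _ (not_lt.1 hk)]
      norm_num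
  have hle : A.getD 1 0 * A.getD 2 0 ≤ A.getD 0 0 * A.getD 3 0 + 121 :=
    (Nat.mul_le_mul (hall 1).le (hall 2).le).trans (by omega)
  have h1 : ((A.getD 0 0 * A.getD 3 0 + 121 - A.getD 1 0 * A.getD 2 0 : ℕ) : ZMod 11) = ((1 : ℕ) : ZMod 11) := by
    rw [← ZMod.natCast_mod (A.getD 0 0 * A.getD 3 0 + 121 - A.getD 1 0 * A.getD 2 0) 11, hdet]
  rw [Nat.cast_sub hle, Nat.cast_add, Nat.cast_mul, Nat.cast_mul, show ((121 : ℕ) : ZMod 11) = 0 from by decide] at h1
  rw [Matrix.det_fin_two, toM]
  simpa using h1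

theorem coe_toSL {A : List ℕ} (h : wf A = true) : (toSL A : Matrix (Fin 2) (Fin 2) (ZMod 11)) = toM A := by
  exact congrArg Subtype.val (dif_pos (c := (toM A).det = 1) (t := fun h => (⟨toM A, h⟩ : SL11))
    (e := fun _ => (1 : SL11)) (det_toM h))

theorem toM_mmul (A B : List ℕ) : toM (mmul A B) = toM A * toM B := by
  simp only [toM, mmul, Matrix.mul_fin_two, List.getD_cons_zero, List.getD_cons_succ, ZMod.natCast_mod,
    Nat.cast_add, Nat.cast_mul]

theorem toM_mneg (A : List ℕ) (h : A.length = 4) : toM (mneg A) = -toM A := by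
  match A, h with
  | [a, b, c, d], _ =>
    have h10 : ((10 : ℕ) : ZMod 11) = -1 := by decide
    ext u v
    fin_cases u <;> fin_cases v <;> simp [toM, mneg, ZMod.natCast_mod] <;> (rw [show (10 : ZMod 11) = -1 from by decide]; ring)

theorem mk_eq_of_pm {X Y : SL11}
    (h : (Y : Matrix (Fin 2) (Fin 2) (ZMod 11)) = X ∨ (Y : Matrix (Fin 2) (Fin 2) (ZMod 11)) = -(X : Matrix (Fin 2) (Fin 2) (ZMod 11))) :
    (QuotientGroup.mk X : PSL11) = QuotientGroup.mk Y := by
  rw [QuotientGroup.eq, Matrix.SpecialLinearGroup.mem_center_iff]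
  rcases h with h | h
  · exact ⟨1, by simp, by rw [Matrix.SpecialLinearGroup.coe_mul, h, ← Matrix.SpecialLinearGroup.coe_mul, inv_mul_cancel]; simp⟩
  · refine ⟨-1, by simp, ?_⟩
    rw [Matrix.SpecialLinearGroup.coe_mul, h, mul_neg, ← Matrix.SpecialLinearGroup.coe_mul, inv_mul_cancel]
    ext u v
    fin_cases u <;> fin_cases v <;> simp

theorem card_psl : Nat.card PSL11 = 660 := by
  haveI : Fact (Nat.Prime 11) := ⟨by norm_num⟩
  have h := Cfsg.Lib.Classical.gcd_mul_card_PSL (ι := Fin 2) (F := ZMod 11)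
  rw [Cfsg.Lib.Classical.SLTwoTori.card_SL2, Fintype.card_fin, Nat.card_zmod, ZMod.card] at h
  norm_num at h ⊢
  omega

/-- The pairs of the table. -/
def rowSet (i : Bool) : Set (Perm (Fin 11) × PSL11) :=
  {q | ∃ j < 660, pl q.1 = (getP i j).1 ∧ q.2 = toPSL (getP i j).2.1}

/-- The paired generators. -/
def pairGens (i : Bool) (g : Perm (Fin 11)) : List (Perm (Fin 11) × PSL11) :=
  [(cP, toPSL ((matsD i).getD 0 [])), (sP, toPSL ((matsD i).getD 1 [])), (g, toPSL ((matsD i).getD 2 []))]

theorem row_spec (i : Bool) {j : ℕ} (hj : j < 660) : wf (getP i j).2.1 = true ∧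
    (∀ k < 3, ∃ t < 660, lmul ([cL, sL, gLd i].getD k idL) (getP i j).1 = (getP i t).1 ∧
      toPSL ((matsD i).getD k []) * toPSL (getP i j).2.1 = toPSL (getP i t).2.1) ∧
    ((getP i j).1 = idL → toPSL (getP i j).2.1 = 1) ∧
    (toPSL (getP i j).2.1 = 1 → (getP i j).1 = idL) := by
  have h := List.all_eq_true.1 (pair_ok i) j (List.mem_range.2 hj)
  simp only [pairOK, Bool.and_eq_true, List.all_eq_true, List.mem_range, decide_eq_true_eq, beq_iff_eq,
    Bool.or_eq_true, Bool.not_eq_true', beq_eq_false_iff_ne, Bool.and_eq_false_iff] at h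
  obtain ⟨⟨⟨hw, hk⟩, hid⟩, hsc⟩ := h
  refine ⟨hw, fun k hk3 => ?_, fun he => ?_, fun he => ?_⟩
  · obtain ⟨⟨ht, hp⟩, hm⟩ := hk k hk3
    have hwt : wf (getP i ((getP i j).2.2.2.2.getD k 660)).2.1 = true := by
      have h := List.all_eq_true.1 (pair_ok i) _ (List.mem_range.2 ht)
      simp only [pairOK, Bool.and_eq_true] at h
      exact h.1.1.1
    have hwk : wf ((matsD i).getD k []) = true := List.all_eq_true.1 (mats_wf i) k (List.mem_range.2 hk3)
    refine ⟨_, ht, hp, ?_⟩
    rw [toPSL, toPSL, toPSL, ← QuotientGroup.mk_mul]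
    refine mk_eq_of_pm ?_
    rw [Matrix.SpecialLinearGroup.coe_mul, coe_toSL hwk, coe_toSL hw, coe_toSL hwt, ← toM_mmul]
    rcases hm with hm | hm
    · exact Or.inl (by rw [hm])
    · exact Or.inr (by rw [← hm, toM_mneg _ rfl])
  · rcases hid with (hid | hid) | hid
    · exact absurd he hid
    · rw [toPSL, ← QuotientGroup.mk_one]
      refine mk_eq_of_pm (Or.inl ?_)
      rw [coe_toSL hw, hid, Matrix.SpecialLinearGroup.coe_one]
      ext u v
      fin_cases u <;> fin_cases v <;> simp [toM]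
    · rw [toPSL, ← QuotientGroup.mk_one]
      refine mk_eq_of_pm (Or.inr ?_)
      rw [coe_toSL hw, hid, Matrix.SpecialLinearGroup.coe_one]
      ext u v
      fin_cases u <;> fin_cases v <;> simp [toM] <;> decide
  · rcases hsc with hsc | hsc
    · exfalso
      rw [toPSL, QuotientGroup.eq_one_iff, Matrix.SpecialLinearGroup.mem_center_iff] at he
      obtain ⟨r, -, hr⟩ := he
      rw [coe_toSL hw] at hr
      simp only [wf, Bool.and_eq_true, List.all_eq_true, decide_eq_true_eq, beq_iff_eq] at hw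
      have hall : ∀ k, (getP i j).2.1.getD k 0 < 11 := fun k => by
        by_cases hk : k < (getP i j).2.1.length
        · rw [List.getD_eq_getElem _ _ hk]; exact hw.1.1 _ (List.getElem_mem hk)
        · rw [List.getD_eq_default _ _ (not_lt.1 hk)]; norm_num
      have hinj : ∀ x y : ℕ, x < 11 → y < 11 → (x : ZMod 11) = (y : ZMod 11) → x = y := fun x y hx hy e => by
        have := congrArg ZMod.val e
        rwa [ZMod.val_natCast, ZMod.val_natCast, Nat.mod_eq_of_lt hx, Nat.mod_eq_of_lt hy] at this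
      have e00 := congrFun (congrFun hr 0) 0
      have e01 := congrFun (congrFun hr 0) 1
      have e10 := congrFun (congrFun hr 1) 0
      have e11 := congrFun (congrFun hr 1) 1
      simp [toM] at e00 e01 e10 e11
      rcases hsc with (hsc | hsc) | hsc
      · exact hsc (hinj _ _ (hall 1) (by norm_num) (by simpa using e01.symm))
      · exact hsc (hinj _ _ (hall 2) (by norm_num) (by simpa using e10.symm))
      · exact hsc (hinj _ _ (hall 0) (hall 3) (by simpa using e00.symm.trans e11))
    · exact hsc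

theorem closure_pairs_le (i : Bool) {g : Perm (Fin 11)} (hg : pl g = gLd i) :
    (closure {q | q ∈ pairGens i g} : Set (Perm (Fin 11) × PSL11)) ⊆ rowSet i := by
  have hone : (1 : Perm (Fin 11) × PSL11) ∈ rowSet i := by
    refine ⟨0, by norm_num, by rw [Prod.fst_one, pl_one, (pair_zero i).1], ?_⟩
    exact ((row_spec i (by norm_num)).2.2.1 (pair_zero i).1).symm
  have hstep : ∀ u ∈ pairGens i g, ∀ q ∈ rowSet i, u * q ∈ rowSet i := by
    intro u hu q ⟨j, hj, hq1, hq2⟩
    obtain ⟨k, hk, hku⟩ := List.getElem_of_mem hu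
    have hk3 : k < 3 := by simpa [pairGens] using hk
    obtain ⟨t, ht, hp, hm⟩ := (row_spec i hj).2.1 k hk3
    refine ⟨t, ht, ?_, ?_⟩
    · rw [← hku, Prod.fst_mul, pl_mul, hq1, ← hp]
      congr 1
      rcases k with _ | _ | _ | k
      · simp [pairGens, pl_cP]
      · simp [pairGens, pl_sP]
      · simp [pairGens, hg]
      · omega
    · rw [← hku, Prod.snd_mul, hq2, ← hm]
      congr 1
      rcases k with _ | _ | _ | k
      · simp [pairGens]
      · simp [pairGens]
      · simp [pairGens]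
      · omega
  intro x hx
  induction hx using Subgroup.closure_induction_left with
  | one => exact hone
  | mul_left u hu q _ ih => exact hstep u hu q ih
  | inv_mul_cancel u hu q _ ih =>
    have hpow : ∀ n : ℕ, u ^ n * q ∈ rowSet i := fun n => by
      induction n with
      | zero => simpa using ih
      | succ n ihn => rw [pow_succ', mul_assoc]; exact hstep u hu _ ihn
    have e : u⁻¹ = u ^ (orderOf u - 1) := by
      rw [inv_eq_iff_mul_eq_one, ← pow_succ', Nat.sub_add_cancel (orderOf_pos u), pow_orderOf_eq_one]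
    rw [e]
    exact hpow _

theorem Std.iso_psl {H : Subgroup (Perm (Fin 11))} (hH : Std H) (i : Bool) (hcard : Nat.card H = 660)
    {g : Perm (Fin 11)} (hgH : g ∈ H) (hg : pl g = gLd i) : Nonempty (H ≃* PSL11) := by
  haveI : Fact (Nat.Prime 11) := ⟨by norm_num⟩
  set L : Subgroup (Perm (Fin 11)) := closure {cP, sP, g} with hL
  have hLH : L ≤ H := (closure_le _).2 (by
    rintro x (rfl | rfl | rfl)
    exacts [hH.c_mem, hH.s_mem, hgH])
  have hcL : cP ∈ L := subset_closure (Or.inl rfl)
  have hsL : sP ∈ L := subset_closure (Or.inr (Or.inl rfl))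
  have hgL : g ∈ L := subset_closure (Or.inr (Or.inr rfl))
  have h55 : Nat.card (normZ L cP) = 55 := by
    have hle : normZ L cP ≤ normZ H cP := inf_le_inf_right _ hLH
    have h1 := hH.card_normZ_cP ▸ Subgroup.card_dvd_of_le hle
    have hs : sP ∈ normZ L cP := by
      refine ⟨hsL, ?_⟩
      have hN : normZ H cP ≤ normalizer (zpowers cP : Set (Perm (Fin 11))) := inf_le_right
      exact hN hH.sP_mem_normZ
    have hc : cP ∈ normZ L cP := ⟨hcL, le_normalizer (mem_zpowers cP)⟩
    have a := orderOf_dvd_natCard (⟨cP, hc⟩ : normZ L cP)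
    have b := orderOf_dvd_natCard (⟨sP, hs⟩ : normZ L cP)
    rw [← orderOf_coe, orderOf_cP] at a
    rw [← orderOf_coe, orderOf_sP] at b
    exact Nat.dvd_antisymm h1 ((show Nat.Coprime 11 5 by norm_num).mul_dvd_of_dvd_of_dvd a b)
  obtain ⟨m, hm, hm1⟩ := sylow_count hcL orderOf_cP (fun h =>
    hH.not_eleven_sq (h.trans (Subgroup.card_dvd_of_le hLH)))
  rw [h55] at hm
  have hm12 : m ∣ 12 := Nat.dvd_of_mul_dvd_mul_left (show 0 < 55 by norm_num)
    (by rw [← hm, show 55 * 12 = Nat.card H by rw [hcard]]; exact Subgroup.card_dvd_of_le hLH)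
  have hm' : m = 12 := by
    have hle := Nat.le_of_dvd (by norm_num) hm12
    rcases eq_or_ne m 1 with rfl | hne
    · exfalso
      have hN : normZ L cP = L := Subgroup.eq_of_le_of_card_ge inf_le_left (by omega)
      obtain ⟨a, ha, b, hb, -, he⟩ := affine_of_normalizes (mem_normZ (show g ∈ normZ L cP by rw [hN]; exact hgL)).2
      exact (kl_shape i).2.2.2.2 a ha b hb (hg.symm.trans he)
    · interval_cases m <;> simp_all
  have hLeq : L = H := Subgroup.eq_of_le_of_card_ge hLH (by rw [hm, hm', hcard])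
  set Γ : Subgroup (Perm (Fin 11) × PSL11) := closure {q | q ∈ pairGens i g} with hΓ
  have hsub := closure_pairs_le i hg
  have hmap : Γ.map (MonoidHom.fst _ _) = L := by
    rw [hΓ, MonoidHom.map_closure, hL]
    congr 1
    ext x
    simp [pairGens]
    tauto
  have hinj1 : Function.Injective (fun q : Γ => (q : Perm (Fin 11) × PSL11).1) := by
    have hk : ∀ q ∈ Γ, q.1 = 1 → q = 1 := fun q hq h1 => by
      obtain ⟨j, hj, hq1, hq2⟩ := hsub hq
      rw [h1, pl_one] at hq1
      exact Prod.ext h1 (hq2.trans ((row_spec i hj).2.2.1 hq1.symm))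
    intro a b h
    have := hk _ (Γ.mul_mem a.2 (Γ.inv_mem b.2)) (by simp only [Prod.fst_mul, Prod.fst_inv]; exact mul_inv_eq_one.2 h)
    exact Subtype.ext (mul_inv_eq_one.1 this)
  have hinj2 : Function.Injective ((MonoidHom.snd _ _).comp Γ.subtype) := by
    refine (injective_iff_map_eq_one _).2 fun q h2 => ?_
    obtain ⟨j, hj, hq1, hq2⟩ := hsub q.2
    have h1 := (row_spec i hj).2.2.2 (hq2.symm.trans h2)
    refine Subtype.ext (Prod.ext (pl_injective ?_) h2)
    rw [hq1, h1]
    exact pl_one.symm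
  let e1 : Γ ≃* Γ.map (MonoidHom.fst (Perm (Fin 11)) PSL11) :=
    MulEquiv.ofBijective ((MonoidHom.fst (Perm (Fin 11)) PSL11).subgroupMap Γ)
      ⟨fun a b h => hinj1 (congrArg Subtype.val h), MonoidHom.subgroupMap_surjective _ _⟩
  let e2 : Γ ≃* H := e1.trans (MulEquiv.subgroupCongr (hmap.trans hLeq))
  have hcΓ : Nat.card Γ = Nat.card PSL11 := by rw [Nat.card_congr e2.toEquiv, hcard, card_psl]
  haveI : Finite PSL11 := Nat.finite_of_card_ne_zero (by rw [card_psl]; norm_num)
  exact ⟨e2.symm.trans (MulEquiv.ofBijective _ ((Nat.bijective_iff_injective_and_card _).2 ⟨hinj2, hcΓ⟩))⟩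

end Cfsg.Lib.Deg11
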